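import Mathlib

/-!
# Aschbacher's criterion, commutative case (C5): the 2-groups `Q`

`QE Q E k` : with `q = 2 ^ k`, `Q` is a group of order `q ^ 3`, `E` a central elementary abelian
subgroup of order `q` containing the squares and the involutions of `Q`.
-/

set_option autoImplicit false

namespace Cfsg.Agent.AschCrit.CommFive

variable {Γ : Type*} [Group Γ] {Q E : Subgroup Γ} {k : ℕ}

/-- a group of order `q ^ 3` like a Sylow 2-subgroup of `PSU₃(q)`, `q = 2 ^ k` -/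
structure QE (Q E : Subgroup Γ) (k : ℕ) : Prop where
  fin : Finite Q
  le : E ≤ Q
  card_E : Nat.card E = 2 ^ k
  card_Q : Nat.card Q = (2 ^ k) ^ 3
  two_le : 2 ≤ k
  central : ∀ e ∈ E, ∀ x ∈ Q, Commute e x
  el : ∀ e ∈ E, e * e = 1
  sq : ∀ x ∈ Q, x * x ∈ E
  inv : ∀ x ∈ Q, x * x = 1 → x ∈ E

/-- an element of odd order normalising `Q`, with centraliser `E` in `Q` -/
structure YE (Q E : Subgroup Γ) (y : Γ) : Prop where
  norm : ∀ x ∈ Q, y * x * y⁻¹ ∈ Q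
  comm : ∀ e ∈ E, Commute y e
  odd : Odd (orderOf y)
  cent : ∀ x ∈ Q, Commute y x → x ∈ E

theorem QE.inv_eq (h : QE Q E k) {e : Γ} (he : e ∈ E) : e⁻¹ = e :=
  inv_eq_of_mul_eq_one_left (h.el e he)

theorem QE.comm_mem (h : QE Q E k) {x y : Γ} (hx : x ∈ Q) (hy : y ∈ Q) :
    x⁻¹ * y⁻¹ * x * y ∈ E := by
  have e : x⁻¹ * y⁻¹ * x * y = (x⁻¹ * x⁻¹) * ((x * y⁻¹) * (x * y⁻¹)) * (y * y) := by group
  rw [e]
  exact mul_mem (mul_mem (h.sq _ (inv_mem hx)) (h.sq _ (mul_mem hx (inv_mem hy)))) (h.sq _ hy)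

/-- conjugation of an element `x` with `x⁻¹ (t x t⁻¹)` in `E` -/
theorem conj_pow_eq {t x e : Γ} (hte : Commute t e) (hx : t * x * t⁻¹ = x * e) (m : ℕ) :
    t ^ m * x * (t ^ m)⁻¹ = x * e ^ m := by
  induction m with
  | zero => simp
  | succ m ih =>
    have h1 : t * e ^ m * t⁻¹ = e ^ m := by
      rw [(hte.pow_right m).eq, mul_inv_cancel_right]
    calc t ^ (m + 1) * x * (t ^ (m + 1))⁻¹ = t * (t ^ m * x * (t ^ m)⁻¹) * t⁻¹ := by
          rw [pow_succ']; group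
      _ = (t * x * t⁻¹) * (t * e ^ m * t⁻¹) := by rw [ih]; group
      _ = x * e ^ (m + 1) := by rw [hx, h1, mul_assoc, ← pow_succ']

theorem YE.mem_of (h : QE Q E k) {y : Γ} (hy : YE Q E y) {x : Γ} (hx : x ∈ Q)
    (hxy : x⁻¹ * (y * x * y⁻¹) ∈ E) : x ∈ E := by
  set e := x⁻¹ * (y * x * y⁻¹) with he
  have h1 : y * x * y⁻¹ = x * e := by rw [he]; group
  have h2 := conj_pow_eq (hy.comm e hxy) h1 (orderOf y)
  rw [pow_orderOf_eq_one, inv_one, mul_one, one_mul] at h2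
  have h3 : e ^ orderOf y = 1 := (mul_eq_left.mp h2.symm)
  obtain ⟨m, hm⟩ := hy.odd
  have h4 : e ^ 2 = 1 := by rw [pow_two]; exact h.el e hxy
  rw [hm, pow_succ, pow_mul, h4, one_pow, one_mul] at h3
  rw [h3, mul_one] at h1
  exact hy.cent x hx (by
    show y * x = x * y
    rw [← mul_inv_eq_iff_eq_mul]; exact h1)

/-- the order of `Q` from the fibres of squaring -/
theorem QE.card_mid (h : QE Q E k) {Q₀ : Subgroup Γ} (h1 : E ≤ Q₀) (h2 : Q₀ ≤ Q)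
    (hX : ∀ d ∈ E, ∀ e ∈ E, d ≠ 1 → e ≠ 1 → ∃ g : Γ, (∀ x ∈ Q₀, g * x * g⁻¹ ∈ Q₀) ∧
      g * d * g⁻¹ = e) :
    ∃ n : ℕ, Nat.card Q₀ = 2 ^ k + (2 ^ k - 1) * n ∧
      ∀ e ∈ E, e ≠ 1 → Nat.card {x : Q₀ // (x : Γ) * x = e} = n := by
  classical
  have hfQ : Finite Q := h.fin
  have hf0 : Finite Q₀ := Finite.of_injective _ (Subgroup.inclusion_injective h2)
  have hfE : Finite E := Finite.of_injective _ (Subgroup.inclusion_injective h.le)
  have hle : ∀ d ∈ E, ∀ e ∈ E, d ≠ 1 → e ≠ 1 →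
      Nat.card {x : Q₀ // (x : Γ) * x = d} ≤ Nat.card {x : Q₀ // (x : Γ) * x = e} := by
    intro d hd e he hd1 he1
    obtain ⟨g, hg, hge⟩ := hX d hd e he hd1 he1
    refine Nat.card_le_card_of_injective
      (fun x => (⟨⟨g * x.1 * g⁻¹, hg _ x.1.2⟩, ?_⟩ : {x : Q₀ // (x : Γ) * x = e})) ?_
    · show g * x.1 * g⁻¹ * (g * x.1 * g⁻¹) = e
      have h3 := x.2
      calc g * (x.1 : Γ) * g⁻¹ * (g * x.1 * g⁻¹) = g * ((x.1 : Γ) * x.1) * g⁻¹ := by group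
        _ = e := by rw [h3, hge]
    · intro x y hxy
      have h3 : g * (x.1 : Γ) * g⁻¹ = g * (y.1 : Γ) * g⁻¹ := congrArg (fun w => ((w.1 : Q₀) : Γ)) hxy
      exact Subtype.ext (Subtype.ext (mul_left_cancel (mul_right_cancel h3)))
  -- an element of `E` different from one
  obtain ⟨d, hd1⟩ : ∃ d : E, d ≠ 1 := by
    have h3 : 1 < Nat.card E := by
      rw [h.card_E]; exact Nat.one_lt_two_pow (by have := h.two_le; omega)
    have h4 : Nontrivial E := Finite.one_lt_card_iff_nontrivial.mp h3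
    exact exists_ne 1
  have hd1' : (d : Γ) ≠ 1 := fun hh => hd1 (Subtype.ext hh)
  refine ⟨Nat.card {x : Q₀ // (x : Γ) * x = d}, ?_, fun e he he1 =>
    le_antisymm (hle e he d d.2 he1 hd1') (hle d d.2 e he hd1' he1)⟩
  set n := Nat.card {x : Q₀ // (x : Γ) * x = d} with hn
  have hn' : ∀ e : E, e ≠ 1 → Nat.card {x : Q₀ // (x : Γ) * x = (e : Γ)} = n := fun e he =>
    le_antisymm (hle e e.2 d d.2 (fun hh => he (Subtype.ext hh)) hd1')
      (hle d d.2 e e.2 hd1' (fun hh => he (Subtype.ext hh)))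
  have hone : Nat.card {x : Q₀ // (x : Γ) * x = ((1 : E) : Γ)} = 2 ^ k := by
    rw [← h.card_E]
    refine Nat.card_congr
      { toFun := fun x => ⟨x.1, h.inv _ (h2 x.1.2) x.2⟩
        invFun := fun e => ⟨⟨e, h1 e.2⟩, h.el e e.2⟩
        left_inv := fun _ => rfl
        right_inv := fun _ => rfl }
  let f : Q₀ → E := fun x => ⟨(x : Γ) * x, h.sq _ (h2 x.2)⟩
  let eqv : Q₀ ≃ Σ e : E, {x : Q₀ // (x : Γ) * x = (e : Γ)} :=
    (Equiv.sigmaFiberEquiv f).symm.trans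
      (Equiv.sigmaCongrRight fun e => Equiv.subtypeEquivRight fun x =>
        ⟨fun hh => congrArg Subtype.val hh, fun hh => Subtype.ext hh⟩)
  have hfin : Fintype E := Fintype.ofFinite E
  rw [Nat.card_congr eqv, Nat.card_sigma, ← Finset.add_sum_erase Finset.univ _ (Finset.mem_univ 1),
    hone, Finset.sum_congr rfl (fun e he => hn' e (Finset.ne_of_mem_erase he)),
    Finset.sum_const, Finset.card_erase_of_mem (Finset.mem_univ _), Finset.card_univ,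
    ← Nat.card_eq_fintype_card, h.card_E, smul_eq_mul]

theorem dvd_of_pow_sub_one_dvd {k m : ℕ} (h : 2 ^ k - 1 ∣ 2 ^ m - 1) : k ∣ m := by
  have h1 := Nat.pow_sub_one_mod_pow_sub_one 2 k m
  rw [Nat.mod_eq_zero_of_dvd h] at h1
  have h2 : 2 ^ (m % k) = 1 := by
    have : 1 ≤ 2 ^ (m % k) := Nat.one_le_two_pow
    omega
  have h3 : m % k = 0 := by
    by_contra h4
    have := Nat.one_lt_two_pow h4
    omega
  exact Nat.dvd_of_mod_eq_zero h3

theorem QE.card_cases (h : QE Q E k) {Q₀ : Subgroup Γ} (h1 : E ≤ Q₀) (h2 : Q₀ ≤ Q)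
    (hX : ∀ d ∈ E, ∀ e ∈ E, d ≠ 1 → e ≠ 1 → ∃ g : Γ, (∀ x ∈ Q₀, g * x * g⁻¹ ∈ Q₀) ∧
      g * d * g⁻¹ = e) :
    Nat.card Q₀ = 2 ^ k ∨ Nat.card Q₀ = (2 ^ k) ^ 2 ∨ Nat.card Q₀ = (2 ^ k) ^ 3 := by
  obtain ⟨n, hn, -⟩ := h.card_mid h1 h2 hX
  have hd1 : Nat.card Q₀ ∣ 2 ^ (k * 3) := by
    rw [pow_mul, ← h.card_Q]; exact Subgroup.card_dvd_of_le h2
  obtain ⟨j, hj, hj'⟩ := (Nat.dvd_prime_pow Nat.prime_two).mp hd1
  have hd2 : 2 ^ k ∣ 2 ^ j := by
    rw [← hj', ← h.card_E]; exact Subgroup.card_dvd_of_le h1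
  have hkj : k ≤ j := (Nat.pow_dvd_pow_iff_le_right (by norm_num)).mp hd2
  obtain ⟨m, rfl⟩ := Nat.exists_eq_add_of_le hkj
  have h4 : 2 ^ k - 1 ∣ 2 ^ m - 1 := by
    have h5 : 2 ^ k * (2 ^ m - 1) = (2 ^ k - 1) * n := by
      rw [Nat.mul_sub, mul_one, ← pow_add, ← hj', hn]
      omega
    have h6 : Nat.Coprime (2 ^ k - 1) (2 ^ k) := by
      have h7 : 1 ≤ 2 ^ k := Nat.one_le_two_pow
      have h8 : 2 ^ k = (2 ^ k - 1) + 1 := by omega
      conv_rhs => rw [h8]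
      exact (Nat.coprime_self_add_right).mpr (Nat.coprime_one_right _)
    exact h6.dvd_of_dvd_mul_left ⟨n, h5⟩
  obtain ⟨c, rfl⟩ := dvd_of_pow_sub_one_dvd h4
  have hk0 : 0 < k := by have := h.two_le; omega
  have hc : c ≤ 2 := by
    by_contra hc
    have : k * 3 ≤ k * c := Nat.mul_le_mul_left k (by omega)
    omega
  rw [hj']
  interval_cases c
  · left; simp
  · right; left; rw [mul_one, ← pow_mul]; congr 1; ring
  · right; right; rw [← pow_mul]; congr 1; ring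

/-- `Q` is irreducible above `E` under a group transitive on `E - 1` and `y` -/
theorem QE.eq_of_invariant (h : QE Q E k) {y : Γ} (hy : YE Q E y) {Q₀ : Subgroup Γ} (h1 : E ≤ Q₀)
    (h2 : Q₀ ≤ Q) (hX : ∀ d ∈ E, ∀ e ∈ E, d ≠ 1 → e ≠ 1 → ∃ g : Γ, (∀ x ∈ Q₀, g * x * g⁻¹ ∈ Q₀) ∧
      g * d * g⁻¹ = e) (hyQ : ∀ x ∈ Q₀, y * x * y⁻¹ ∈ Q₀) {p : Γ} (hp : p ∈ Q₀) (hpE : p ∉ E) :
    Q₀ = Q := by
  have hfQ : Finite Q := h.fin
  have hf0 : Finite Q₀ := Finite.of_injective _ (Subgroup.inclusion_injective h2)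
  have hfE : Finite E := Finite.of_injective _ (Subgroup.inclusion_injective h.le)
  rcases h.card_cases h1 h2 hX with hc | hc | hc
  · exfalso
    have h3 : E = Q₀ := Subgroup.eq_of_le_of_card_ge h1 (by rw [hc, h.card_E])
    exact hpE (h3 ▸ hp)
  · exfalso
    obtain ⟨n, hn, hn'⟩ := h.card_mid h1 h2 hX
    have hq : 1 < 2 ^ k := Nat.one_lt_two_pow (by have := h.two_le; omega)
    have hnq : n = 2 ^ k := by
      obtain ⟨q, hq'⟩ : ∃ q, 2 ^ k = q + 1 := ⟨2 ^ k - 1, by omega⟩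
      rw [hc, hq'] at hn
      rw [hq']
      have h3 : q * n = q * (q + 1) := by
        have : (q + 1) ^ 2 = q + 1 + (q + 1 - 1) * n := hn
        have h4 : q + 1 - 1 = q := by omega
        rw [h4] at this
        nlinarith
      exact Nat.eq_of_mul_eq_mul_left (by omega) h3
    have he1 : p * p ≠ 1 := fun hh => hpE (h.inv p (h2 hp) hh)
    have heE : p * p ∈ E := h.sq p (h2 hp)
    have h4 := hn' (p * p) heE he1
    -- the coset `p E` is the fibre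
    have hinj : Function.Injective (fun e : E => (⟨⟨p * e, mul_mem hp (h1 e.2)⟩, by
        show p * e * (p * e) = p * p
        have := (h.central e e.2 p (h2 hp)).eq
        calc p * (e : Γ) * (p * e) = p * (e * p) * e := by group
          _ = p * p * (e * e) := by rw [this]; group
          _ = p * p := by rw [h.el e e.2, mul_one]⟩ :
        {x : Q₀ // (x : Γ) * x = p * p})) := by
      intro e e' hee
      have h5 : p * (e : Γ) = p * (e' : Γ) := congrArg (fun w => ((w.1 : Q₀) : Γ)) hee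
      exact Subtype.ext (mul_left_cancel h5)
    have hbij := hinj.bijective_of_nat_card_le (by rw [h4, hnq, h.card_E])
    have h6 : (y * p * y⁻¹) * (y * p * y⁻¹) = p * p := by
      have h7 := (hy.comm _ heE).eq
      calc (y * p * y⁻¹) * (y * p * y⁻¹) = y * (p * p) * y⁻¹ := by group
        _ = p * p := by rw [h7, mul_inv_cancel_right]
    obtain ⟨e, he⟩ := hbij.2 ⟨⟨y * p * y⁻¹, hyQ p hp⟩, h6⟩
    have h8 : p * (e : Γ) = y * p * y⁻¹ := congrArg (fun w => ((w.1 : Q₀) : Γ)) he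
    apply hpE
    refine YE.mem_of h hy (h2 hp) ?_
    rw [← h8, inv_mul_cancel_left]
    exact e.2
  · exact Subgroup.eq_of_le_of_card_ge h2 (by rw [hc, h.card_Q])

/-! ### Elements acting on `Q` -/

theorem card_le_mul_range [Finite Q] (hEQ : E ≤ Q) {α : Type*} (F : Q → α)
    (hF : ∀ g g' : Q, F g = F g' → (g : Γ) * (g' : Γ)⁻¹ ∈ E) :
    Nat.card Q ≤ Nat.card E * Nat.card (Set.range F) := by
  have hfE : Finite E := Finite.of_injective _ (Subgroup.inclusion_injective hEQ)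
  rw [← Nat.card_prod]
  have hch : ∀ v : Set.range F, ∃ g : Q, F g = v := fun v => v.2
  choose c hc using hch
  refine Nat.card_le_card_of_injective
    (fun g => ((⟨(g : Γ) * (c ⟨F g, g, rfl⟩ : Γ)⁻¹, hF _ _ (hc ⟨F g, g, rfl⟩).symm⟩ : E),
      (⟨F g, g, rfl⟩ : Set.range F))) ?_
  intro g g' hgg
  have h1 := congrArg (fun w => ((w.1 : E) : Γ)) hgg
  have h2 : F g = F g' := congrArg (fun w => ((w.2 : Set.range F) : α)) hgg
  have h3 : (⟨F g, g, rfl⟩ : Set.range F) = ⟨F g', g', rfl⟩ := Subtype.ext h2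
  have h4 : (g : Γ) * (c ⟨F g, g, rfl⟩ : Γ)⁻¹ = (g' : Γ) * (c ⟨F g', g', rfl⟩ : Γ)⁻¹ := h1
  rw [h3] at h4
  exact Subtype.ext (mul_right_cancel h4)

/-- `t` normalises `Q`, centralises `E`, and `t²` centralises `Q`, `C_Q(t) = E`: the subgroup of the
elements `x` of `Q` with `[x, t] ∈ E` has order `q ^ 2` and consists of elements inverted by `t`. -/
theorem QE.inv_struct (h : QE Q E k) {t : Γ} (htQ : ∀ x ∈ Q, t * x * t⁻¹ ∈ Q)
    (htE : ∀ e ∈ E, Commute t e) (ht2 : ∀ x ∈ Q, Commute (t * t) x)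
    (htC : ∀ x ∈ Q, Commute t x → x ∈ E) :
    ∃ A : Subgroup Γ, (∀ x, x ∈ A ↔ x ∈ Q ∧ x⁻¹ * (t * x * t⁻¹) ∈ E) ∧
      Nat.card A = (2 ^ k) ^ 2 ∧ (∀ x ∈ A, t * x * t⁻¹ = x⁻¹) ∧
      ∀ x ∈ A, ∃ g ∈ Q, x = g⁻¹ * (t * g * t⁻¹) := by
  have hfQ : Finite Q := h.fin
  have hfE : Finite E := Finite.of_injective _ (Subgroup.inclusion_injective h.le)
  let A : Subgroup Γ :=
    { carrier := {x | x ∈ Q ∧ x⁻¹ * (t * x * t⁻¹) ∈ E}
      mul_mem' := by
        rintro x y ⟨hx, hx'⟩ ⟨hy, hy'⟩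
        refine ⟨mul_mem hx hy, ?_⟩
        have h1 := (h.central _ hx' y hy).eq
        have h2 : (x * y)⁻¹ * (t * (x * y) * t⁻¹) =
            y⁻¹ * ((x⁻¹ * (t * x * t⁻¹)) * y) * (y⁻¹ * (t * y * t⁻¹)) := by group
        rw [h2, h1, inv_mul_cancel_left]
        exact mul_mem hx' hy'
      one_mem' := ⟨one_mem Q, by simp [one_mem]⟩
      inv_mem' := by
        rintro x ⟨hx, hx'⟩
        refine ⟨inv_mem hx, ?_⟩
        have h1 := (h.central _ (inv_mem hx') x hx).eq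
        have h2 : x⁻¹⁻¹ * (t * x⁻¹ * t⁻¹) = x * (x⁻¹ * (t * x * t⁻¹))⁻¹ * x⁻¹ := by group
        rw [h2, ← h1, mul_inv_cancel_right]
        exact inv_mem hx' }
  have hA : ∀ x, x ∈ A ↔ x ∈ Q ∧ x⁻¹ * (t * x * t⁻¹) ∈ E := fun _ => Iff.rfl
  have hAQ : A ≤ Q := fun x hx => hx.1
  have hfA : Finite A := Finite.of_injective _ (Subgroup.inclusion_injective hAQ)
  -- the homomorphism
  let φ : A →* E := MonoidHom.mk' (fun x => ⟨(x : Γ)⁻¹ * (t * x * t⁻¹), x.2.2⟩) (by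
    rintro ⟨x, hx, hx'⟩ ⟨y, hy, hy'⟩
    apply Subtype.ext
    show (x * y)⁻¹ * (t * (x * y) * t⁻¹) = (x⁻¹ * (t * x * t⁻¹)) * (y⁻¹ * (t * y * t⁻¹))
    have h1 := (h.central _ hx' y hy).eq
    have h2 : (x * y)⁻¹ * (t * (x * y) * t⁻¹) =
        y⁻¹ * ((x⁻¹ * (t * x * t⁻¹)) * y) * (y⁻¹ * (t * y * t⁻¹)) := by group
    rw [h2, h1, inv_mul_cancel_left])
  have hker : Nat.card φ.ker ≤ 2 ^ k := by
    rw [← h.card_E]
    refine Nat.card_le_card_of_injective (fun x => (⟨((x : A) : Γ), ?_⟩ : E)) ?_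
    · have h1 : φ x = 1 := x.2
      have h2 : ((x : A) : Γ)⁻¹ * (t * (x : A) * t⁻¹) = 1 := congrArg Subtype.val h1
      apply htC _ (hAQ (x : A).2)
      have h3 : t * ((x : A) : Γ) * t⁻¹ = (x : A) := (inv_mul_eq_one.mp h2).symm
      exact mul_inv_eq_iff_eq_mul.mp h3
    · intro x y hxy
      have h1 : ((x : A) : Γ) = ((y : A) : Γ) := congrArg (fun e : E => (e : Γ)) hxy
      exact Subtype.ext (Subtype.ext h1)
  have hcA : Nat.card A ≤ (2 ^ k) ^ 2 := by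
    rw [← Subgroup.card_mul_index φ.ker, Subgroup.index_ker, pow_two]
    refine Nat.mul_le_mul hker ?_
    rw [← h.card_E]
    exact Subgroup.card_le_card_group _
  -- commutators
  have hinv : ∀ g ∈ Q, t * (g⁻¹ * (t * g * t⁻¹)) * t⁻¹ = (g⁻¹ * (t * g * t⁻¹))⁻¹ := by
    intro g hg
    have h1 := (ht2 g hg).eq
    calc t * (g⁻¹ * (t * g * t⁻¹)) * t⁻¹ = (t * g⁻¹ * t⁻¹) * ((t * t) * g) * (t * t)⁻¹ := by group
      _ = (t * g⁻¹ * t⁻¹) * g := by rw [h1]; group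
      _ = _ := by group
  have hFA : ∀ g : Q, (g : Γ)⁻¹ * (t * g * t⁻¹) ∈ A := by
    intro g
    have h1 : (g : Γ)⁻¹ * (t * g * t⁻¹) ∈ Q := mul_mem (inv_mem g.2) (htQ g g.2)
    refine ⟨h1, ?_⟩
    rw [hinv g g.2, ← mul_inv_rev]
    exact inv_mem (h.sq _ h1)
  let F : Q → A := fun g => ⟨(g : Γ)⁻¹ * (t * g * t⁻¹), hFA g⟩
  have hF := card_le_mul_range h.le F (by
    intro g g' hgg
    have h1 : (g : Γ)⁻¹ * (t * g * t⁻¹) = (g' : Γ)⁻¹ * (t * g' * t⁻¹) := congrArg Subtype.val hgg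
    apply htC _ (mul_mem g.2 (inv_mem g'.2))
    show t * (g * (g' : Γ)⁻¹) = g * (g' : Γ)⁻¹ * t
    have h2 : t * (g : Γ) * t⁻¹ = g * ((g' : Γ)⁻¹ * (t * g' * t⁻¹)) := by rw [← h1]; group
    calc t * (g * (g' : Γ)⁻¹) = (t * (g : Γ) * t⁻¹) * (t * g' * t⁻¹)⁻¹ * t := by group
      _ = g * (g' : Γ)⁻¹ * t := by rw [h2]; group)
  rw [h.card_Q, h.card_E] at hF
  have hR : (2 ^ k) ^ 2 ≤ Nat.card (Set.range F) := by
    have h1 : 2 ^ k * (2 ^ k) ^ 2 ≤ 2 ^ k * Nat.card (Set.range F) := by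
      calc 2 ^ k * (2 ^ k) ^ 2 = (2 ^ k) ^ 3 := by ring
        _ ≤ _ := hF
    exact Nat.le_of_mul_le_mul_left h1 (by positivity)
  have hRA : Nat.card (Set.range F) ≤ Nat.card A := Nat.card_le_card_of_injective
    (fun x => x.1) (fun x y hxy => Subtype.ext hxy)
  have hcA' : Nat.card A = (2 ^ k) ^ 2 := le_antisymm hcA (hR.trans hRA)
  have hsurj : Set.range F = Set.univ := by
    apply Set.eq_of_subset_of_ncard_le (Set.subset_univ _)
    rw [Set.ncard_univ, ← Nat.card_coe_set_eq, hcA']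
    exact hR
  have hF' : ∀ x ∈ A, ∃ g ∈ Q, x = g⁻¹ * (t * g * t⁻¹) := by
    intro x hx
    have h1 : (⟨x, hx⟩ : A) ∈ Set.range F := by rw [hsurj]; trivial
    obtain ⟨g, hg⟩ := h1
    exact ⟨g, g.2, (congrArg Subtype.val hg).symm⟩
  refine ⟨A, hA, hcA', ?_, hF'⟩
  intro x hx
  obtain ⟨g, hg, rfl⟩ := hF' x hx
  exact hinv g hg

theorem QE.card_quot (h : QE Q E k) : Nat.card (Q ⧸ E.subgroupOf Q) = (2 ^ k) ^ 2 := by
  have hfQ : Finite Q := h.fin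
  have h1 := Subgroup.card_eq_card_quotient_mul_card_subgroup (E.subgroupOf Q)
  have h2 : Nat.card (E.subgroupOf Q) = 2 ^ k := by
    rw [← h.card_E]; exact Nat.card_congr (Subgroup.subgroupOfEquivOfLe h.le).toEquiv
  rw [h.card_Q, h2] at h1
  have h3 : (2 ^ k) ^ 2 * 2 ^ k = Nat.card (Q ⧸ E.subgroupOf Q) * 2 ^ k := by
    rw [← h1]; ring
  exact (Nat.eq_of_mul_eq_mul_right (by positivity) h3).symm

/-- a 2-group acting on `Q`, trivially on `E`, centralises an element of `Q / E` -/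
theorem QE.exists_common (h : QE Q E k) {T : Subgroup Γ} (hT : IsPGroup 2 T)
    (hTQ : ∀ t ∈ T, ∀ x ∈ Q, t * x * t⁻¹ ∈ Q) (hTE : ∀ t ∈ T, ∀ e ∈ E, Commute t e) :
    ∃ p ∈ Q, p ∉ E ∧ ∀ t ∈ T, p⁻¹ * (t * p * t⁻¹) ∈ E := by
  have hfQ : Finite Q := h.fin
  have : Fact (Nat.Prime 2) := ⟨Nat.prime_two⟩
  set N := E.subgroupOf Q with hN
  let F : T → Q ⧸ N → Q ⧸ N := fun t => Quotient.map'
    (fun x : Q => (⟨t * x * (t : Γ)⁻¹, hTQ t t.2 x x.2⟩ : Q)) (by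
      rintro ⟨x, hx⟩ ⟨y, hy⟩ hxy
      rw [QuotientGroup.leftRel_apply] at hxy ⊢
      have h1 : x⁻¹ * y ∈ E := hxy
      show (t * x * (t : Γ)⁻¹)⁻¹ * (t * y * (t : Γ)⁻¹) ∈ E
      have h2 := (hTE t t.2 _ h1).eq
      have h3 : (t * x * (t : Γ)⁻¹)⁻¹ * (t * y * (t : Γ)⁻¹) = t * (x⁻¹ * y) * (t : Γ)⁻¹ := by group
      rw [h3, h2, mul_inv_cancel_right]
      exact h1)
  have hFmk : ∀ (t : T) (x : Q), F t (QuotientGroup.mk x) =
      QuotientGroup.mk (⟨t * x * (t : Γ)⁻¹, hTQ t t.2 x x.2⟩ : Q) := fun _ _ => rfl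
  let act : MulAction T (Q ⧸ N) :=
    { smul := F
      one_smul := by
        intro b
        induction b using QuotientGroup.induction_on with
        | H x =>
          show F 1 (QuotientGroup.mk x) = _
          rw [hFmk]
          congr 1
          exact Subtype.ext (by simp)
      mul_smul := by
        intro s t b
        induction b using QuotientGroup.induction_on with
        | H x =>
          show F (s * t) (QuotientGroup.mk x) = F s (F t (QuotientGroup.mk x))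
          rw [hFmk, hFmk, hFmk]
          congr 1
          refine Subtype.ext ?_
          show (s : Γ) * t * x * ((s : Γ) * t)⁻¹ = s * (t * x * (t : Γ)⁻¹) * (s : Γ)⁻¹
          group }
  have hfix : (QuotientGroup.mk 1 : Q ⧸ N) ∈ MulAction.fixedPoints T (Q ⧸ N) := by
    intro t
    show F t (QuotientGroup.mk 1) = _
    rw [hFmk]
    congr 1
    exact Subtype.ext (by simp)
  obtain ⟨b, hb, hne⟩ := hT.exists_fixed_point_of_prime_dvd_card_of_fixed_point (Q ⧸ N) (by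
    rw [h.card_quot, ← pow_mul]
    exact dvd_pow_self 2 (by have := h.two_le; omega)) hfix
  revert hb hne
  induction b using QuotientGroup.induction_on with
  | H x =>
    intro hb hne
    refine ⟨x, x.2, fun hx => hne ?_, fun t ht => ?_⟩
    · rw [QuotientGroup.eq]
      show (1 : Γ)⁻¹ * x ∈ E
      simpa using hx
    · have h1 : F ⟨t, ht⟩ (QuotientGroup.mk x) = QuotientGroup.mk x := hb ⟨t, ht⟩
      rw [hFmk, eq_comm, QuotientGroup.eq] at h1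
      exact h1

/-- `t` acts trivially on `Q / E` and commutes with `y`: it centralises `Q` -/
theorem QE.commute_of_trivial (h : QE Q E k) {y : Γ} (hy : YE Q E y) {t : Γ}
    (htE : ∀ e ∈ E, Commute t e) (hty : Commute t y)
    (ht : ∀ x ∈ Q, x⁻¹ * (t * x * t⁻¹) ∈ E) : ∀ x ∈ Q, Commute t x := by
  have hfQ : Finite Q := h.fin
  set N := E.subgroupOf Q with hN
  -- `g ↦ g⁻¹ (y g y⁻¹)` modulo `E`
  let F : Q ⧸ N → Q ⧸ N := Quotient.map'
    (fun x : Q => (⟨(x : Γ)⁻¹ * (y * x * y⁻¹), mul_mem (inv_mem x.2) (hy.norm x x.2)⟩ : Q)) (by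
      rintro ⟨x, hx⟩ ⟨x', hx'⟩ hxy
      rw [QuotientGroup.leftRel_apply] at hxy ⊢
      have h1 : x⁻¹ * x' ∈ E := hxy
      show (x⁻¹ * (y * x * y⁻¹))⁻¹ * (x'⁻¹ * (y * x' * y⁻¹)) ∈ E
      obtain ⟨e, he, rfl⟩ : ∃ e ∈ E, x' = x * e := ⟨_, h1, by group⟩
      have h2 : y * e * y⁻¹ = e := by rw [(hy.comm e he).eq, mul_inv_cancel_right]
      have h3 : (x⁻¹ * (y * x * y⁻¹))⁻¹ * ((x * e)⁻¹ * (y * (x * e) * y⁻¹)) =
          (x⁻¹ * (y * x * y⁻¹))⁻¹ * (e⁻¹ * (x⁻¹ * (y * x * y⁻¹))) * (y * e * y⁻¹) := by group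
      have h4 := (h.central e⁻¹ (inv_mem he) _ (mul_mem (inv_mem hx) (hy.norm x hx))).eq
      rw [h3, h2, h4, inv_mul_cancel_left, inv_mul_cancel]
      exact one_mem E)
  have hFmk : ∀ x : Q, F (QuotientGroup.mk x) = QuotientGroup.mk
      (⟨(x : Γ)⁻¹ * (y * x * y⁻¹), mul_mem (inv_mem x.2) (hy.norm x x.2)⟩ : Q) := fun _ => rfl
  have hinj : Function.Injective F := by
    intro b b'
    induction b using QuotientGroup.induction_on with
    | H g =>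
      induction b' using QuotientGroup.induction_on with
      | H g' =>
        intro hgg
        rw [hFmk, hFmk, QuotientGroup.eq] at hgg
        have h1 : ((g : Γ)⁻¹ * (y * g * y⁻¹))⁻¹ * ((g' : Γ)⁻¹ * (y * g' * y⁻¹)) ∈ E := hgg
        rw [QuotientGroup.eq]
        show (g : Γ)⁻¹ * g' ∈ E
        -- `x = g' g⁻¹`
        have h2 : (g' : Γ) * (g : Γ)⁻¹ ∈ E := by
          apply YE.mem_of h hy (mul_mem g'.2 (inv_mem g.2))
          set d := (g : Γ)⁻¹ * (y * g * y⁻¹) with hd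
          set e := d⁻¹ * ((g' : Γ)⁻¹ * (y * g' * y⁻¹)) with he
          have h3 : y * (g' : Γ) * y⁻¹ = g' * (d * e) := by rw [he]; group
          have h4 : y * (g : Γ) * y⁻¹ = g * d := by rw [hd]; group
          have hdQ : d ∈ Q := mul_mem (inv_mem g.2) (hy.norm g g.2)
          have h5 := (h.central e h1 (d⁻¹ * (g : Γ)⁻¹)
            (mul_mem (inv_mem hdQ) (inv_mem g.2))).eq
          have h6 : y * ((g' : Γ) * (g : Γ)⁻¹) * y⁻¹ = (y * (g' : Γ) * y⁻¹) * (y * (g : Γ) * y⁻¹)⁻¹ := by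
            group
          rw [h6, h3, h4]
          have h7 : ((g' : Γ) * (g : Γ)⁻¹)⁻¹ * (g' * (d * e) * (g * d)⁻¹) =
              g * d * (e * (d⁻¹ * (g : Γ)⁻¹)) := by group
          rw [h7, h5]
          have h8 : (g : Γ) * d * (d⁻¹ * (g : Γ)⁻¹ * e) = e := by group
          rw [h8]; exact h1
        have h9 := (h.central _ h2 g g.2).eq
        have h10 : (g : Γ)⁻¹ * g' = (g : Γ)⁻¹ * (g' * (g : Γ)⁻¹ * g) := by group
        rw [h10, h9, inv_mul_cancel_left]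
        exact h2
  have hsurj := Finite.surjective_of_injective hinj
  -- the homomorphism `c`
  have hmul : ∀ x ∈ Q, ∀ x' ∈ Q, (x * x')⁻¹ * (t * (x * x') * t⁻¹) =
      (x⁻¹ * (t * x * t⁻¹)) * (x'⁻¹ * (t * x' * t⁻¹)) := by
    intro x hx x' hx'
    have h1 := (h.central _ (ht x hx) x' hx').eq
    have h2 : (x * x')⁻¹ * (t * (x * x') * t⁻¹) =
        x'⁻¹ * ((x⁻¹ * (t * x * t⁻¹)) * x') * (x'⁻¹ * (t * x' * t⁻¹)) := by group
    rw [h2, h1, inv_mul_cancel_left]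
  have hconj : ∀ x ∈ Q, (y * x * y⁻¹)⁻¹ * (t * (y * x * y⁻¹) * t⁻¹) = x⁻¹ * (t * x * t⁻¹) := by
    intro x hx
    have h1 : (y * x * y⁻¹)⁻¹ * (t * (y * x * y⁻¹) * t⁻¹) =
        y * (x⁻¹ * (t * x * t⁻¹)) * y⁻¹ := by
      have h2 : t * (y * x * y⁻¹) * t⁻¹ = y * (t * x * t⁻¹) * y⁻¹ := by
        have h3 := hty.eq
        have h4 : y⁻¹ * t⁻¹ = t⁻¹ * y⁻¹ := by rw [← mul_inv_rev, ← mul_inv_rev, h3]
        calc t * (y * x * y⁻¹) * t⁻¹ = (t * y) * x * (y⁻¹ * t⁻¹) := by group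
          _ = _ := by rw [h3, h4]; group
      rw [h2]; group
    rw [h1, (hy.comm _ (ht x hx)).eq, mul_inv_cancel_right]
  intro x hx
  obtain ⟨b, hb⟩ := hsurj (QuotientGroup.mk ⟨x, hx⟩)
  revert hb
  induction b using QuotientGroup.induction_on with
  | H g =>
    intro hb
    rw [hFmk, QuotientGroup.eq] at hb
    have h1 : ((g : Γ)⁻¹ * (y * g * y⁻¹))⁻¹ * x ∈ E := hb
    obtain ⟨e, he, hxe⟩ : ∃ e ∈ E, x = (g : Γ)⁻¹ * (y * g * y⁻¹) * e := ⟨_, h1, by group⟩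
    have hgQ := g.2
    have hyg := hy.norm g hgQ
    have he' : e⁻¹ * (t * e * t⁻¹) = 1 := by
      rw [(htE e he).eq, mul_inv_cancel_right, inv_mul_cancel]
    have hg' : ((g : Γ)⁻¹)⁻¹ * (t * (g : Γ)⁻¹ * t⁻¹) * ((g : Γ)⁻¹ * (t * g * t⁻¹)) = 1 := by
      rw [← hmul _ (inv_mem hgQ) _ hgQ]; simp
    have h2 : x⁻¹ * (t * x * t⁻¹) = 1 := by
      rw [hxe, hmul _ (mul_mem (inv_mem hgQ) hyg) _ (h.le he), hmul _ (inv_mem hgQ) _ hyg,
        hconj _ hgQ, he', hg', one_mul]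
    exact mul_inv_eq_iff_eq_mul.mp (inv_mul_eq_one.mp h2).symm

/-- **(T3)** `t` acts on `Q` like a field automorphism of order two: `C_Q(t) = E`. -/
theorem QE.cent_eq (h : QE Q E k) {y : Γ} (hy : YE Q E y) {t : Γ}
    (htQ : ∀ x ∈ Q, t * x * t⁻¹ ∈ Q) (htE : ∀ e ∈ E, Commute t e)
    (ht2 : ∀ x ∈ Q, Commute (t * t) x) (htn : ∃ x ∈ Q, ¬ Commute t x)
    (hX : ∀ d ∈ E, ∀ e ∈ E, d ≠ 1 → e ≠ 1 → ∃ g : Γ, Commute g t ∧ (∀ x ∈ Q, g * x * g⁻¹ ∈ Q) ∧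
      (∀ x ∈ E, g * x * g⁻¹ ∈ E) ∧ g * d * g⁻¹ = e)
    (W : Subgroup Γ) (hyW : y ∈ W) (hWt : ∀ w ∈ W, t * w * t⁻¹ ∈ W)
    (hWE : ∀ w ∈ W, ∀ e ∈ E, Commute w e)
    (hWC : ∀ w ∈ W, w ≠ 1 → ∀ x ∈ Q, Commute w x → x ∈ E)
    (hWo : ∀ w ∈ W, Odd (orderOf w)) (hWQ : ∀ w ∈ W, ∀ x ∈ Q, w * x * w⁻¹ ∈ Q) :
    ∀ x ∈ Q, Commute t x → x ∈ E := by
  have hfQ : Finite Q := h.fin
  by_contra hcon
  push Not at hcon
  obtain ⟨c, hcQ, hct, hcE⟩ := hcon
  -- the subgroups `C_Q(t)` and `Q₁`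
  let Qt : Subgroup Γ :=
    { carrier := {x | x ∈ Q ∧ Commute t x}
      mul_mem' := fun hx hy => ⟨mul_mem hx.1 hy.1, hx.2.mul_right hy.2⟩
      one_mem' := ⟨one_mem Q, Commute.one_right t⟩
      inv_mem' := fun hx => ⟨inv_mem hx.1, hx.2.inv_right⟩ }
  let Q1 : Subgroup Γ :=
    { carrier := {x | x ∈ Q ∧ x⁻¹ * (t * x * t⁻¹) ∈ E}
      mul_mem' := by
        rintro x y ⟨hx, hx'⟩ ⟨hy, hy'⟩
        refine ⟨mul_mem hx hy, ?_⟩
        have h1 := (h.central _ hx' y hy).eq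
        have h2 : (x * y)⁻¹ * (t * (x * y) * t⁻¹) =
            y⁻¹ * ((x⁻¹ * (t * x * t⁻¹)) * y) * (y⁻¹ * (t * y * t⁻¹)) := by group
        rw [h2, h1, inv_mul_cancel_left]
        exact mul_mem hx' hy'
      one_mem' := ⟨one_mem Q, by simp [one_mem]⟩
      inv_mem' := by
        rintro x ⟨hx, hx'⟩
        refine ⟨inv_mem hx, ?_⟩
        have h1 := (h.central _ (inv_mem hx') x hx).eq
        have h2 : x⁻¹⁻¹ * (t * x⁻¹ * t⁻¹) = x * (x⁻¹ * (t * x * t⁻¹))⁻¹ * x⁻¹ := by group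
        rw [h2, ← h1, mul_inv_cancel_right]
        exact inv_mem hx' }
  have hQt : ∀ x, x ∈ Qt ↔ x ∈ Q ∧ Commute t x := fun _ => Iff.rfl
  have hQ1 : ∀ x, x ∈ Q1 ↔ x ∈ Q ∧ x⁻¹ * (t * x * t⁻¹) ∈ E := fun _ => Iff.rfl
  have hQtQ1 : Qt ≤ Q1 := by
    intro x hx
    refine ⟨hx.1, ?_⟩
    rw [hx.2.eq, mul_inv_cancel_right, inv_mul_cancel]
    exact one_mem E
  have hEQt : E ≤ Qt := fun e he => ⟨h.le he, htE e he⟩
  have hQtQ : Qt ≤ Q := fun x hx => hx.1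
  have hQ1Q : Q1 ≤ Q := fun x hx => hx.1
  have hconjt : ∀ g : Γ, Commute g t → ∀ x, t * (g * x * g⁻¹) * t⁻¹ = g * (t * x * t⁻¹) * g⁻¹ := by
    intro g hg x
    have h3 := hg.eq
    have h4 : g⁻¹ * t⁻¹ = t⁻¹ * g⁻¹ := by rw [← mul_inv_rev, ← mul_inv_rev, h3]
    calc t * (g * x * g⁻¹) * t⁻¹ = (t * g) * x * (g⁻¹ * t⁻¹) := by group
      _ = _ := by rw [← h3, h4]; group
  have hXt : ∀ d ∈ E, ∀ e ∈ E, d ≠ 1 → e ≠ 1 → ∃ g : Γ, (∀ x ∈ Qt, g * x * g⁻¹ ∈ Qt) ∧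
      g * d * g⁻¹ = e := by
    intro d hd e he hd1 he1
    obtain ⟨g, hg1, hg2, -, hg4⟩ := hX d hd e he hd1 he1
    refine ⟨g, fun x hx => ⟨hg2 x hx.1, ?_⟩, hg4⟩
    have h3 := hconjt g hg1 x
    rw [hx.2.eq, mul_inv_cancel_right] at h3
    exact mul_inv_eq_iff_eq_mul.mp h3
  have hX1 : ∀ d ∈ E, ∀ e ∈ E, d ≠ 1 → e ≠ 1 → ∃ g : Γ, (∀ x ∈ Q1, g * x * g⁻¹ ∈ Q1) ∧
      g * d * g⁻¹ = e := by
    intro d hd e he hd1 he1
    obtain ⟨g, hg1, hg2, hg3, hg4⟩ := hX d hd e he hd1 he1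
    refine ⟨g, fun x hx => ⟨hg2 x hx.1, ?_⟩, hg4⟩
    rw [hconjt g hg1 x]
    have h5 : (g * x * g⁻¹)⁻¹ * (g * (t * x * t⁻¹) * g⁻¹) = g * (x⁻¹ * (t * x * t⁻¹)) * g⁻¹ := by
      group
    rw [h5]
    exact hg3 _ hx.2
  have hft : Finite Qt := Finite.of_injective _ (Subgroup.inclusion_injective hQtQ)
  have hf1 : Finite Q1 := Finite.of_injective _ (Subgroup.inclusion_injective hQ1Q)
  have hq : 1 < 2 ^ k := Nat.one_lt_two_pow (by have := h.two_le; omega)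
  have hct : Nat.card Qt = (2 ^ k) ^ 2 := by
    rcases h.card_cases hEQt hQtQ hXt with hc | hc | hc
    · exfalso
      have h3 : E = Qt := Subgroup.eq_of_le_of_card_ge hEQt (by rw [hc, h.card_E])
      exact hcE (h3 ▸ (⟨hcQ, hct⟩ : c ∈ Qt))
    · exact hc
    · exfalso
      have h3 : Qt = Q := Subgroup.eq_of_le_of_card_ge hQtQ (by rw [hc, h.card_Q])
      obtain ⟨x, hx, hxn⟩ := htn
      rw [← h3] at hx
      exact hxn hx.2
  have hQ1eq : Q1 = Q := by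
    rcases h.card_cases (hEQt.trans hQtQ1) hQ1Q hX1 with hc | hc | hc
    · exfalso
      have h3 := Subgroup.card_le_of_le hQtQ1
      rw [hct, hc] at h3
      have h4 : 2 ^ k * 1 < 2 ^ k * 2 ^ k := Nat.mul_lt_mul_of_pos_left hq (by positivity)
      rw [pow_two] at h3
      omega
    · -- `Q₁ = C_Q(t)`
      have h3 : Qt = Q1 := Subgroup.eq_of_le_of_card_ge hQtQ1 (by rw [hc, hct])
      apply le_antisymm hQ1Q
      intro g hg
      refine ⟨hg, ?_⟩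
      have hxQ : g⁻¹ * (t * g * t⁻¹) ∈ Q := mul_mem (inv_mem hg) (htQ g hg)
      have h1 : t * (g⁻¹ * (t * g * t⁻¹)) * t⁻¹ = (g⁻¹ * (t * g * t⁻¹))⁻¹ := by
        have h1 := (ht2 g hg).eq
        calc t * (g⁻¹ * (t * g * t⁻¹)) * t⁻¹ = (t * g⁻¹ * t⁻¹) * ((t * t) * g) * (t * t)⁻¹ := by
              group
          _ = (t * g⁻¹ * t⁻¹) * g := by rw [h1]; group
          _ = _ := by group
      have h4 : g⁻¹ * (t * g * t⁻¹) ∈ Q1 := by
        refine ⟨hxQ, ?_⟩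
        rw [h1, ← mul_inv_rev]
        exact inv_mem (h.sq _ hxQ)
      rw [← h3] at h4
      rw [h4.2.eq, mul_inv_cancel_right] at h1
      apply h.inv _ hxQ
      nth_rewrite 1 [h1]
      rw [inv_mul_cancel]
    · exact Subgroup.eq_of_le_of_card_ge hQ1Q (by rw [hc, h.card_Q])
  have htriv : ∀ x ∈ Q, x⁻¹ * (t * x * t⁻¹) ∈ E := by
    intro x hx
    rw [← hQ1eq] at hx
    exact hx.2
  -- `t` commutes with `W`
  have htW : ∀ w ∈ W, Commute t w := by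
    intro w hw
    by_contra hne
    set c' := t * w * t⁻¹ * w⁻¹ with hc'
    have hc'W : c' ∈ W := mul_mem (hWt w hw) (inv_mem hw)
    have hc'1 : c' ≠ 1 := by
      intro hh
      apply hne
      show t * w = w * t
      exact mul_inv_eq_iff_eq_mul.mp (mul_inv_eq_one.mp hh)
    have hw'Q : ∀ x ∈ Q, w⁻¹ * x * w ∈ Q := by
      intro x hx
      have := hWQ w⁻¹ (inv_mem hw) x hx
      rwa [inv_inv] at this
    have hcE' : ∀ x ∈ Q, x⁻¹ * (c' * x * c'⁻¹) ∈ E := by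
      intro x hx
      -- `t x = x e`
      have h1 : ∀ x ∈ Q, ∃ e ∈ E, t * x * t⁻¹ = x * e := fun x hx => ⟨_, htriv x hx, by group⟩
      have h2 : ∀ x ∈ Q, ∃ e ∈ E, t⁻¹ * x * t = x * e := by
        intro x hx
        have h3 : t⁻¹ * x * t ∈ Q := by
          have h4 := (ht2 x hx).eq
          have h5 : t⁻¹ * x * t = t * x * t⁻¹ := by
            calc t⁻¹ * x * t = t⁻¹ * (x * (t * t)) * t⁻¹ := by group
              _ = t * x * t⁻¹ := by rw [← h4]; group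
          rw [h5]; exact htQ x hx
        obtain ⟨e, he, hxe⟩ := h1 _ h3
        have h4 : x = t⁻¹ * x * t * e := by rw [← hxe]; group
        refine ⟨e⁻¹, inv_mem he, ?_⟩
        nth_rewrite 2 [h4]
        group
      obtain ⟨e₁, he₁, h4⟩ := h1 _ (hw'Q _ (hx))
      obtain ⟨e₂, he₂, h5⟩ := h2 _ hx
      -- `c' x c'⁻¹ = t w t⁻¹ w⁻¹ x w t w⁻¹ t⁻¹`
      obtain ⟨e₃, he₃, h6⟩ := h2 _ (hw'Q _ hx)
      have h7 : w * (w⁻¹ * x * w * e₃) * w⁻¹ ∈ Q := hWQ w hw _ (mul_mem (hw'Q x hx) (h.le he₃))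
      obtain ⟨e₄, he₄, h8⟩ := h1 _ h7
      have h9 : c' * x * c'⁻¹ = t * (w * (t⁻¹ * (w⁻¹ * x * w) * t) * w⁻¹) * t⁻¹ := by
        rw [hc']; group
      have h10 : w * e₃ * w⁻¹ = e₃ := by rw [(hWE w hw e₃ he₃).eq, mul_inv_cancel_right]
      have h11 : w * (w⁻¹ * x * w * e₃) * w⁻¹ = x * e₃ := by
        calc w * (w⁻¹ * x * w * e₃) * w⁻¹ = x * (w * e₃ * w⁻¹) := by group
          _ = x * e₃ := by rw [h10]
      rw [h9, h6, h8, h11]
      have h12 : x⁻¹ * (x * e₃ * e₄) = e₃ * e₄ := by group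
      rw [h12]
      exact mul_mem he₃ he₄
    have hyc : YE Q E c' := ⟨hWQ c' hc'W, hWE c' hc'W, hWo c' hc'W, hWC c' hc'W hc'1⟩
    exact hcE (YE.mem_of h hyc hcQ (hcE' c hcQ))
  obtain ⟨x, hx, hxn⟩ := htn
  exact hxn (h.commute_of_trivial hy htE (htW y hyW) htriv x hx)

/-- **(T2)** at most two cosets -/
theorem QE.commute_mul (h : QE Q E k) {T : Subgroup Γ} (hT : IsPGroup 2 T)
    (hTQ : ∀ t ∈ T, ∀ x ∈ Q, t * x * t⁻¹ ∈ Q) (hTE : ∀ t ∈ T, ∀ e ∈ E, Commute t e)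
    (h3 : ∀ t ∈ T, (∀ x ∈ Q, Commute (t * t) x) → (∃ x ∈ Q, ¬ Commute t x) →
      ∀ x ∈ Q, Commute t x → x ∈ E) {t t' : Γ} (ht : t ∈ T) (ht' : t' ∈ T)
    (htn : ∃ x ∈ Q, ¬ Commute t x) (ht'n : ∃ x ∈ Q, ¬ Commute t' x) :
    ∀ x ∈ Q, Commute (t * t') x := by
  obtain ⟨p, hp, hpE, hpT⟩ := h.exists_common hT hTQ hTE
  have hte : ∀ t ∈ T, ∃ e ∈ E, t * p * t⁻¹ = p * e := fun t ht => ⟨_, hpT t ht, by group⟩
  -- squares centralise `Q`
  have hsq : ∀ t ∈ T, ∀ x ∈ Q, Commute (t * t) x := by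
    intro t ht
    by_contra hcon
    obtain ⟨n, hn⟩ := hT ⟨t, ht⟩
    have hn' : t ^ 2 ^ n = 1 := congrArg Subtype.val hn
    have hex : ∃ j : ℕ, ∀ x ∈ Q, Commute (t ^ 2 ^ j) x := ⟨n, fun x _ => by rw [hn']; exact Commute.one_left x⟩
    classical
    set j := Nat.find hex with hj
    have hj1 : ∀ x ∈ Q, Commute (t ^ 2 ^ j) x := Nat.find_spec hex
    have hj2 : ∀ i < j, ¬ ∀ x ∈ Q, Commute (t ^ 2 ^ i) x := fun i hi => Nat.find_min hex hi
    have hj3 : 2 ≤ j := by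
      by_contra hlt
      apply hcon
      rcases (show j = 0 ∨ j = 1 by omega) with h0 | h0
      · rw [h0, pow_zero, pow_one] at hj1
        intro x hx
        exact (hj1 x hx).mul_left (hj1 x hx)
      · rw [h0, pow_one, pow_two] at hj1
        exact hj1
    obtain ⟨i, hi⟩ : ∃ i, j = i + 2 := ⟨j - 2, by omega⟩
    have h4 := hj2 (i + 1) (by omega)
    push Not at h4
    have h5 : ∀ x ∈ Q, Commute (t ^ 2 ^ (i + 1) * t ^ 2 ^ (i + 1)) x := by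
      rw [hi] at hj1
      intro x hx
      have := hj1 x hx
      rwa [show t ^ 2 ^ (i + 2) = t ^ 2 ^ (i + 1) * t ^ 2 ^ (i + 1) by
        rw [← pow_add]; congr 1; ring] at this
    have h6 := h3 (t ^ 2 ^ (i + 1)) (pow_mem ht _) h5 h4 p hp
    apply hpE
    apply h6
    obtain ⟨e, he, hpe⟩ := hte t ht
    have h7 := conj_pow_eq (hTE t ht e he) hpe (2 ^ (i + 1))
    have h8 : e ^ 2 ^ (i + 1) = 1 := by
      rw [pow_succ' 2 i, pow_mul, pow_two, h.el e he, one_pow]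
    rw [h8, mul_one] at h7
    exact mul_inv_eq_iff_eq_mul.mp h7
  -- elements of `T` not centralising `Q` invert `p`
  have hinv : ∀ t ∈ T, (∃ x ∈ Q, ¬ Commute t x) → t * p * t⁻¹ = p⁻¹ := by
    intro t ht htn
    obtain ⟨A, hA, -, hA2, -⟩ := h.inv_struct (hTQ t ht) (hTE t ht) (hsq t ht)
      (h3 t ht (hsq t ht) htn)
    exact hA2 p ((hA p).mpr ⟨hp, hpT t ht⟩)
  by_contra hcon
  push Not at hcon
  have h4 := hinv (t * t') (mul_mem ht ht') hcon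
  have h5 : t * t' * p * (t * t')⁻¹ = p := by
    calc t * t' * p * (t * t')⁻¹ = t * (t' * p * t'⁻¹) * t⁻¹ := by group
      _ = t * p⁻¹ * t⁻¹ := by rw [hinv t' ht' ht'n]
      _ = (t * p * t⁻¹)⁻¹ := by group
      _ = p := by rw [hinv t ht htn, inv_inv]
  rw [h5] at h4
  apply hpE
  apply h.inv p hp
  nth_rewrite 1 [h4]
  rw [inv_mul_cancel]

/-- the end of the proof, in the action on `Q` -/
theorem QE.card_le_or (h : QE Q E k) {X T : Subgroup Γ} [Finite X]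
    (hXc : ∀ x ∈ X, ∀ y ∈ X, Commute x y)
    (hTQ : ∀ t ∈ T, ∀ x ∈ Q, t * x * t⁻¹ ∈ Q) (hTE : ∀ t ∈ T, ∀ e ∈ E, Commute t e)
    (hXT : ∀ x ∈ X, ∃ p ∈ Q, ∃ t ∈ T, x = p * t) (hQT : ∀ x ∈ Q, x ∈ T → x = 1)
    (hT2 : ∀ t ∈ T, ∀ t' ∈ T, t ≠ 1 → t' ≠ 1 → t * t' = 1)
    (h3 : ∀ t ∈ T, t ≠ 1 → ∀ x ∈ Q, Commute t x → x ∈ E) :
    (∀ x ∈ X, x * x = 1 → x ∈ E) ∨ Nat.card X ≤ 2 * 2 ^ k := by
  classical
  by_cases hall : ∀ x ∈ X, x * x = 1 → x ∈ E
  · exact Or.inl hall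
  right
  push Not at hall
  obtain ⟨i, hi, hi2, hiE⟩ := hall
  obtain ⟨p, hp, t, ht, hit⟩ := hXT i hi
  have hiQ : i ∉ Q := fun hh => hiE (h.inv i hh hi2)
  have ht1 : t ≠ 1 := by
    rintro rfl
    rw [mul_one] at hit
    exact hiQ (hit ▸ hp)
  have htt := hT2 t ht t ht ht1 ht1
  have htC := h3 t ht ht1
  obtain ⟨A, hA, -, -, hA3⟩ := h.inv_struct (hTQ t ht) (hTE t ht)
    (fun x _ => by rw [htt]; exact Commute.one_left x) htC
  have htinv : t⁻¹ = t := inv_eq_of_mul_eq_one_left htt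
  have hpinv : t * p * t⁻¹ = p⁻¹ := by
    rw [hit] at hi2
    have h4 : p * (t * p * t⁻¹) = 1 := by
      rw [htinv]
      calc p * (t * p * t) = p * t * (p * t) := by group
        _ = 1 := hi2
    exact (inv_eq_of_mul_eq_one_right h4).symm
  have hpA : p ∈ A := by
    refine (hA p).mpr ⟨hp, ?_⟩
    rw [hpinv, ← mul_inv_rev]
    exact inv_mem (h.sq p hp)
  obtain ⟨g, hg, hpg⟩ := hA3 p hpA
  -- `i` is conjugate to `t`
  have hig : i = g⁻¹ * t * g := by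
    rw [hit, hpg]
    group
  have hXQ : ∀ x ∈ X, x ∈ Q → x ∈ E := by
    intro x hx hxQ
    have h4 := (hXc x hx i hi).eq
    have h5 : Commute t (g * x * g⁻¹) := by
      show t * (g * x * g⁻¹) = g * x * g⁻¹ * t
      rw [hig] at h4
      calc t * (g * x * g⁻¹) = g * ((g⁻¹ * t * g) * x) * g⁻¹ := by group
        _ = g * (x * (g⁻¹ * t * g)) * g⁻¹ := by rw [h4]
        _ = g * x * g⁻¹ * t := by group
    have h6 := htC _ (mul_mem (mul_mem hg hxQ) (inv_mem hg)) h5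
    have h7 := (h.central _ h6 g hg).eq
    have h8 : x = g⁻¹ * (g * x * g⁻¹ * g) := by group
    rw [h8, h7, inv_mul_cancel_left]
    exact h6
  -- count
  have hfE : Finite E := by
    have := h.fin
    exact Finite.of_injective _ (Subgroup.inclusion_injective h.le)
  have hcos : ∀ x ∈ X, x ∉ Q → x⁻¹ * i ∈ E := by
    intro x hx hxQ
    apply hXQ _ (mul_mem (inv_mem hx) hi)
    obtain ⟨p', hp', t', ht', rfl⟩ := hXT x hx
    have ht'1 : t' ≠ 1 := by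
      rintro rfl
      rw [mul_one] at hxQ
      exact hxQ hp'
    have h4 : t' = t := by
      have h5 := hT2 t' ht' t ht ht'1 ht1
      rw [← htinv]
      exact eq_inv_of_mul_eq_one_left h5
    rw [hit, h4]
    have h5 : (p' * t)⁻¹ * (p * t) = t * (p'⁻¹ * p) * t⁻¹ := by
      rw [mul_inv_rev, htinv]; group
    rw [h5]
    exact hTQ t ht _ (mul_mem (inv_mem hp') hp)
  have hinj : Function.Injective (fun x : X => if hx : (x : Γ) ∈ Q then
      (Sum.inl ⟨(x : Γ), hXQ x x.2 hx⟩ : E ⊕ E) else Sum.inr ⟨(x : Γ)⁻¹ * i, hcos x x.2 hx⟩) := by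
    intro x x' hxx
    by_cases hx : (x : Γ) ∈ Q <;> by_cases hx' : (x' : Γ) ∈ Q
    · simp only [hx, hx', dite_true, Sum.inl.injEq, Subtype.mk.injEq] at hxx
      exact Subtype.ext hxx
    · simp only [hx, hx', dite_true, dite_false, reduceCtorEq] at hxx
    · simp only [hx, hx', dite_true, dite_false, reduceCtorEq] at hxx
    · simp only [hx, hx', dite_false, Sum.inr.injEq, Subtype.mk.injEq] at hxx
      exact Subtype.ext (inv_injective (mul_right_cancel hxx))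
  have h9 := Nat.card_le_card_of_injective _ hinj
  rw [Nat.card_sum, h.card_E] at h9
  omega

end Cfsg.Agent.AschCrit.CommFive
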