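import Cfsg.Agent.AschCrit.NonIso
import Cfsg.Agent.AschCrit.CommFive.QLevel

/-!
# Aschbacher's criterion, commutative case (C5): local data

`LocQ Ω z H a V k Q` : the subgroup `H` acts on `pts Ω z H` like `PSU₃(q)`, `q = 2 ^ k`: `Q` is the
normal 2-subgroup of the point stabiliser, regular on the other points.

`LocP` : the subgroup `P` of the 2-elements of `⟨D ∩ H⟩_a` mapping to `Q`.
-/

set_option autoImplicit false

namespace Cfsg.Agent.AschCrit.CommFive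

open Cfsg.Agent.TwoFusion.StronglyEmbeddedBasic Cfsg.Agent.AschCrit.Basic
open Cfsg.Agent.AschCrit.Basic.Setup Cfsg.Agent.AschCrit.Closed Cfsg.Agent.AschCrit.Descent
open Cfsg.Agent.AschCrit.NonIso

section elements

variable {G : Type*} [Group G]

/-- an element of 2-power order -/
def TwoElt (g : G) : Prop := ∃ n : ℕ, orderOf g = 2 ^ n

theorem TwoElt.one : TwoElt (1 : G) := ⟨0, by simp⟩

theorem TwoElt.mul {a b : G} (ha : TwoElt a) (hb : TwoElt b) (hab : Commute a b) :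
    TwoElt (a * b) := by
  obtain ⟨m, hm⟩ := ha
  obtain ⟨n, hn⟩ := hb
  have h1 := hab.orderOf_mul_dvd_mul_orderOf
  rw [hm, hn, ← pow_add] at h1
  obtain ⟨j, -, hj⟩ := (Nat.dvd_prime_pow Nat.prime_two).mp h1
  exact ⟨j, hj⟩

theorem TwoElt.inv {a : G} (ha : TwoElt a) : TwoElt a⁻¹ := by
  obtain ⟨m, hm⟩ := ha
  exact ⟨m, by rw [orderOf_inv, hm]⟩

theorem TwoElt.conj {a : G} (ha : TwoElt a) (g : G) : TwoElt (g * a * g⁻¹) := by
  obtain ⟨m, hm⟩ := ha
  exact ⟨m, by rw [orderOf_conj, hm]⟩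

theorem TwoElt.pow {a : G} (ha : TwoElt a) (n : ℕ) : TwoElt (a ^ n) := by
  obtain ⟨m, hm⟩ := ha
  have h1 := orderOf_pow_dvd (x := a) n
  rw [hm] at h1
  obtain ⟨j, -, hj⟩ := (Nat.dvd_prime_pow Nat.prime_two).mp h1
  exact ⟨j, hj⟩

theorem TwoElt.of_mul_self {a : G} (ha : a * a = 1) : TwoElt a := by
  have h1 : orderOf a ∣ 2 ^ 1 := orderOf_dvd_of_pow_eq_one (by rw [pow_one, pow_two, ha])
  obtain ⟨j, -, hj⟩ := (Nat.dvd_prime_pow Nat.prime_two).mp h1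
  exact ⟨j, hj⟩

theorem TwoElt.of_mem {P : Subgroup G} (hP : IsPGroup 2 P) {a : G} (ha : a ∈ P) : TwoElt a := by
  obtain ⟨n, hn⟩ := IsPGroup.iff_orderOf.mp hP ⟨a, ha⟩
  exact ⟨n, by rw [← hn, Subgroup.orderOf_mk]⟩

theorem TwoElt.map {G' : Type*} [Group G'] {a : G} (ha : TwoElt a) (f : G →* G') :
    TwoElt (f a) := by
  obtain ⟨m, hm⟩ := ha
  have h1 := orderOf_map_dvd f a
  rw [hm] at h1
  obtain ⟨j, -, hj⟩ := (Nat.dvd_prime_pow Nat.prime_two).mp h1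
  exact ⟨j, hj⟩

theorem TwoElt.coe {H : Subgroup G} {a : H} : TwoElt (a : G) ↔ TwoElt a := by
  unfold TwoElt
  rw [Subgroup.orderOf_coe]

theorem isPGroup_of_twoElt {P : Subgroup G} (h : ∀ g ∈ P, TwoElt g) : IsPGroup 2 P := by
  rw [IsPGroup.iff_orderOf]
  rintro ⟨g, hg⟩
  obtain ⟨n, hn⟩ := h g hg
  exact ⟨n, by rw [Subgroup.orderOf_mk, hn]⟩

/-- an element of 2-power order and of odd order is trivial -/
theorem TwoElt.eq_one {a : G} (ha : TwoElt a) (ho : Odd (orderOf a)) : a = 1 := by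
  obtain ⟨n, hn⟩ := ha
  rcases Nat.eq_zero_or_pos n with h0 | h0
  · rw [h0, pow_zero] at hn
    exact orderOf_eq_one_iff.mp hn
  · exfalso
    rw [hn] at ho
    exact (Nat.not_odd_iff_even.mpr ((Nat.even_pow' (by omega)).mpr even_two)) ho

theorem TwoElt.exists_pow {a : G} (ha : TwoElt a) (h1 : a ≠ 1) :
    ∃ n : ℕ, orderOf (a ^ n) = 2 := by
  obtain ⟨n, hn⟩ := ha
  rcases Nat.eq_zero_or_pos n with h0 | h0
  · rw [h0, pow_zero] at hn
    exact absurd (orderOf_eq_one_iff.mp hn) h1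
  · obtain ⟨m, rfl⟩ : ∃ m, n = m + 1 := ⟨n - 1, by omega⟩
    refine ⟨2 ^ m, ?_⟩
    rw [orderOf_pow' a (by positivity), hn]
    have h2 : Nat.gcd (2 ^ (m + 1)) (2 ^ m) = 2 ^ m :=
      Nat.gcd_eq_right (pow_dvd_pow 2 (by omega))
    rw [h2, pow_succ, Nat.mul_div_cancel_left _ (by positivity)]

/-- A 2-group acting on a 2-group by conjugation, modulo a normal subgroup. -/
theorem exists_common_gen {Q N T : Subgroup G} [Finite Q] (hT : IsPGroup 2 T) (hNQ : N ≤ Q)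
    (hTQ : ∀ t ∈ T, ∀ x ∈ Q, t * x * t⁻¹ ∈ Q)
    (hTN : ∀ t ∈ T, ∀ x ∈ N, t * x * t⁻¹ ∈ N) (hQ : IsPGroup 2 Q) (hne : N ≠ Q) :
    ∃ p ∈ Q, p ∉ N ∧ ∀ t ∈ T, p⁻¹ * (t * p * t⁻¹) ∈ N := by
  have : Fact (Nat.Prime 2) := ⟨Nat.prime_two⟩
  set M := N.subgroupOf Q with hM
  let F : T → Q ⧸ M → Q ⧸ M := fun t => Quotient.map'
    (fun x : Q => (⟨t * x * (t : G)⁻¹, hTQ t t.2 x x.2⟩ : Q)) (by
      rintro ⟨x, hx⟩ ⟨y, hy⟩ hxy
      rw [QuotientGroup.leftRel_apply] at hxy ⊢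
      have h1 : x⁻¹ * y ∈ N := hxy
      show (t * x * (t : G)⁻¹)⁻¹ * (t * y * (t : G)⁻¹) ∈ N
      have h3 : (t * x * (t : G)⁻¹)⁻¹ * (t * y * (t : G)⁻¹) = t * (x⁻¹ * y) * (t : G)⁻¹ := by group
      rw [h3]
      exact hTN t t.2 _ h1)
  have hFmk : ∀ (t : T) (x : Q), F t (QuotientGroup.mk x) =
      QuotientGroup.mk (⟨t * x * (t : G)⁻¹, hTQ t t.2 x x.2⟩ : Q) := fun _ _ => rfl
  let act : MulAction T (Q ⧸ M) :=
    { smul := F
      one_smul := by
        intro b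
        induction b using QuotientGroup.induction_on with
        | H x =>
          show F 1 (QuotientGroup.mk x) = _
          rw [hFmk]
          congr 1
          exact Subtype.ext (by simp)
      mul_smul := by
        intro s t b
        induction b using QuotientGroup.induction_on with
        | H x =>
          show F (s * t) (QuotientGroup.mk x) = F s (F t (QuotientGroup.mk x))
          rw [hFmk, hFmk, hFmk]
          congr 1
          refine Subtype.ext ?_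
          show (s : G) * t * x * ((s : G) * t)⁻¹ = s * (t * x * (t : G)⁻¹) * (s : G)⁻¹
          group }
  have hfix : (QuotientGroup.mk 1 : Q ⧸ M) ∈ MulAction.fixedPoints T (Q ⧸ M) := by
    intro t
    show F t (QuotientGroup.mk 1) = _
    rw [hFmk]
    congr 1
    exact Subtype.ext (by simp)
  have hcard : 2 ∣ Nat.card (Q ⧸ M) := by
    have h1 : M.index ≠ 1 := by
      intro h1
      apply hne
      rw [Subgroup.index_eq_one, hM, Subgroup.subgroupOf_eq_top] at h1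
      exact le_antisymm hNQ h1
    obtain ⟨n, hn⟩ := hQ.index M
    change M.index = 2 ^ n at hn
    show 2 ∣ M.index
    rw [hn]
    apply dvd_pow_self
    rintro rfl
    exact h1 hn
  obtain ⟨b, hb, hne'⟩ := hT.exists_fixed_point_of_prime_dvd_card_of_fixed_point (Q ⧸ M) hcard hfix
  revert hb hne'
  induction b using QuotientGroup.induction_on with
  | H x =>
    intro hb hne'
    refine ⟨x, x.2, fun hx => hne' ?_, fun t ht => ?_⟩
    · rw [QuotientGroup.eq]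
      show (1 : G)⁻¹ * x ∈ N
      simpa using hx
    · have h1 : F ⟨t, ht⟩ (QuotientGroup.mk x) = QuotientGroup.mk x := hb ⟨t, ht⟩
      rw [hFmk, eq_comm, QuotientGroup.eq] at h1
      exact h1

end elements

variable {G Ω : Type*} [Group G] [MulAction G Ω] {z : G}

/-- the action of `H` on its `D`-points -/
abbrev rho (Ω : Type*) [MulAction G Ω] (z : G) (H : Subgroup G) : H →* Equiv.Perm (pts Ω z H) :=
  MulAction.toPermHom H (pts Ω z H)

theorem rho_eq_one_iff {H : Subgroup G} (g : H) :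
    rho Ω z H g = 1 ↔ ∀ c ∈ pts Ω z H, (g : G) • c = c := by
  constructor
  · intro h c hc
    exact congrArg Subtype.val (congrArg (fun f : Equiv.Perm _ => f (⟨c, hc⟩ : pts Ω z H)) h)
  · intro h
    ext c
    exact h c c.2

/-- the subgroup generated by `D ∩ H` -/
def DCl (z : G) (H : Subgroup G) : Subgroup G := Subgroup.closure {d | IsConj z d ∧ d ∈ H}

theorem DCl_le (H : Subgroup G) : DCl z H ≤ H := by
  rw [DCl, Subgroup.closure_le]
  exact fun d hd => hd.2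

theorem conj_mem_DCl {H : Subgroup G} {g x : G} (hg : g ∈ H) (hx : x ∈ DCl z H) :
    g * x * g⁻¹ ∈ DCl z H := by
  have h1 : DCl z H ≤ (DCl z H).comap (MulAut.conj g).toMonoidHom := by
    rw [DCl, Subgroup.closure_le]
    rintro d ⟨hd, hdH⟩
    exact Subgroup.subset_closure ⟨conj_mem hd g, mul_mem (mul_mem hg hdH) (inv_mem hg)⟩
  exact h1 hx

/-- elements of `H` acting trivially on the `D`-points centralise `⟨D ∩ H⟩` -/
theorem ker_commute (h : Setup G Ω z) {V : Ω → Subgroup G}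
    (hV : ∀ a x, x ∈ V a ↔ x = 1 ∨ x ∈ At z a) {H : Subgroup G} {a b : Ω} (hab : a ≠ b)
    (ha : a ∈ pts Ω z H) (hb : b ∈ pts Ω z H) {k : G}
    (hk1 : ∀ c ∈ pts Ω z H, k • c = c) {x : G} (hx : x ∈ DCl z H) : Commute k x := by
  rw [DCl] at hx
  induction hx using Subgroup.closure_induction with
  | mem d hd =>
    obtain ⟨hd, hdH⟩ := hd
    obtain ⟨c, hc⟩ := h.ex hd
    have hcp : c ∈ pts Ω z H := ⟨d, hdH, hd, hc⟩
    have h1 : k * d * k⁻¹ ∈ At z c := by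
      have := conj_mem_At k (show d ∈ At z c from ⟨hd, hc⟩)
      rwa [hk1 c hcp] at this
    have hdV : d ∈ V c := (hV c d).mpr (Or.inr ⟨hd, hc⟩)
    have h2 : k * d * k⁻¹ * d⁻¹ ∈ V c := mul_mem ((hV c _).mpr (Or.inr h1)) (inv_mem hdV)
    have h3 : ∀ p ∈ pts Ω z H, (k * d * k⁻¹ * d⁻¹) • p = p := by
      intro p hp
      have hp1 : d⁻¹ • p ∈ pts Ω z H := (pts Ω z H).smul_mem ⟨d⁻¹, inv_mem hdH⟩ hp
      have hp2 : k⁻¹ • (d⁻¹ • p) = d⁻¹ • p := by rw [inv_smul_eq_iff, hk1 _ hp1]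
      rw [mul_smul, mul_smul, mul_smul, hp2, smul_inv_smul, hk1 p hp]
    rcases (hV c _).mp h2 with h4 | h4
    · show k * d = d * k
      exact mul_inv_eq_iff_eq_mul.mp (mul_inv_eq_one.mp h4)
    · exact absurd (h.uniq h4.1 (h3 a ha) (h3 b hb)) hab
  | one => exact Commute.one_right k
  | mul x y _ _ hx hy => exact hx.mul_right hy
  | inv x _ hx => exact hx.inv_right

/-- `H` acts on its `D`-points like `PSU₃(q)`, `q = 2 ^ k` -/
structure LocQ (Ω : Type*) [MulAction G Ω] (z : G) (H : Subgroup G) (a : Ω) (V : Subgroup G)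
    (k : ℕ) (Q : Subgroup (Equiv.Perm (pts Ω z H))) : Prop where
  VH : V ≤ H
  qe : QE Q ((V.subgroupOf H).map (rho Ω z H)) k
  lift : ∀ x ∈ Q, ∃ g : H, (g : G) ∈ DCl z H ∧ (g : G) • a = a ∧ rho Ω z H g = x
  norm : ∀ g : H, (g : G) • a = a → ∀ x ∈ Q, rho Ω z H g * x * (rho Ω z H g)⁻¹ ∈ Q
  trans : ∀ b ∈ pts Ω z H, ∀ c ∈ pts Ω z H, b ≠ a → c ≠ a →
    ∃ g : H, rho Ω z H g ∈ Q ∧ (g : G) • b = c
  reg : ∀ g : H, rho Ω z H g ∈ Q → ∀ b ∈ pts Ω z H, b ≠ a → (g : G) • b = b → rho Ω z H g = 1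

/-- an `r`-element `y` of `H_ab`, `r` a prime divisor of `q + 1`, centralising `V_a` and `V_b`, and the
odd group `W` of all elements of the two-point stabiliser centralising the image of `V_a` -/
structure LocY (Ω : Type*) [MulAction G Ω] (z : G) (H : Subgroup G) (a b : Ω) (Va Vb : Subgroup G)
    (k : ℕ) (Q : Subgroup (Equiv.Perm (pts Ω z H))) (y : H) (W : Subgroup (Equiv.Perm (pts Ω z H))) :
    Prop where
  mem : (y : G) ∈ DCl z H
  fix_a : (y : G) • a = a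
  fix_b : (y : G) • b = b
  comm_a : ∀ x ∈ Va, Commute (y : G) x
  comm_b : ∀ x ∈ Vb, Commute (y : G) x
  order : ∃ r j : ℕ, r.Prime ∧ r ∣ 2 ^ k + 1 ∧ orderOf (y : G) = r ^ j
  ne : rho Ω z H y ≠ 1
  mem_W : rho Ω z H y ∈ W
  conj_W : ∀ g : H, (g : G) • a = a → (g : G) • b = b → ∀ w ∈ W,
    rho Ω z H g * w * (rho Ω z H g)⁻¹ ∈ W
  odd_W : ∀ w ∈ W, Odd (orderOf w)
  norm_W : ∀ w ∈ W, ∀ x ∈ Q, w * x * w⁻¹ ∈ Q
  comm_W : ∀ w ∈ W, ∀ x ∈ (Va.subgroupOf H).map (rho Ω z H), Commute w x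
  cent_W : ∀ w ∈ W, w ≠ 1 → ∀ x ∈ Q, Commute w x → x ∈ (Va.subgroupOf H).map (rho Ω z H)

/-- the 2-elements of `⟨D ∩ H⟩_a` mapping to `Q` -/
structure LocP (Ω : Type*) [MulAction G Ω] (z : G) (H : Subgroup G) (a : Ω)
    (Q : Subgroup (Equiv.Perm (pts Ω z H))) (P : Subgroup G) : Prop where
  mem : ∀ g : G, g ∈ P ↔ ∃ hg : g ∈ H, g ∈ DCl z H ∧ g • a = a ∧ TwoElt g ∧
    rho Ω z H ⟨g, hg⟩ ∈ Q
  surj : ∀ x ∈ Q, ∃ g : H, (g : G) ∈ P ∧ rho Ω z H g = x

theorem LocQ.exists_P [Finite G] (h : Setup G Ω z) {V : Ω → Subgroup G}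
    (hV : ∀ a x, x ∈ V a ↔ x = 1 ∨ x ∈ At z a) {H : Subgroup G} {a b : Ω} (hab : a ≠ b)
    (ha : a ∈ pts Ω z H) (hb : b ∈ pts Ω z H) {k : ℕ} {Q : Subgroup (Equiv.Perm (pts Ω z H))}
    (L : LocQ Ω z H a (V a) k Q) : ∃ P : Subgroup G, LocP Ω z H a Q P := by
  have : Fact (Nat.Prime 2) := ⟨Nat.prime_two⟩
  have hfQ : Finite Q := L.qe.fin
  have hQ2 : IsPGroup 2 Q := by
    refine IsPGroup.of_card (n := k * 3) ?_
    rw [L.qe.card_Q, pow_mul]
  let N : Subgroup H :=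
    (DCl z H).subgroupOf H ⊓ (MulAction.stabilizer G a).subgroupOf H ⊓ Q.comap (rho Ω z H)
  have hN : ∀ g : H, g ∈ N ↔ (g : G) ∈ DCl z H ∧ (g : G) • a = a ∧ rho Ω z H g ∈ Q := by
    intro g
    constructor
    · rintro ⟨⟨h1, h2⟩, h3⟩
      exact ⟨h1, h2, h3⟩
    · rintro ⟨h1, h2, h3⟩
      exact ⟨⟨h1, h2⟩, h3⟩
  let f : N →* Q := ((rho Ω z H).comp N.subtype).codRestrict Q (fun g => ((hN g).mp g.2).2.2)
  have hf : Function.Surjective f := by
    rintro ⟨x, hx⟩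
    obtain ⟨g, hg1, hg2, hg3⟩ := L.lift x hx
    exact ⟨⟨g, (hN g).mpr ⟨hg1, hg2, by rw [hg3]; exact hx⟩⟩, Subtype.ext hg3⟩
  have hker : f.ker ≤ Subgroup.center N := by
    intro n hn
    have h1 : rho Ω z H (n : H) = 1 := congrArg Subtype.val hn
    rw [Subgroup.mem_center_iff]
    intro m
    have h2 := ker_commute h hV hab ha hb ((rho_eq_one_iff _).mp h1)
      (((hN m).mp m.2).1)
    exact Subtype.ext (Subtype.ext h2.symm.eq)
  have hQn : Group.IsNilpotent Q := hQ2.isNilpotent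
  have hNn : Group.IsNilpotent N := Subgroup.isNilpotent_of_ker_le_center f hker
  have hnorm := (Group.isNilpotent_of_finite_tfae (G := N)).out 0 3
  obtain ⟨S⟩ : Nonempty (Sylow 2 N) := inferInstance
  have hSn : (S : Subgroup N).Normal := hnorm.mp hNn 2 inferInstance S
  have hSmem : ∀ n : N, n ∈ (S : Subgroup N) ↔ TwoElt n := by
    intro n
    constructor
    · intro hn
      exact TwoElt.of_mem S.2 hn
    · rintro ⟨m, hm⟩
      have h1 : IsPGroup 2 (Subgroup.zpowers n) := by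
        refine IsPGroup.of_card (n := m) ?_
        rw [Nat.card_zpowers, hm]
      obtain ⟨S', hS'⟩ := h1.exists_le_sylow
      have h2 : Unique (Sylow 2 N) := S.unique_of_normal hSn
      have h3 : S' = S := (h2.uniq S').trans (h2.uniq S).symm
      rw [← h3]
      exact hS' (Subgroup.mem_zpowers n)
  refine ⟨((S : Subgroup N).map N.subtype).map H.subtype, ?_, ?_⟩
  · intro g
    constructor
    · rintro ⟨_, ⟨n, hn, rfl⟩, rfl⟩
      obtain ⟨h1, h2, h3⟩ := (hN n).mp n.2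
      refine ⟨(n : H).2, h1, h2, ?_, h3⟩
      exact TwoElt.coe.mpr (TwoElt.coe.mpr ((hSmem n).mp hn))
    · rintro ⟨hg, h1, h2, h3, h4⟩
      have hgN : (⟨g, hg⟩ : H) ∈ N := (hN _).mpr ⟨h1, h2, h4⟩
      refine ⟨⟨g, hg⟩, ⟨⟨⟨g, hg⟩, hgN⟩, ?_, rfl⟩, rfl⟩
      rw [SetLike.mem_coe, hSmem]
      exact TwoElt.coe.mp (TwoElt.coe.mp h3)
  · intro x hx
    have h1 : ((S.mapSurjective hf : Sylow 2 Q) : Subgroup Q) = ⊤ :=
      ((S.mapSurjective hf).3 (hQ2.to_subgroup ⊤) le_top).symm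
    rw [Sylow.coe_mapSurjective] at h1
    have h2 : (⟨x, hx⟩ : Q) ∈ (S : Subgroup N).map f := by rw [h1]; trivial
    obtain ⟨n, hn, hnx⟩ := h2
    exact ⟨n, ⟨n, ⟨n, hn, rfl⟩, rfl⟩, congrArg Subtype.val hnx⟩

end Cfsg.Agent.AschCrit.CommFive
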