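import Cfsg.Agent.AschCrit.RankOneThree
import Cfsg.Agent.AschCrit.RankOneTwo
import Cfsg.Agent.AschCrit.Induct
import Cfsg.Agent.AschCrit.CommFrame
import Cfsg.Agent.AschCrit.CommFive.Local

/-!
# (C5): the local data

`exists_local` : `LocQ` and `LocY` for the subgroups `H < G` containing `V_a` and `V_b` with
`|pts| = q ^ 3 + 1`, `q = |V_a|`, from Theorem T and the facts on rank-one set-ups of type `PSU₃(q)`.
-/

set_option autoImplicit false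

universe u

namespace Cfsg.Agent.AschCrit.CommFive

open Cfsg MulAction
open Cfsg.Agent.TwoFusion.StronglyEmbeddedBasic Cfsg.Agent.AschCrit.Basic
open Cfsg.Agent.AschCrit.Basic.Setup Cfsg.Agent.AschCrit.Closed Cfsg.Agent.AschCrit.Descent

namespace Bridge

open Cfsg.Agent.AschCrit.NonIso Cfsg.Agent.AschCrit.InductFaithful
open Cfsg.Agent.AschCrit.InductAct Cfsg.Agent.AschCrit.BGroup Cfsg.Agent.AschCrit.Induct
open Cfsg.Agent.AschCrit.RankOneThree Cfsg.Agent.StrongEmb.Split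

/-! ### Change of the swapping involution -/

section

variable {G Ω : Type*} [Group G] [MulAction G Ω] {a : Ω} {t x : G} {Q : Subgroup G}

theorem rankOne_conj (hS : IsRankOneSetup G Ω a t Q) (hx : x ∈ Q) :
    IsRankOneSetup G Ω a (x * t * x⁻¹) Q := by
  have hxa : x • a = a := hS.le hx
  have hxa' : x⁻¹ • a = a := by rw [inv_smul_eq_iff, hxa]
  have e1 : (x * t * x⁻¹) • a = x • t • a := by rw [mul_smul, mul_smul, hxa']
  have hst : ∀ y : G, y ∈ stabilizer G (x • t • a) ↔ x⁻¹ * y * x ∈ stabilizer G (t • a) := by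
    intro y
    rw [mem_stabilizer_iff, mem_stabilizer_iff, mul_smul, mul_smul, inv_smul_eq_iff]
  have hsa : ∀ y : G, y ∈ stabilizer G a ↔ x⁻¹ * y * x ∈ stabilizer G a := by
    intro y
    rw [mem_stabilizer_iff, mem_stabilizer_iff, mul_smul, mul_smul, inv_smul_eq_iff, hxa]
  have hconj : ∀ y : G, y ∈ stabilizer G a ⊓ stabilizer G (x • t • a) ↔
      x⁻¹ * y * x ∈ stabilizer G a ⊓ stabilizer G (t • a) := by
    intro y
    rw [Subgroup.mem_inf, Subgroup.mem_inf, hst y, ← hsa y]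
  refine
    { two_transitive := hS.two_transitive
      mul_self := ?_
      ne_one := ?_
      not_mem := ?_
      le := hS.le
      conj_mem := hS.conj_mem
      inf_eq_bot := ?_
      sup_eq := ?_
      even_card := hS.even_card
      odd_card := ?_ }
  · calc x * t * x⁻¹ * (x * t * x⁻¹) = x * (t * t) * x⁻¹ := by group
      _ = 1 := by rw [hS.mul_self]; group
  · intro h1
    apply hS.ne_one
    calc t = x⁻¹ * (x * t * x⁻¹) * x := by group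
      _ = 1 := by rw [h1]; group
  · intro h1
    apply hS.not_mem
    rw [mem_stabilizer_iff, e1, smul_eq_iff_eq_inv_smul, hxa'] at h1
    exact h1
  · rw [e1, eq_bot_iff]
    intro y hy
    obtain ⟨hy1, hy2⟩ := Subgroup.mem_inf.mp hy
    have h1 : x⁻¹ * y * x ∈ Q ⊓ stabilizer G (t • a) :=
      Subgroup.mem_inf.mpr ⟨mul_mem (mul_mem (inv_mem hx) hy1) hx, (hst y).mp hy2⟩
    rw [hS.inf_eq_bot, Subgroup.mem_bot] at h1
    rw [Subgroup.mem_bot]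
    calc y = x * (x⁻¹ * y * x) * x⁻¹ := by group
      _ = 1 := by rw [h1]; group
  · rw [e1]
    apply le_antisymm
    · exact sup_le hS.le inf_le_left
    · refine le_trans (le_of_eq hS.sup_eq.symm) (sup_le le_sup_left ?_)
      intro y hy
      have h1 : x * y * x⁻¹ ∈ stabilizer G a ⊓ stabilizer G (x • t • a) := by
        rw [hconj]
        have e : x⁻¹ * (x * y * x⁻¹) * x = y := by group
        rwa [e]
      have h2 : x ∈ Q ⊔ (stabilizer G a ⊓ stabilizer G (x • t • a)) := Subgroup.mem_sup_left hx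
      have h3 := mul_mem (mul_mem (inv_mem h2) (Subgroup.mem_sup_right h1)) h2
      have e : x⁻¹ * (x * y * x⁻¹) * x = y := by group
      rwa [e] at h3
  · rw [e1]
    have h1 : Nat.card ↥(stabilizer G a ⊓ stabilizer G (x • t • a)) =
        Nat.card ↥(stabilizer G a ⊓ stabilizer G (t • a)) := by
      refine Nat.card_congr
        { toFun := fun y => ⟨x⁻¹ * y * x, (hconj _).mp y.2⟩
          invFun := fun y => ⟨x * y * x⁻¹, (hconj _).mpr (by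
            have e : x⁻¹ * (x * (y : G) * x⁻¹) * x = y := by group
            rw [e]; exact y.2)⟩
          left_inv := fun y => Subtype.ext (by
            show x * (x⁻¹ * (y : G) * x) * x⁻¹ = y
            group)
          right_inv := fun y => Subtype.ext (by
            show x⁻¹ * (x * (y : G) * x⁻¹) * x = y
            group) }
    rw [h1]
    exact hS.odd_card

end

/-! ### Lifts to `⟨D ∩ H⟩` -/

section

variable {G Ω : Type u} [Group G] [Finite G] [MulAction G Ω] {z : G} {H : Subgroup G}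

omit [Finite G] in
theorem dcl_normal : ((DCl z H).subgroupOf H).Normal := by
  constructor
  intro n hn g
  rw [Subgroup.mem_subgroupOf] at hn ⊢
  have h1 : ((g * n * g⁻¹ : H) : G) = MulAut.conj (g : G) (n : G) := rfl
  rw [h1]
  have h2 : (DCl z H).map (MulAut.conj (g : G)).toMonoidHom ≤ DCl z H := by
    rw [DCl, MonoidHom.map_closure, Subgroup.closure_le]
    rintro _ ⟨d, ⟨hd, hdH⟩, rfl⟩
    exact Subgroup.subset_closure ⟨conj_mem hd _, mul_mem (mul_mem g.2 hdH) (inv_mem g.2)⟩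
  exact h2 ⟨n, hn, rfl⟩

omit [Finite G] in
theorem exists_lift {d₀ : G} (hd₀ : IsConj z d₀) (hd₀H : d₀ ∈ H) {x : Im H (pts Ω z H)}
    (hx : x ∈ L (pr H (pts Ω z H) ⟨d₀, hd₀H⟩)) :
    ∃ g : H, (g : G) ∈ DCl z H ∧ pr H (pts Ω z H) g = x := by
  have h1 : (((DCl z H).subgroupOf H).map (pr H (pts Ω z H))).Normal :=
    Subgroup.Normal.map dcl_normal _ (toPermHom H (pts Ω z H)).rangeRestrict_surjective
  have h2 : L (pr H (pts Ω z H) ⟨d₀, hd₀H⟩) ≤ ((DCl z H).subgroupOf H).map (pr H (pts Ω z H)) := by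
    apply Subgroup.normalClosure_le_normal
    rintro _ rfl
    exact ⟨⟨d₀, hd₀H⟩, Subgroup.subset_closure ⟨hd₀, hd₀H⟩, rfl⟩
  obtain ⟨g, hg, rfl⟩ := h2 hx
  exact ⟨g, hg, rfl⟩

/-- the image of `⟨D ∩ H⟩` is simple, faithful, and contains a four-group -/
theorem simple_L (h : Setup G Ω z) {a b : Ω} (hab : a ≠ b)
    {d₀ e₀ : G} (hd₀ : d₀ ∈ At z a) (he₀ : e₀ ∈ At z b) (hd₀H : d₀ ∈ H) (he₀H : e₀ ∈ H)
    (hp : ∃ d e : G, d ∈ H ∧ e ∈ H ∧ IsConj z d ∧ IsConj z e ∧ Commute d e ∧ d ≠ e) :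
    IsSimpleGroup (L (pr H (pts Ω z H) ⟨d₀, hd₀H⟩)) ∧
      FaithfulSMul (L (pr H (pts Ω z H) ⟨d₀, hd₀H⟩)) (pts Ω z H) := by
  have hS := setup_pts h hab hd₀ he₀ hd₀H he₀H
  have hnH := nonIso_mk h hab hd₀ he₀ hd₀H he₀H hp
  have hsurj : Function.Surjective (pr H (pts Ω z H)) :=
    (toPermHom H (pts Ω z H)).rangeRestrict_surjective
  have hc : ∀ (g : H) (a : pts Ω z H), pr H (pts Ω z H) g • a = g • a := fun g a => rfl
  have hfin : Finite (Im H (pts Ω z H)) := Finite.of_surjective _ hsurj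
  have hf : ∀ g : Im H (pts Ω z H), (∀ a : pts Ω z H, g • a = a) → g = 1 := by
    intro g hg
    apply Subtype.ext
    ext a
    exact congrArg Subtype.val (hg a)
  have hQ : Setup (Im H (pts Ω z H)) (pts Ω z H) (pr H (pts Ω z H) ⟨d₀, hd₀H⟩) :=
    setup_map hS _ hsurj hc
  have hnQ : NonIso (pr H (pts Ω z H) ⟨d₀, hd₀H⟩) := by
    obtain ⟨d, hd, hzd, hne⟩ := id hnH
    exact ⟨pr H (pts Ω z H) d, (pr H (pts Ω z H)).map_isConj hd, hzd.map (pr H (pts Ω z H)),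
      fun hh => hne (eq_of_map_eq (pr H (pts Ω z H)) hS hc (IsConj.refl _) hd hzd hh.symm).symm⟩
  refine ⟨isSimpleGroup_closure hQ hf hnQ, ⟨fun {g₁ g₂} hg => ?_⟩⟩
  apply Subtype.ext
  apply Subtype.ext
  ext c
  exact congrArg Subtype.val (hg c)

end

/-! ### The involutions of the point stabiliser -/

section

variable {G Ω : Type u} [Group G] [Finite G] [MulAction G Ω] {z : G} {H : Subgroup G}
  {V : Subgroup G} {a b : Ω}

include H in
omit [Finite G] in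
theorem pr_smul (g : H) (c : pts Ω z H) : pr H (pts Ω z H) g • c = g • c := rfl

omit [Finite G] in
theorem fix_iff (g : H) {c : Ω} (hc : c ∈ pts Ω z H) :
    pr H (pts Ω z H) g • (⟨c, hc⟩ : pts Ω z H) = ⟨c, hc⟩ ↔ (g : G) • c = c :=
  ⟨fun h3 => congrArg Subtype.val h3, fun h3 => Subtype.ext h3⟩

omit [Finite G] in
theorem pr_injOn (h : Setup G Ω z) (hV : ∀ x : G, x ∈ V ↔ x = 1 ∨ x ∈ At z a) (hab : a ≠ b)
    (hb : b ∈ pts Ω z H) {v w : H} (hv : (v : G) ∈ V) (hw : (w : G) ∈ V)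
    (hvw : pr H (pts Ω z H) v = pr H (pts Ω z H) w) : v = w := by
  have h1 : pr H (pts Ω z H) (v * w⁻¹) = 1 := by rw [map_mul, map_inv, hvw, mul_inv_cancel]
  have h2 : ((v * w⁻¹ : H) : G) ∈ V := mul_mem hv (inv_mem hw)
  rcases (hV _).mp h2 with h3 | h3
  · exact mul_inv_eq_one.mp (Subtype.ext h3)
  · exfalso
    have h4 := (fix_iff (z := z) (v * w⁻¹) hb).mp (by rw [h1, one_smul])
    exact hab (h.uniq h3.1 h3.2 h4)

theorem pr_mem_L (h : Setup G Ω z) (hV : ∀ x : G, x ∈ V ↔ x = 1 ∨ x ∈ At z a) {p r : Ω}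
    (hpr : p ≠ r) {d₀ e₀ : G} (hd₀ : d₀ ∈ At z p) (he₀ : e₀ ∈ At z r) (hd₀H : d₀ ∈ H)
    (he₀H : e₀ ∈ H) {v : H} (hv : (v : G) ∈ V) :
    pr H (pts Ω z H) v ∈ L (pr H (pts Ω z H) ⟨d₀, hd₀H⟩) := by
  have hconj := isConj_subgroup_iff h hpr hd₀ he₀ hd₀H he₀H
  rcases (hV _).mp hv with h1 | h1
  · have : v = 1 := Subtype.ext h1
    rw [this, map_one]; exact one_mem _
  · exact mem_L ((pr H (pts Ω z H)).map_isConj ((hconj v).mpr h1.1))

/-- the involutions of the point stabiliser in the image of `⟨D ∩ H⟩` are the images of `V#` -/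
theorem inv_iff (h : Setup G Ω z) (hV : ∀ x : G, x ∈ V ↔ x = 1 ∨ x ∈ At z a) (hVH : V ≤ H)
    (ha : a ∈ pts Ω z H) (hb : b ∈ pts Ω z H) (hab : a ≠ b) {p r : Ω}
    (hpr : p ≠ r) {d₀ e₀ : G} (hd₀ : d₀ ∈ At z p) (he₀ : e₀ ∈ At z r) (hd₀H : d₀ ∈ H)
    (he₀H : e₀ ∈ H)
    (hinv : Nat.card (involutionsIn (stabilizer (L (pr H (pts Ω z H) ⟨d₀, hd₀H⟩))
      (⟨a, ha⟩ : pts Ω z H) : Set (L (pr H (pts Ω z H) ⟨d₀, hd₀H⟩)))) + 1 = Nat.card V)
    (s : L (pr H (pts Ω z H) ⟨d₀, hd₀H⟩)) :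
    s ∈ involutionsIn (stabilizer (L (pr H (pts Ω z H) ⟨d₀, hd₀H⟩))
      (⟨a, ha⟩ : pts Ω z H) : Set (L (pr H (pts Ω z H) ⟨d₀, hd₀H⟩))) ↔
      ∃ v : H, (v : G) ∈ V ∧ v ≠ 1 ∧ (s : Im H (pts Ω z H)) = pr H (pts Ω z H) v := by
  classical
  have hfin : Finite (Im H (pts Ω z H)) :=
    Finite.of_surjective _ (toPermHom H (pts Ω z H)).rangeRestrict_surjective
  have hmem : ∀ v : H, (v : G) ∈ V → pr H (pts Ω z H) v ∈ L (pr H (pts Ω z H) ⟨d₀, hd₀H⟩) :=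
    fun v hv => pr_mem_L h hV hpr hd₀ he₀ hd₀H he₀H hv
  have hI : ∀ v : H, ∀ hv : (v : G) ∈ V, v ≠ 1 →
      (⟨pr H (pts Ω z H) v, hmem v hv⟩ : L (pr H (pts Ω z H) ⟨d₀, hd₀H⟩)) ∈
      involutionsIn (stabilizer (L (pr H (pts Ω z H) ⟨d₀, hd₀H⟩))
      (⟨a, ha⟩ : pts Ω z H) : Set (L (pr H (pts Ω z H) ⟨d₀, hd₀H⟩))) := by
    intro v hv hv1
    refine ⟨?_, ?_, ?_⟩
    · have hva : (v : G) • a = a := by
        rcases (hV _).mp hv with h1 | h1
        · rw [h1, one_smul]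
        · exact h1.2
      exact (fix_iff (z := z) v ha).mpr hva
    · intro h1
      apply hv1
      refine pr_injOn h hV hab hb hv (one_mem V) ?_
      rw [map_one]
      exact congrArg Subtype.val h1
    · apply Subtype.ext
      show pr H (pts Ω z H) v * pr H (pts Ω z H) v = 1
      rw [← map_mul]
      have h1 : v * v = 1 := by
        apply Subtype.ext
        rcases (hV _).mp hv with h1 | h1
        · show (v : G) * v = 1
          rw [h1, one_mul]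
        · exact h.mul_self h1.1
      rw [h1, map_one]
  constructor
  · intro hs
    let f : {v : V // v ≠ 1} → involutionsIn (stabilizer (L (pr H (pts Ω z H) ⟨d₀, hd₀H⟩))
      (⟨a, ha⟩ : pts Ω z H) : Set (L (pr H (pts Ω z H) ⟨d₀, hd₀H⟩))) := fun v =>
      ⟨_, hI ⟨v.1.1, hVH v.1.2⟩ v.1.2 (fun h1 => v.2 (Subtype.ext (congrArg (fun x : H => (x : G)) h1)))⟩
    have hfinj : Function.Injective f := by
      intro v v' hvv
      have h1 : pr H (pts Ω z H) ⟨v.1.1, hVH v.1.2⟩ = pr H (pts Ω z H) ⟨v'.1.1, hVH v'.1.2⟩ :=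
        congrArg Subtype.val (congrArg Subtype.val hvv)
      have h2 := pr_injOn h hV hab hb v.1.2 v'.1.2 h1
      exact Subtype.ext (Subtype.ext (congrArg (fun x : H => (x : G)) h2))
    have hcard1 : Nat.card {v : V // v ≠ 1} + 1 = Nat.card V := by
      rw [← Nat.card_congr (Equiv.optionSubtypeNe (1 : V)), Finite.card_option]
    have hfsurj : Function.Surjective f :=
      (Function.Injective.bijective_of_nat_card_le hfinj (by omega)).2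
    obtain ⟨v, hv⟩ := hfsurj ⟨s, hs⟩
    exact ⟨⟨v.1.1, hVH v.1.2⟩, v.1.2, fun h1 => v.2 (Subtype.ext (congrArg (fun x : H => (x : G)) h1)),
      (congrArg Subtype.val (congrArg Subtype.val hv)).symm⟩
  · rintro ⟨v, hv, hv1, hsv⟩
    have h1 : s = ⟨pr H (pts Ω z H) v, hmem v hv⟩ := Subtype.ext hsv
    rw [h1]
    exact hI v hv hv1

end

/-! ### `LocQ` -/

/-- the image in the permutations of `pts` of a subgroup of the normal closure -/
abbrev big {G Ω : Type u} [Group G] [MulAction G Ω] {z : G} {H : Subgroup G}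
    {x : Im H (pts Ω z H)} (Q : Subgroup (L x)) : Subgroup (Equiv.Perm (pts Ω z H)) :=
  (Q.map (L x).subtype).map (Im H (pts Ω z H)).subtype

section

variable {G Ω : Type u} [Group G] [MulAction G Ω] {z : G} {H : Subgroup G}
  {V : Subgroup G} {a b : Ω}

theorem mem_big {x : Im H (pts Ω z H)} {Q : Subgroup (L x)} {y : Equiv.Perm (pts Ω z H)} :
    y ∈ big Q ↔ ∃ g ∈ Q, ((g : Im H (pts Ω z H)) : Equiv.Perm (pts Ω z H)) = y := by
  constructor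
  · rintro ⟨_, ⟨g, hg, rfl⟩, rfl⟩
    exact ⟨g, hg, rfl⟩
  · rintro ⟨g, hg, rfl⟩
    exact ⟨_, ⟨g, hg, rfl⟩, rfl⟩

variable [Finite G]

/-- the elements of `V` and the image of `V` in the permutations of `pts` -/
theorem mem_E (h : Setup G Ω z) (hV : ∀ x : G, x ∈ V ↔ x = 1 ∨ x ∈ At z a) (hVH : V ≤ H)
    (ha : a ∈ pts Ω z H) (hb : b ∈ pts Ω z H) (hab : a ≠ b) {p r : Ω}
    (hpr : p ≠ r) {d₀ e₀ : G} (hd₀ : d₀ ∈ At z p) (he₀ : e₀ ∈ At z r) (hd₀H : d₀ ∈ H)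
    (he₀H : e₀ ∈ H)
    (hinv : Nat.card (involutionsIn (stabilizer (L (pr H (pts Ω z H) ⟨d₀, hd₀H⟩))
      (⟨a, ha⟩ : pts Ω z H) : Set (L (pr H (pts Ω z H) ⟨d₀, hd₀H⟩)))) + 1 = Nat.card V)
    {s : L (pr H (pts Ω z H) ⟨d₀, hd₀H⟩)} (hs : s • (⟨a, ha⟩ : pts Ω z H) = ⟨a, ha⟩)
    (hs2 : s * s = 1) :
    ((s : Im H (pts Ω z H)) : Equiv.Perm (pts Ω z H)) ∈ (V.subgroupOf H).map (rho Ω z H) := by
  by_cases hs1 : s = 1
  · rw [hs1]; exact one_mem _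
  · obtain ⟨v, hv, -, hsv⟩ := (inv_iff h hV hVH ha hb hab hpr hd₀ he₀ hd₀H he₀H hinv s).mp
      ⟨hs, hs1, hs2⟩
    exact ⟨v, hv, by rw [hsv]; rfl⟩

theorem of_mem_E (h : Setup G Ω z) (hV : ∀ x : G, x ∈ V ↔ x = 1 ∨ x ∈ At z a) (hVH : V ≤ H)
    (ha : a ∈ pts Ω z H) (hb : b ∈ pts Ω z H) (hab : a ≠ b) {p r : Ω}
    (hpr : p ≠ r) {d₀ e₀ : G} (hd₀ : d₀ ∈ At z p) (he₀ : e₀ ∈ At z r) (hd₀H : d₀ ∈ H)
    (he₀H : e₀ ∈ H)
    (hinv : Nat.card (involutionsIn (stabilizer (L (pr H (pts Ω z H) ⟨d₀, hd₀H⟩))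
      (⟨a, ha⟩ : pts Ω z H) : Set (L (pr H (pts Ω z H) ⟨d₀, hd₀H⟩)))) + 1 = Nat.card V)
    {e : Equiv.Perm (pts Ω z H)} (he : e ∈ (V.subgroupOf H).map (rho Ω z H)) :
    ∃ s : L (pr H (pts Ω z H) ⟨d₀, hd₀H⟩),
      ((s : Im H (pts Ω z H)) : Equiv.Perm (pts Ω z H)) = e ∧
      (s = 1 ∨ s ∈ involutionsIn (stabilizer (L (pr H (pts Ω z H) ⟨d₀, hd₀H⟩))
      (⟨a, ha⟩ : pts Ω z H) : Set (L (pr H (pts Ω z H) ⟨d₀, hd₀H⟩)))) := by
  obtain ⟨v, hv, rfl⟩ := he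
  by_cases hv1 : v = 1
  · exact ⟨1, by rw [hv1, map_one]; rfl, Or.inl rfl⟩
  · refine ⟨⟨pr H (pts Ω z H) v, pr_mem_L h hV hpr hd₀ he₀ hd₀H he₀H hv⟩, rfl, Or.inr ?_⟩
    exact (inv_iff h hV hVH ha hb hab hpr hd₀ he₀ hd₀H he₀H hinv _).mpr ⟨v, hv, hv1, rfl⟩

theorem locQ (h : Setup G Ω z) (hV : ∀ x : G, x ∈ V ↔ x = 1 ∨ x ∈ At z a) (hVH : V ≤ H)
    (ha : a ∈ pts Ω z H) (hb : b ∈ pts Ω z H) (hab : a ≠ b) {p r : Ω}
    (hpr : p ≠ r) {d₀ e₀ : G} (hd₀ : d₀ ∈ At z p) (he₀ : e₀ ∈ At z r) (hd₀H : d₀ ∈ H)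
    (he₀H : e₀ ∈ H)
    (hinv : Nat.card (involutionsIn (stabilizer (L (pr H (pts Ω z H) ⟨d₀, hd₀H⟩))
      (⟨a, ha⟩ : pts Ω z H) : Set (L (pr H (pts Ω z H) ⟨d₀, hd₀H⟩)))) + 1 = Nat.card V)
    {k : ℕ} (h2k : 2 ≤ k) (hVc : Nat.card V = 2 ^ k)
    {t : L (pr H (pts Ω z H) ⟨d₀, hd₀H⟩)} {Q : Subgroup (L (pr H (pts Ω z H) ⟨d₀, hd₀H⟩))}
    (hS : IsRankOneSetup (L (pr H (pts Ω z H) ⟨d₀, hd₀H⟩)) (pts Ω z H) ⟨a, ha⟩ t Q)
    (hQ2 : IsPGroup 2 Q) (hQc : Nat.card Q = (2 ^ k) ^ 3)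
    (hT : Three (⟨a, ha⟩ : pts Ω z H) t Q k) : LocQ Ω z H a V k (big Q) := by
  classical
  have hfin : Finite (Im H (pts Ω z H)) :=
    Finite.of_surjective _ (toPermHom H (pts Ω z H)).rangeRestrict_surjective
  have hfixQ : ∀ x ∈ Q, x • (⟨a, ha⟩ : pts Ω z H) = ⟨a, ha⟩ := fun x hx => hS.le hx
  have hreg := (Cfsg.Agent.S1119.result hS).1
  refine
    { VH := hVH
      qe := ?_
      lift := ?_
      norm := ?_
      trans := ?_
      reg := ?_ }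
  · refine
      { fin := ?_
        le := ?_
        card_E := ?_
        card_Q := ?_
        two_le := h2k
        central := ?_
        el := ?_
        sq := ?_
        inv := ?_ }
    · apply Nat.finite_of_card_ne_zero
      rw [Subgroup.card_map_of_injective (Subgroup.subtype_injective _),
        Subgroup.card_map_of_injective (Subgroup.subtype_injective _), hQc]
      positivity
    · intro e he
      obtain ⟨s, rfl, hs⟩ := of_mem_E h hV hVH ha hb hab hpr hd₀ he₀ hd₀H he₀H hinv he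
      rcases hs with hs | hs
      · rw [hs]; exact one_mem _
      · exact mem_big.mpr ⟨s, (hT.central s hs).1, rfl⟩
    · have h1 : Nat.card ((V.subgroupOf H).map (rho Ω z H)) = Nat.card (V.subgroupOf H) := by
        rw [← MonoidHom.domRestrict_range]
        refine (Nat.card_congr (MonoidHom.ofInjective ?_).toEquiv).symm
        intro v w hvw
        apply Subtype.ext
        refine pr_injOn h hV hab hb v.2 w.2 ?_
        exact Subtype.ext hvw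
      rw [h1, Nat.card_congr (Subgroup.subgroupOfEquivOfLe hVH).toEquiv, hVc]
    · rw [Subgroup.card_map_of_injective (Subgroup.subtype_injective _),
        Subgroup.card_map_of_injective (Subgroup.subtype_injective _), hQc]
    · intro e he x hx
      obtain ⟨s, rfl, hs⟩ := of_mem_E h hV hVH ha hb hab hpr hd₀ he₀ hd₀H he₀H hinv he
      obtain ⟨g, hg, rfl⟩ := mem_big.mp hx
      rcases hs with hs | hs
      · rw [hs]; exact Commute.one_left _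
      · have h1 := (hT.central s hs).2 g hg
        exact congrArg (fun x : L (pr H (pts Ω z H) ⟨d₀, hd₀H⟩) =>
          ((x : Im H (pts Ω z H)) : Equiv.Perm (pts Ω z H))) h1
    · intro e he
      obtain ⟨s, rfl, hs⟩ := of_mem_E h hV hVH ha hb hab hpr hd₀ he₀ hd₀H he₀H hinv he
      rcases hs with hs | hs
      · rw [hs]; exact one_mul _
      · exact congrArg (fun x : L (pr H (pts Ω z H) ⟨d₀, hd₀H⟩) =>
          ((x : Im H (pts Ω z H)) : Equiv.Perm (pts Ω z H))) hs.2.2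
    · intro x hx
      obtain ⟨g, hg, rfl⟩ := mem_big.mp hx
      exact mem_E h hV hVH ha hb hab hpr hd₀ he₀ hd₀H he₀H hinv (s := g * g)
        (hfixQ _ (mul_mem hg hg)) (hT.sq_sq g hg)
    · intro x hx hx2
      obtain ⟨g, hg, rfl⟩ := mem_big.mp hx
      refine mem_E h hV hVH ha hb hab hpr hd₀ he₀ hd₀H he₀H hinv (s := g) (hfixQ _ hg) ?_
      exact Subtype.ext (Subtype.ext hx2)
  · intro x hx
    obtain ⟨g, hg, rfl⟩ := mem_big.mp hx
    obtain ⟨y, hy, hyg⟩ := exists_lift hd₀.1 hd₀H g.2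
    refine ⟨y, hy, ?_, ?_⟩
    · rw [← fix_iff (z := z) y ha, hyg]
      exact hfixQ g hg
    · rw [← hyg]; rfl
  · intro g hga x hx
    obtain ⟨y, hy, rfl⟩ := mem_big.mp hx
    have hLn : (L (pr H (pts Ω z H) ⟨d₀, hd₀H⟩)).Normal := Subgroup.normalClosure_normal
    have h5 := hLn.conj_mem (y : Im H (pts Ω z H)) y.2 (pr H (pts Ω z H) g)
    have h6 : pr H (pts Ω z H) g • (⟨a, ha⟩ : pts Ω z H) = ⟨a, ha⟩ := (fix_iff g ha).mpr hga
    refine mem_big.mpr ⟨⟨_, h5⟩, Cfsg.Agent.AschCrit.RankOneTwo.mem_Q hS ?_ ?_, rfl⟩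
    · show (pr H (pts Ω z H) g * (y : Im H (pts Ω z H)) * (pr H (pts Ω z H) g)⁻¹) •
        (⟨a, ha⟩ : pts Ω z H) = ⟨a, ha⟩
      have h7 : (pr H (pts Ω z H) g)⁻¹ • (⟨a, ha⟩ : pts Ω z H) = ⟨a, ha⟩ := by
        rw [inv_smul_eq_iff, h6]
      have h8 : (y : Im H (pts Ω z H)) • (⟨a, ha⟩ : pts Ω z H) = ⟨a, ha⟩ := hfixQ y hy
      rw [mul_smul, mul_smul, h7, h8, h6]
    · obtain ⟨n, hn⟩ := IsPGroup.iff_orderOf.mp hQ2 ⟨y, hy⟩
      refine ⟨n, ?_⟩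
      rw [Subgroup.orderOf_mk, orderOf_conj, Subgroup.orderOf_coe]
      rwa [Subgroup.orderOf_mk] at hn
  · intro c hc d hd hca hda
    obtain ⟨x, hx, -⟩ := hreg ⟨c, hc⟩ ⟨d, hd⟩ (fun hh => hca (congrArg Subtype.val hh))
      (fun hh => hda (congrArg Subtype.val hh))
    obtain ⟨y, hy, hyg⟩ := exists_lift hd₀.1 hd₀H (x : L (pr H (pts Ω z H) ⟨d₀, hd₀H⟩)).2
    refine ⟨y, mem_big.mpr ⟨x, x.2, by rw [← hyg]; rfl⟩, ?_⟩
    have h1 : pr H (pts Ω z H) y • (⟨c, hc⟩ : pts Ω z H) = ⟨d, hd⟩ := by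
      rw [hyg]; exact hx
    exact congrArg Subtype.val h1
  · intro g hg c hc hca hgc
    obtain ⟨x, hx, hxg⟩ := mem_big.mp hg
    obtain ⟨y, -, hy⟩ := hreg ⟨c, hc⟩ ⟨c, hc⟩ (fun hh => hca (congrArg Subtype.val hh))
      (fun hh => hca (congrArg Subtype.val hh))
    have h1 := hy 1 (one_smul _ _)
    have h2 := hy ⟨x, hx⟩ (by
      have h3 : (x : Im H (pts Ω z H)) = pr H (pts Ω z H) g := Subtype.ext hxg
      show (x : Im H (pts Ω z H)) • (⟨c, hc⟩ : pts Ω z H) = ⟨c, hc⟩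
      rw [h3]
      exact (fix_iff g hc).mpr hgc)
    have h3 : x = 1 := congrArg Subtype.val (h2.trans h1.symm)
    rw [← hxg, h3]
    rfl

/-! ### `LocY` -/

omit [Finite G] in
theorem comm_of_pr (h : Setup G Ω z) {c f : Ω} {U : Subgroup G}
    (hU : ∀ x : G, x ∈ U ↔ x = 1 ∨ x ∈ At z c) (hcf : c ≠ f) (hf : f ∈ pts Ω z H)
    {y v : H} (hy : (y : G) • c = c) (hv : (v : G) ∈ U)
    (hc : Commute (pr H (pts Ω z H) y) (pr H (pts Ω z H) v)) : Commute (y : G) (v : G) := by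
  have h1 : ((y * v * y⁻¹ : H) : G) ∈ U := by
    rcases (hU _).mp hv with h1 | h1
    · have h2 : v = 1 := Subtype.ext h1
      rw [h2, mul_one, mul_inv_cancel]
      exact one_mem U
    · refine (hU _).mpr (Or.inr ?_)
      have h2 := conj_mem_At (y : G) h1
      rwa [hy] at h2
  have h2 : pr H (pts Ω z H) (y * v * y⁻¹) = pr H (pts Ω z H) v := by
    rw [map_mul, map_mul, map_inv, hc.eq, mul_inv_cancel_right]
  have h3 := pr_injOn h hU hcf hf h1 hv h2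
  have h4 : y * v = v * y := mul_inv_eq_iff_eq_mul.mp h3
  exact congrArg Subtype.val h4

/-- the subgroup `W` -/
def wGrp {X Ψ : Type*} [Group X] [MulAction X Ψ] (a b : Ψ) : Subgroup X :=
  (stabilizer X a ⊓ stabilizer X b) ⊓
    Subgroup.centralizer (involutionsIn (stabilizer X a : Set X))

omit [Finite G] in
theorem mem_wGrp {X Ψ : Type*} [Group X] [MulAction X Ψ] {a b : Ψ} {w : X} :
    w ∈ wGrp a b ↔ (w • a = a ∧ w • b = b) ∧
      ∀ s ∈ involutionsIn (stabilizer X a : Set X), w * s = s * w := by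
  rw [wGrp, Subgroup.mem_inf, Subgroup.mem_inf, mem_stabilizer_iff, mem_stabilizer_iff,
    Subgroup.mem_centralizer_iff]
  exact ⟨fun h => ⟨h.1, fun s hs => (h.2 s hs).symm⟩, fun h => ⟨h.1, fun s hs => (h.2 s hs).symm⟩⟩

set_option maxHeartbeats 1000000 in
theorem locY (h : Setup G Ω z) (hV : ∀ x : G, x ∈ V ↔ x = 1 ∨ x ∈ At z a) (hVH : V ≤ H)
    {Vb : Subgroup G} (hVb : ∀ x : G, x ∈ Vb ↔ x = 1 ∨ x ∈ At z b) (hVbH : Vb ≤ H)
    (ha : a ∈ pts Ω z H) (hb : b ∈ pts Ω z H) (hab : a ≠ b) {p r : Ω}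
    (hpr : p ≠ r) {d₀ e₀ : G} (hd₀ : d₀ ∈ At z p) (he₀ : e₀ ∈ At z r) (hd₀H : d₀ ∈ H)
    (he₀H : e₀ ∈ H)
    (hinv : Nat.card (involutionsIn (stabilizer (L (pr H (pts Ω z H) ⟨d₀, hd₀H⟩))
      (⟨a, ha⟩ : pts Ω z H) : Set (L (pr H (pts Ω z H) ⟨d₀, hd₀H⟩)))) + 1 = Nat.card V)
    {k : ℕ} (h2k : 2 ≤ k) (hVc : Nat.card V = 2 ^ k)
    {t : L (pr H (pts Ω z H) ⟨d₀, hd₀H⟩)} {Q : Subgroup (L (pr H (pts Ω z H) ⟨d₀, hd₀H⟩))}
    (htb : t • (⟨a, ha⟩ : pts Ω z H) = ⟨b, hb⟩)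
    (hS : IsRankOneSetup (L (pr H (pts Ω z H) ⟨d₀, hd₀H⟩)) (pts Ω z H) ⟨a, ha⟩ t Q)
    (hT : Three (⟨a, ha⟩ : pts Ω z H) t Q k) :
    ∃ (y : H) (W : Subgroup (Equiv.Perm (pts Ω z H))), LocY Ω z H a b V Vb k (big Q) y W := by
  classical
  have hfin : Finite (Im H (pts Ω z H)) :=
    Finite.of_surjective _ (toPermHom H (pts Ω z H)).rangeRestrict_surjective
  have hfixQ : ∀ x ∈ Q, x • (⟨a, ha⟩ : pts Ω z H) = ⟨a, ha⟩ := fun x hx => hS.le hx
  have hWD : ∀ w ∈ wGrp (X := L (pr H (pts Ω z H) ⟨d₀, hd₀H⟩)) (⟨a, ha⟩ : pts Ω z H) ⟨b, hb⟩,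
      w ∈ stabilizer (L (pr H (pts Ω z H) ⟨d₀, hd₀H⟩)) (⟨a, ha⟩ : pts Ω z H) ⊓
        stabilizer (L (pr H (pts Ω z H) ⟨d₀, hd₀H⟩)) (t • (⟨a, ha⟩ : pts Ω z H)) := by
    intro w hw
    obtain ⟨⟨h1, h2⟩, -⟩ := mem_wGrp.mp hw
    rw [htb]
    exact Subgroup.mem_inf.mpr ⟨h1, h2⟩
  have hWc : ∀ w ∈ wGrp (X := L (pr H (pts Ω z H) ⟨d₀, hd₀H⟩)) (⟨a, ha⟩ : pts Ω z H) ⟨b, hb⟩,
      ∀ s ∈ involutionsIn (stabilizer (L (pr H (pts Ω z H) ⟨d₀, hd₀H⟩))
        (⟨a, ha⟩ : pts Ω z H) : Set (L (pr H (pts Ω z H) ⟨d₀, hd₀H⟩))), w * s = s * w :=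
    fun w hw => (mem_wGrp.mp hw).2
  -- there is an involution in the stabiliser
  obtain ⟨s₀, hs₀⟩ : (involutionsIn (stabilizer (L (pr H (pts Ω z H) ⟨d₀, hd₀H⟩))
        (⟨a, ha⟩ : pts Ω z H) : Set (L (pr H (pts Ω z H) ⟨d₀, hd₀H⟩)))).Nonempty := by
    rw [Set.nonempty_iff_ne_empty]
    intro h1
    rw [h1] at hinv
    have h3 : 2 ^ 2 ≤ 2 ^ k := Nat.pow_le_pow_right (by norm_num) h2k
    rw [hVc, Nat.card_of_isEmpty] at hinv
    omega
  obtain ⟨r, y₀, hr, hrd, hy₀D, hy₀o, hty₀, hy₀s⟩ := hT.exists_prime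
  rw [htb] at hy₀D
  obtain ⟨hy₀a, hy₀b⟩ := Subgroup.mem_inf.mp hy₀D
  have hy₀W : y₀ ∈ wGrp (X := L (pr H (pts Ω z H) ⟨d₀, hd₀H⟩)) (⟨a, ha⟩ : pts Ω z H) ⟨b, hb⟩ :=
    mem_wGrp.mpr ⟨⟨hy₀a, hy₀b⟩, hy₀s⟩
  -- the lift
  obtain ⟨g, hg, hgy⟩ := exists_lift hd₀.1 hd₀H y₀.2
  have hgo : orderOf g ≠ 0 := (orderOf_pos g).ne'
  obtain ⟨j, m, hm, hjm⟩ := Nat.exists_eq_pow_mul_and_not_dvd hgo r hr.ne_one
  have hpos : 0 < m := by
    rcases Nat.eq_zero_or_pos m with h1 | h1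
    · rw [h1] at hm; exact absurd (dvd_zero r) hm
    · exact h1
  have hym : ((y₀ ^ m : L (pr H (pts Ω z H) ⟨d₀, hd₀H⟩)) : Im H (pts Ω z H)) =
      pr H (pts Ω z H) (g ^ m) := by
    rw [map_pow, hgy]; rfl
  have hya : ((g ^ m : H) : G) • a = a := by
    rw [← fix_iff (z := z) (g ^ m) ha, ← hym]
    exact (pow_mem hy₀a m : y₀ ^ m ∈ _)
  have hyb : ((g ^ m : H) : G) • b = b := by
    rw [← fix_iff (z := z) (g ^ m) hb, ← hym]
    exact (pow_mem hy₀b m : y₀ ^ m ∈ _)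
  have hLn : (L (pr H (pts Ω z H) ⟨d₀, hd₀H⟩)).Normal := Subgroup.normalClosure_normal
  have hyW : y₀ ^ m ∈ wGrp (X := L (pr H (pts Ω z H) ⟨d₀, hd₀H⟩)) (⟨a, ha⟩ : pts Ω z H) ⟨b, hb⟩ :=
    pow_mem hy₀W m
  refine ⟨g ^ m, big (wGrp (X := L (pr H (pts Ω z H) ⟨d₀, hd₀H⟩))
    (⟨a, ha⟩ : pts Ω z H) ⟨b, hb⟩), ?_⟩
  refine
    { mem := ?_
      fix_a := hya
      fix_b := hyb
      comm_a := ?_
      comm_b := ?_
      order := ⟨r, j, hr, hrd, ?_⟩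
      ne := ?_
      mem_W := mem_big.mpr ⟨_, hyW, by rw [hym]; rfl⟩
      conj_W := ?_
      odd_W := ?_
      norm_W := ?_
      comm_W := ?_
      cent_W := ?_ }
  · rw [Subgroup.coe_pow]
    exact pow_mem hg m
  · intro x hx
    refine comm_of_pr h hV hab hb (v := ⟨x, hVH hx⟩) hya hx ?_
    by_cases hx1 : (⟨x, hVH hx⟩ : H) = 1
    · rw [hx1, map_one]; exact Commute.one_right _
    · have h1 := (inv_iff h hV hVH ha hb hab hpr hd₀ he₀ hd₀H he₀H hinv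
        ⟨_, pr_mem_L h hV hpr hd₀ he₀ hd₀H he₀H (v := ⟨x, hVH hx⟩) hx⟩).mpr ⟨_, hx, hx1, rfl⟩
      have h2 := congrArg Subtype.val (hWc _ hyW _ h1)
      rw [← hym]
      exact h2
  · intro x hx
    refine comm_of_pr h hVb hab.symm ha (v := ⟨x, hVbH hx⟩) hyb hx ?_
    have hxL := pr_mem_L h hVb hpr hd₀ he₀ hd₀H he₀H (v := ⟨x, hVbH hx⟩) hx
    set v' : L (pr H (pts Ω z H) ⟨d₀, hd₀H⟩) := ⟨_, hxL⟩ with hv'
    have hv2 : v' * v' = 1 := by
      apply Subtype.ext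
      show pr H (pts Ω z H) _ * pr H (pts Ω z H) _ = 1
      rw [← map_mul]
      have h1 : (⟨x, hVbH hx⟩ * ⟨x, hVbH hx⟩ : H) = 1 := by
        apply Subtype.ext
        show x * x = 1
        rcases (hVb _).mp hx with h1 | h1
        · rw [h1, one_mul]
        · exact h.mul_self h1.1
      rw [h1, map_one]
    have hvb : v' • (⟨b, hb⟩ : pts Ω z H) = ⟨b, hb⟩ := by
      have h1 : x • b = b := by
        rcases (hVb _).mp hx with h1 | h1
        · rw [h1, one_smul]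
        · exact h1.2
      exact (fix_iff (z := z) (⟨x, hVbH hx⟩ : H) hb).mpr h1
    have htt := hS.mul_self
    have hst : t * v' * t = 1 ∨ t * v' * t ∈ involutionsIn (stabilizer
        (L (pr H (pts Ω z H) ⟨d₀, hd₀H⟩))
        (⟨a, ha⟩ : pts Ω z H) : Set (L (pr H (pts Ω z H) ⟨d₀, hd₀H⟩))) := by
      by_cases h1 : t * v' * t = 1
      · exact Or.inl h1
      · refine Or.inr ⟨?_, h1, ?_⟩
        · show (t * v' * t) • (⟨a, ha⟩ : pts Ω z H) = ⟨a, ha⟩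
          rw [mul_smul, mul_smul, htb, hvb, ← htb, ← mul_smul, htt, one_smul]
        · calc t * v' * t * (t * v' * t) = t * v' * (t * t) * v' * t := by group
            _ = t * (v' * v') * t := by rw [htt]; group
            _ = 1 := by rw [hv2, mul_one, htt]
    have hc1 : Commute y₀ (t * v' * t) := by
      rcases hst with h1 | h1
      · rw [h1]; exact Commute.one_right _
      · exact hy₀s _ h1
    have hc2 : Commute y₀ t := hty₀.symm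
    have hc3 : Commute y₀ v' := by
      have h1 := (hc2.mul_right hc1).mul_right hc2
      have e : t * (t * v' * t) * t = v' := by
        calc t * (t * v' * t) * t = (t * t) * v' * (t * t) := by group
          _ = v' := by rw [htt, one_mul, mul_one]
      rwa [e] at h1
    have h2 := congrArg Subtype.val (hc3.pow_left m).eq
    rw [← hym]
    exact h2
  · rw [Subgroup.orderOf_coe, orderOf_pow, hjm, Nat.gcd_eq_right (Dvd.intro_left _ rfl),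
      Nat.mul_div_cancel _ hpos]
  · intro h1
    have h2 : pr H (pts Ω z H) (g ^ m) = 1 := Subtype.ext h1
    rw [← hym] at h2
    have h3 : y₀ ^ m = 1 := Subtype.ext h2
    have h4 := orderOf_dvd_of_pow_eq_one h3
    rw [hy₀o] at h4
    exact hm h4
  · intro x hxa hxb w hw
    obtain ⟨w, hw', rfl⟩ := mem_big.mp hw
    obtain ⟨⟨hwa, hwb⟩, hws⟩ := mem_wGrp.mp hw'
    have h5 := hLn.conj_mem (w : Im H (pts Ω z H)) w.2 (pr H (pts Ω z H) x)
    have hfix : ∀ {c : Ω} (hc : c ∈ pts Ω z H), (x : G) • c = c →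
        w • (⟨c, hc⟩ : pts Ω z H) = ⟨c, hc⟩ →
        (pr H (pts Ω z H) x * (w : Im H (pts Ω z H)) * (pr H (pts Ω z H) x)⁻¹) •
          (⟨c, hc⟩ : pts Ω z H) = ⟨c, hc⟩ := by
      intro c hc hxc hwc
      have h6 : pr H (pts Ω z H) x • (⟨c, hc⟩ : pts Ω z H) = ⟨c, hc⟩ := (fix_iff x hc).mpr hxc
      have h7 : (pr H (pts Ω z H) x)⁻¹ • (⟨c, hc⟩ : pts Ω z H) = ⟨c, hc⟩ := by
        rw [inv_smul_eq_iff, h6]
      have h8 : (w : Im H (pts Ω z H)) • (⟨c, hc⟩ : pts Ω z H) = ⟨c, hc⟩ := hwc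
      rw [mul_smul, mul_smul, h7, h8, h6]
    refine mem_big.mpr ⟨⟨_, h5⟩, mem_wGrp.mpr ⟨⟨hfix ha hxa hwa, hfix hb hxb hwb⟩, ?_⟩, rfl⟩
    intro s hs
    have h6 : pr H (pts Ω z H) x • (⟨a, ha⟩ : pts Ω z H) = ⟨a, ha⟩ := (fix_iff x ha).mpr hxa
    have h7 : (pr H (pts Ω z H) x)⁻¹ • (⟨a, ha⟩ : pts Ω z H) = ⟨a, ha⟩ := by
      rw [inv_smul_eq_iff, h6]
    have h9 := hLn.conj_mem (s : Im H (pts Ω z H)) s.2 (pr H (pts Ω z H) x)⁻¹
    rw [inv_inv] at h9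
    have h10 : (⟨_, h9⟩ : L (pr H (pts Ω z H) ⟨d₀, hd₀H⟩)) ∈ involutionsIn (stabilizer
        (L (pr H (pts Ω z H) ⟨d₀, hd₀H⟩))
        (⟨a, ha⟩ : pts Ω z H) : Set (L (pr H (pts Ω z H) ⟨d₀, hd₀H⟩))) := by
      refine ⟨?_, ?_, ?_⟩
      · show ((pr H (pts Ω z H) x)⁻¹ * (s : Im H (pts Ω z H)) * pr H (pts Ω z H) x) •
          (⟨a, ha⟩ : pts Ω z H) = ⟨a, ha⟩
        have h8 : (s : Im H (pts Ω z H)) • (⟨a, ha⟩ : pts Ω z H) = ⟨a, ha⟩ := hs.1
        rw [mul_smul, mul_smul, h6, h8, h7]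
      · intro h11
        have h12 : (pr H (pts Ω z H) x)⁻¹ * (s : Im H (pts Ω z H)) * pr H (pts Ω z H) x = 1 :=
          congrArg Subtype.val h11
        apply hs.2.1
        apply Subtype.ext
        calc (s : Im H (pts Ω z H)) = pr H (pts Ω z H) x * ((pr H (pts Ω z H) x)⁻¹ *
              (s : Im H (pts Ω z H)) * pr H (pts Ω z H) x) * (pr H (pts Ω z H) x)⁻¹ := by group
          _ = 1 := by rw [h12]; group
      · apply Subtype.ext
        show (pr H (pts Ω z H) x)⁻¹ * (s : Im H (pts Ω z H)) * pr H (pts Ω z H) x *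
          ((pr H (pts Ω z H) x)⁻¹ * (s : Im H (pts Ω z H)) * pr H (pts Ω z H) x) = 1
        have h11 : (s : Im H (pts Ω z H)) * s = 1 := congrArg Subtype.val hs.2.2
        calc (pr H (pts Ω z H) x)⁻¹ * (s : Im H (pts Ω z H)) * pr H (pts Ω z H) x *
          ((pr H (pts Ω z H) x)⁻¹ * (s : Im H (pts Ω z H)) * pr H (pts Ω z H) x)
            = (pr H (pts Ω z H) x)⁻¹ * ((s : Im H (pts Ω z H)) * s) * pr H (pts Ω z H) x := by
              group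
          _ = 1 := by rw [h11]; group
    have h11 : (w : Im H (pts Ω z H)) * ((pr H (pts Ω z H) x)⁻¹ * (s : Im H (pts Ω z H)) *
        pr H (pts Ω z H) x) = ((pr H (pts Ω z H) x)⁻¹ * (s : Im H (pts Ω z H)) *
        pr H (pts Ω z H) x) * (w : Im H (pts Ω z H)) := congrArg Subtype.val (hws _ h10)
    apply Subtype.ext
    show pr H (pts Ω z H) x * (w : Im H (pts Ω z H)) * (pr H (pts Ω z H) x)⁻¹ *
      (s : Im H (pts Ω z H)) = (s : Im H (pts Ω z H)) *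
        (pr H (pts Ω z H) x * (w : Im H (pts Ω z H)) * (pr H (pts Ω z H) x)⁻¹)
    calc pr H (pts Ω z H) x * (w : Im H (pts Ω z H)) * (pr H (pts Ω z H) x)⁻¹ *
      (s : Im H (pts Ω z H)) = pr H (pts Ω z H) x * ((w : Im H (pts Ω z H)) *
        ((pr H (pts Ω z H) x)⁻¹ * (s : Im H (pts Ω z H)) * pr H (pts Ω z H) x)) *
          (pr H (pts Ω z H) x)⁻¹ := by group
      _ = _ := by rw [h11]; group
  · intro w hw
    obtain ⟨w, hw', rfl⟩ := mem_big.mp hw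
    rw [Subgroup.orderOf_coe, Subgroup.orderOf_coe]
    have h1 : orderOf w ∣ Nat.card ↥(stabilizer (L (pr H (pts Ω z H) ⟨d₀, hd₀H⟩))
      (⟨a, ha⟩ : pts Ω z H) ⊓ stabilizer (L (pr H (pts Ω z H) ⟨d₀, hd₀H⟩))
        (t • (⟨a, ha⟩ : pts Ω z H))) := by
      rw [← Subgroup.orderOf_mk w (hWD w hw')]
      exact orderOf_dvd_natCard _
    exact Odd.of_dvd_nat hS.odd_card h1
  · intro w hw x hx
    obtain ⟨w, hw', rfl⟩ := mem_big.mp hw
    obtain ⟨q, hq, rfl⟩ := mem_big.mp hx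
    exact mem_big.mpr ⟨_, hS.conj_mem w (Subgroup.mem_inf.mp (hWD w hw')).1 q hq, rfl⟩
  · intro w hw x hx
    obtain ⟨w, hw', rfl⟩ := mem_big.mp hw
    obtain ⟨s, rfl, hs⟩ := of_mem_E h hV hVH ha hb hab hpr hd₀ he₀ hd₀H he₀H hinv hx
    rcases hs with hs | hs
    · rw [hs]; exact Commute.one_right _
    · exact congrArg (fun x : L (pr H (pts Ω z H) ⟨d₀, hd₀H⟩) =>
        ((x : Im H (pts Ω z H)) : Equiv.Perm (pts Ω z H))) (hWc w hw' s hs)
  · intro w hw hw1 x hx hwx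
    obtain ⟨w, hw', rfl⟩ := mem_big.mp hw
    obtain ⟨q, hq, rfl⟩ := mem_big.mp hx
    refine mem_E h hV hVH ha hb hab hpr hd₀ he₀ hd₀H he₀H hinv (s := q) (hfixQ q hq) ?_
    refine hT.sq_of_commute w (hWD w hw') (fun h1 => hw1 (by rw [h1]; rfl)) s₀ hs₀
      (hWc w hw' s₀ hs₀) q hq ?_
    exact Subtype.ext (Subtype.ext hwx.eq)

/-! ### The main theorem -/

/-- the image of `V` contains a four-group -/
theorem exists_four (h : Setup G Ω z) (hV : ∀ x : G, x ∈ V ↔ x = 1 ∨ x ∈ At z a) (hVH : V ≤ H)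
    (hb : b ∈ pts Ω z H) (hab : a ≠ b) {p r : Ω}
    (hpr : p ≠ r) {d₀ e₀ : G} (hd₀ : d₀ ∈ At z p) (he₀ : e₀ ∈ At z r) (hd₀H : d₀ ∈ H)
    (he₀H : e₀ ∈ H) {k : ℕ} (h2k : 2 ≤ k) (hVc : Nat.card V = 2 ^ k) :
    ∃ x y : L (pr H (pts Ω z H) ⟨d₀, hd₀H⟩), x ≠ 1 ∧ y ≠ 1 ∧ x ≠ y ∧ x * x = 1 ∧ y * y = 1 ∧
      x * y = y * x := by
  classical
  have hsq : ∀ v : G, v ∈ V → v * v = 1 := by
    intro v hv
    rcases (hV _).mp hv with h1 | h1
    · rw [h1, one_mul]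
    · exact h.mul_self h1.1
  have hcard1 : Nat.card {v : V // v ≠ 1} + 1 = Nat.card V := by
    rw [← Nat.card_congr (Equiv.optionSubtypeNe (1 : V)), Finite.card_option]
  have h3 : 2 ^ 2 ≤ 2 ^ k := Nat.pow_le_pow_right (by norm_num) h2k
  have h4 : 1 < Nat.card {v : V // v ≠ 1} := by omega
  obtain ⟨v, v', hvv⟩ := Finite.one_lt_card_iff_nontrivial.mp h4
  have hinj : ∀ {v w : H}, (v : G) ∈ V → (w : G) ∈ V →
      pr H (pts Ω z H) v = pr H (pts Ω z H) w → v = w := fun hv hw => pr_injOn h hV hab hb hv hw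
  have hmem : ∀ v : H, (v : G) ∈ V → pr H (pts Ω z H) v ∈ L (pr H (pts Ω z H) ⟨d₀, hd₀H⟩) :=
    fun v hv => pr_mem_L h hV hpr hd₀ he₀ hd₀H he₀H hv
  have hne : ∀ v : {v : V // v ≠ 1}, (⟨_, hmem ⟨v.1.1, hVH v.1.2⟩ v.1.2⟩ :
      L (pr H (pts Ω z H) ⟨d₀, hd₀H⟩)) ≠ 1 := by
    intro v h1
    have h2 := hinj (v := ⟨v.1.1, hVH v.1.2⟩) (w := 1) v.1.2 (one_mem V)
      (by rw [map_one]; exact congrArg Subtype.val h1)
    exact v.2 (Subtype.ext (congrArg (fun x : H => (x : G)) h2))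
  have hss : ∀ v : {v : V // v ≠ 1}, (⟨_, hmem ⟨v.1.1, hVH v.1.2⟩ v.1.2⟩ :
      L (pr H (pts Ω z H) ⟨d₀, hd₀H⟩)) * ⟨_, hmem ⟨v.1.1, hVH v.1.2⟩ v.1.2⟩ = 1 := by
    intro v
    apply Subtype.ext
    show pr H (pts Ω z H) _ * pr H (pts Ω z H) _ = 1
    rw [← map_mul]
    have h1 : (⟨v.1.1, hVH v.1.2⟩ * ⟨v.1.1, hVH v.1.2⟩ : H) = 1 := Subtype.ext (hsq _ v.1.2)
    rw [h1, map_one]
  refine ⟨⟨_, hmem ⟨v.1.1, hVH v.1.2⟩ v.1.2⟩, ⟨_, hmem ⟨v'.1.1, hVH v'.1.2⟩ v'.1.2⟩, hne v, hne v',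
    ?_, hss v, hss v', ?_⟩
  · intro h1
    have h2 := hinj (v := ⟨v.1.1, hVH v.1.2⟩) (w := ⟨v'.1.1, hVH v'.1.2⟩) v.1.2 v'.1.2
      (congrArg Subtype.val h1)
    exact hvv (Subtype.ext (Subtype.ext (congrArg (fun x : H => (x : G)) h2)))
  · apply Subtype.ext
    show pr H (pts Ω z H) _ * pr H (pts Ω z H) _ = pr H (pts Ω z H) _ * pr H (pts Ω z H) _
    rw [← map_mul, ← map_mul]
    congr 1
    apply Subtype.ext
    show v.1.1 * v'.1.1 = v'.1.1 * v.1.1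
    have h1 := hsq _ (mul_mem v.1.2 v'.1.2)
    have h2 := hsq _ v.1.2
    have h5 := hsq _ v'.1.2
    calc v.1.1 * v'.1.1 = (v'.1.1 * v'.1.1) * (v.1.1 * v'.1.1) * (v.1.1 * v.1.1) := by
          rw [h2, h5, one_mul, mul_one]
      _ = v'.1.1 * ((v'.1.1 * v.1.1) * (v'.1.1 * v.1.1)) * v.1.1 := by group
      _ = v'.1.1 * v.1.1 := by rw [hsq _ (mul_mem v'.1.2 v.1.2), mul_one]

end

end Bridge

open Cfsg.Agent.AschCrit.NonIso Cfsg.Agent.AschCrit.InductFaithful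
open Cfsg.Agent.AschCrit.InductAct Cfsg.Agent.AschCrit.BGroup Cfsg.Agent.AschCrit.Induct
open Cfsg.Agent.AschCrit.RankOneThree Cfsg.Agent.StrongEmb.Split

variable {G Ω : Type u} [Group G] [Finite G] [MulAction G Ω] {z : G}

/-- `|V_a| = 2 ^ k` in a `BGroup` containing `V_a` -/
theorem card_V_of_bgroup (h : Setup G Ω z) {H : Subgroup G} {k i : ℕ} (hB : BGroup Ω z H k i)
    {a : Ω} {V : Subgroup G} (hV : ∀ x : G, x ∈ V ↔ x = 1 ∨ x ∈ At z a) (hVH : V ≤ H) :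
    Nat.card V = 2 ^ k := by
  classical
  have hf2 : Fact (Nat.Prime 2) := ⟨Nat.prime_two⟩
  have hV2 : IsPGroup 2 V := by
    intro x
    refine ⟨1, ?_⟩
    rw [pow_one, pow_two]
    apply Subtype.ext
    rcases (hV _).mp x.2 with h1 | h1
    · show (x : G) * x = 1
      rw [h1, one_mul]
    · exact h.mul_self h1.1
  obtain ⟨P₀, hP₀⟩ := (hV2.of_equiv (Subgroup.subgroupOfEquivOfLe hVH).symm).exists_le_sylow
  set P : Subgroup G := (P₀ : Subgroup H).map H.subtype with hP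
  have hPH : P ≤ H := Subgroup.map_subtype_le _
  have hPs : SylTwo H P := by
    refine ⟨hPH, P₀.isPGroup'.map _, ?_⟩
    have h1 : P.relIndex H = (P₀ : Subgroup H).index := by
      have h2 : P.subgroupOf H = (P₀ : Subgroup H) :=
        Subgroup.comap_map_eq_self_of_injective H.subtype_injective _
      rw [Subgroup.relIndex, h2]
    rw [h1]
    exact P₀.not_dvd_index
  have hVP : V ≤ P := fun x hx => ⟨⟨x, hVH hx⟩, hP₀ hx, rfl⟩
  obtain ⟨d₀, hd₀⟩ := h.nonempty_At a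
  have hd₀P : d₀ ∈ P := hVP ((hV _).mpr (Or.inr hd₀))
  rw [← hB.card_sylow P hPs, ← Nat.card_congr (Equiv.optionSubtypeNe (1 : V)), Finite.card_option]
  congr 1
  refine Nat.card_congr
    { toFun := fun v => ⟨v.1.1, hVP v.1.2, ?_⟩
      invFun := fun d => ⟨⟨d.1, (hV _).mpr (Or.inr ⟨d.2.2, ?_⟩)⟩, ?_⟩
      left_inv := fun v => rfl
      right_inv := fun v => rfl }
  · rcases (hV _).mp v.1.2 with h1 | h1
    · exact absurd (Subtype.ext h1) v.2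
    · exact h1.1
  · exact h.fix_of_commute hd₀.1 (hB.comm P hPH hPs.2.1 _ d.2.1 _ hd₀P d.2.2 hd₀.1) hd₀.2
  · intro h1
    have h2 := h.orderOf_eq d.2.2
    have h3 : (d : G) = 1 := congrArg Subtype.val h1
    rw [h3, orderOf_one] at h2
    exact absurd h2 (by norm_num)

/-- **the local data of (C5)** -/
theorem exists_local (hN : NoBadBelow.{u} (Nat.card G))
    (hB : ∀ (X : Type u) [Group X] [Finite X], BenderHolds X) (h : Setup G Ω z)
    {V : Ω → Subgroup G} (hV : ∀ a x, x ∈ V a ↔ x = 1 ∨ x ∈ At z a) {H : Subgroup G} {a b : Ω}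
    (hab : a ≠ b) (hH : H ≠ ⊤) (hVa : V a ≤ H) (hVb : V b ≤ H) {k : ℕ} (hk : 2 ≤ k)
    (hVc : Nat.card (V a) = 2 ^ k) (hpts : Nat.card (pts Ω z H) = (2 ^ k) ^ 3 + 1) :
    ∃ Q : Subgroup (Equiv.Perm (pts Ω z H)), LocQ Ω z H a (V a) k Q ∧
      ∀ c : Ω, a ≠ c → V c ≤ H → ∃ (y : H) (W : Subgroup (Equiv.Perm (pts Ω z H))),
        LocY Ω z H a c (V a) (V c) k Q y W := by
  classical
  obtain ⟨d₀, hd₀⟩ := h.nonempty_At a
  obtain ⟨e₀, he₀⟩ := h.nonempty_At b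
  have hd₀H : d₀ ∈ H := hVa ((hV _ _).mpr (Or.inr hd₀))
  have he₀H : e₀ ∈ H := hVb ((hV _ _).mpr (Or.inr he₀))
  have ha : a ∈ pts Ω z H := ⟨d₀, hd₀H, hd₀⟩
  have hb : b ∈ pts Ω z H := ⟨e₀, he₀H, he₀⟩
  have hpt : ∀ c : Ω, V c ≤ H → c ∈ pts Ω z H := by
    intro c hc
    obtain ⟨f, hf⟩ := h.nonempty_At c
    exact ⟨f, hc ((hV _ _).mpr (Or.inr hf)), hf⟩
  have hlt : Nat.card H < Nat.card G := by
    refine lt_of_le_of_ne (Subgroup.card_le_card_group H) (fun hh => hH ?_)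
    exact Subgroup.eq_top_of_card_eq H hh
  -- two commuting elements of `D`
  have hp : ∃ d e : G, d ∈ H ∧ e ∈ H ∧ IsConj z d ∧ IsConj z e ∧ Commute d e ∧ d ≠ e := by
    obtain ⟨x, y, hx1, hy1, hxy, hx2, hy2, hc⟩ : ∃ x y : V a, x ≠ 1 ∧ y ≠ 1 ∧ x ≠ y ∧
        (x : G) * x = 1 ∧ (y : G) * y = 1 ∧ Commute (x : G) y := by
      have hsq : ∀ v : G, v ∈ V a → v * v = 1 := by
        intro v hv
        rcases (hV _ _).mp hv with h1 | h1
        · rw [h1, one_mul]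
        · exact h.mul_self h1.1
      have hcard1 : Nat.card {v : V a // v ≠ 1} + 1 = Nat.card (V a) := by
        rw [← Nat.card_congr (Equiv.optionSubtypeNe (1 : V a)), Finite.card_option]
      have h3 : 2 ^ 2 ≤ 2 ^ k := Nat.pow_le_pow_right (by norm_num) hk
      have h4 : 1 < Nat.card {v : V a // v ≠ 1} := by omega
      obtain ⟨v, v', hvv⟩ := Finite.one_lt_card_iff_nontrivial.mp h4
      refine ⟨v.1, v'.1, v.2, v'.2, fun hh => hvv (Subtype.ext hh), hsq _ v.1.2, hsq _ v'.1.2, ?_⟩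
      show v.1.1 * v'.1.1 = v'.1.1 * v.1.1
      have h2 := hsq _ v.1.2
      have h5 := hsq _ v'.1.2
      calc v.1.1 * v'.1.1 = (v'.1.1 * v'.1.1) * (v.1.1 * v'.1.1) * (v.1.1 * v.1.1) := by
            rw [h2, h5, one_mul, mul_one]
        _ = v'.1.1 * ((v'.1.1 * v.1.1) * (v'.1.1 * v.1.1)) * v.1.1 := by group
        _ = v'.1.1 * v.1.1 := by rw [hsq _ (mul_mem v'.1.2 v.1.2), mul_one]
    refine ⟨x, y, hVa x.2, hVa y.2, ?_, ?_, hc, fun hh => hxy (Subtype.ext hh)⟩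
    · rcases (hV _ _).mp x.2 with h1 | h1
      · exact absurd (Subtype.ext h1) hx1
      · exact h1.1
    · rcases (hV _ _).mp y.2 with h1 | h1
      · exact absurd (Subtype.ext h1) hy1
      · exact h1.1
  obtain ⟨k', i', hBG, -, hrank⟩ := Induct.main hN hB h hab hd₀ he₀ hd₀H he₀H hp hlt
  have hk' : 2 ^ k' = 2 ^ k := by rw [← card_V_of_bgroup h hBG (hV a) hVa, hVc]
  obtain rfl : k' = k := Nat.pow_right_injective le_rfl hk'
  have hi' : i' = 3 := by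
    have h1 := hBG.card_pts
    rw [hpts] at h1
    have h2 : 2 ≤ 2 ^ k' := by
      calc 2 = 2 ^ 1 := by norm_num
        _ ≤ 2 ^ k' := Nat.pow_le_pow_right (by norm_num) (by omega)
    exact (Nat.pow_right_injective h2 (by
      show (2 ^ k') ^ 3 = (2 ^ k') ^ i'
      omega)).symm
  obtain ⟨t, Q, hS, hQ2, hQc, hinv⟩ := hrank ⟨a, ha⟩
  obtain ⟨hsim, hfaith⟩ := Bridge.simple_L h hab hd₀ he₀ hd₀H he₀H hp
  have h2 := Bridge.exists_four h (hV a) hVa hb hab hab hd₀ he₀ hd₀H he₀H hk hVc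
  have hinv' := hinv
  rw [← hVc] at hinv'
  have hfin : Finite (Im H (pts Ω z H)) :=
    Finite.of_surjective _ (MulAction.toPermHom H (pts Ω z H)).rangeRestrict_surjective
  have hT := three hS h2 hk hinv hQc hi'
  rw [hi'] at hQc
  refine ⟨Bridge.big Q, Bridge.locQ h (hV a) hVa ha hb hab hab hd₀ he₀ hd₀H he₀H hinv' hk hVc hS
    hQ2 hQc hT, ?_⟩
  intro c hac hVcH
  have hc := hpt c hVcH
  -- change `t`
  have hta : t • (⟨a, ha⟩ : pts Ω z H) ≠ ⟨a, ha⟩ := hS.not_mem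
  obtain ⟨x, hx, -⟩ := (Cfsg.Agent.S1119.result hS).1 (t • (⟨a, ha⟩ : pts Ω z H)) ⟨c, hc⟩ hta
    (fun hh => hac (congrArg Subtype.val hh).symm)
  have hS' := Bridge.rankOne_conj hS x.2
  have htc : ((x : L (pr H (pts Ω z H) ⟨d₀, hd₀H⟩)) * t *
      (x : L (pr H (pts Ω z H) ⟨d₀, hd₀H⟩))⁻¹) • (⟨a, ha⟩ : pts Ω z H) = ⟨c, hc⟩ := by
    have hxa : (x : L (pr H (pts Ω z H) ⟨d₀, hd₀H⟩))⁻¹ • (⟨a, ha⟩ : pts Ω z H) = ⟨a, ha⟩ := by
      rw [inv_smul_eq_iff]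
      exact (hS.le x.2).symm
    rw [mul_smul, mul_smul, hxa, hx]
  have hT' := three hS' h2 hk hinv (i := 3) hQc rfl
  exact Bridge.locY h (hV a) hVa (hV c) hVcH ha hc hac hab hd₀ he₀ hd₀H he₀H hinv' hk hVc htc
    hS' hT'

end Cfsg.Agent.AschCrit.CommFive
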