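import Cfsg.Agent.AschCrit.CommFive.Local

/-!
# Aschbacher's criterion, commutative case (C5): the context

`Ctx Ω z V k` : the set-up of the sub-case `|V_a| = q`, `|Fix u| = q³ + 1`, `q = 2 ^ k`, with the local
data of all proper subgroups.

* `Ctx.trans_V` (F3) : a subgroup containing `V_a` and an element `≠ 1` of `V_b` contains elements
  fixing `a` and permuting `V_a#` transitively
* `Ctx.T0`, `Ctx.T3`, `Ctx.T2` : 2-elements of `H_ab`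
-/

set_option autoImplicit false

namespace Cfsg.Agent.AschCrit.CommFive

open Cfsg.Agent.TwoFusion.StronglyEmbeddedBasic Cfsg.Agent.AschCrit.Basic
open Cfsg.Agent.AschCrit.Basic.Setup Cfsg.Agent.AschCrit.Closed Cfsg.Agent.AschCrit.Descent
open Cfsg.Agent.AschCrit.NonIso

/-! ### Elements of `Q` trivial modulo `E` -/

section mod

variable {Γ : Type*} [Group Γ] {Q E : Subgroup Γ} {k : ℕ}

/-- `{x ∈ Q | x⁻¹ (τ x τ⁻¹) ∈ E}` -/
theorem QE.exists_fixMod (h : QE Q E k) (τ : Γ) :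
    ∃ A : Subgroup Γ, ∀ x, x ∈ A ↔ x ∈ Q ∧ x⁻¹ * (τ * x * τ⁻¹) ∈ E := by
  refine ⟨{ carrier := {x | x ∈ Q ∧ x⁻¹ * (τ * x * τ⁻¹) ∈ E}
            mul_mem' := ?_
            one_mem' := ?_
            inv_mem' := ?_ }, fun x => Iff.rfl⟩
  · rintro x y ⟨hx, hx'⟩ ⟨hy, hy'⟩
    refine ⟨mul_mem hx hy, ?_⟩
    have h1 := (h.central _ hx' y hy).eq
    have h2 : (x * y)⁻¹ * (τ * (x * y) * τ⁻¹) =
        (x⁻¹ * (τ * x * τ⁻¹)) * (y⁻¹ * (τ * y * τ⁻¹)) := by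
      calc (x * y)⁻¹ * (τ * (x * y) * τ⁻¹)
          = y⁻¹ * ((x⁻¹ * (τ * x * τ⁻¹)) * y) * y⁻¹ * (τ * y * τ⁻¹) := by group
        _ = y⁻¹ * (y * (x⁻¹ * (τ * x * τ⁻¹))) * y⁻¹ * (τ * y * τ⁻¹) := by rw [h1]
        _ = (x⁻¹ * (τ * x * τ⁻¹)) * (y⁻¹ * (τ * y * τ⁻¹)) := by group
    rw [h2]
    exact mul_mem hx' hy'
  · exact ⟨one_mem _, by simp⟩
  · rintro x ⟨hx, hx'⟩
    refine ⟨inv_mem hx, ?_⟩
    have h1 := (h.central _ hx' _ (inv_mem hx)).eq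
    have h2 : (x⁻¹)⁻¹ * (τ * x⁻¹ * τ⁻¹) = (x⁻¹ * (τ * x * τ⁻¹))⁻¹ := by
      calc (x⁻¹)⁻¹ * (τ * x⁻¹ * τ⁻¹)
          = x * (x⁻¹ * (τ * x * τ⁻¹))⁻¹ * x⁻¹ := by group
        _ = (x⁻¹ * (τ * x * τ⁻¹))⁻¹ := by
            have h3 : Commute (x⁻¹ * (τ * x * τ⁻¹)) x := h.central _ hx' x hx
            rw [(h3.inv_left.symm).eq]; group
    rw [h2]
    exact inv_mem hx'

end mod

variable {G Ω : Type*} [Group G] [MulAction G Ω] {z : G}

theorem mem_cen {x t : G} : x ∈ Subgroup.centralizer ({t} : Set G) ↔ Commute x t := by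
  rw [Subgroup.mem_centralizer_singleton_iff]
  exact Iff.rfl

/-- the context of (C5) -/
structure Ctx (Ω : Type*) [MulAction G Ω] (z : G) (V : Ω → Subgroup G) (k : ℕ) : Prop where
  setup : Setup G Ω z
  faithful : ∀ g : G, (∀ a : Ω, g • a = a) → g = 1
  nonIso : NonIso z
  mem_V : ∀ a x, x ∈ V a ↔ x = 1 ∨ x ∈ At z a
  two_le : 2 ≤ k
  card_V : ∀ a, Nat.card (V a) = 2 ^ k
  bad : ∀ (u : G) (a : Ω), Bad Ω u → u • a = a → ∀ x ∈ V a, Commute u x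
  fix : ∀ u : G, Bad Ω u → Nat.card {c : Ω // u • c = c} = (2 ^ k) ^ 3 + 1
  loc : ∀ (H : Subgroup G) (a : Ω), H ≠ ⊤ → V a ≤ H → (∃ b, b ≠ a ∧ V b ≤ H) →
    Nat.card (pts Ω z H) = (2 ^ k) ^ 3 + 1 → ∃ Q : Subgroup (Equiv.Perm (pts Ω z H)),
      LocQ Ω z H a (V a) k Q ∧ ∀ b, b ≠ a → V b ≤ H →
        ∃ (y : H) (W : Subgroup (Equiv.Perm (pts Ω z H))), LocY Ω z H a b (V a) (V b) k Q y W

variable {V : Ω → Subgroup G} {k : ℕ}

namespace Ctx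

theorem two_le_q (c : Ctx Ω z V k) : 4 ≤ 2 ^ k := by
  calc 4 = 2 ^ 2 := by norm_num
    _ ≤ 2 ^ k := Nat.pow_le_pow_right (by norm_num) c.two_le

theorem fix_V (c : Ctx Ω z V k) {a : Ω} {x : G} (hx : x ∈ V a) : x • a = a := by
  rcases (c.mem_V a x).mp hx with rfl | hx
  · exact one_smul _ _
  · exact hx.2

theorem mem_At (c : Ctx Ω z V k) {a : Ω} {x : G} (hx : x ∈ V a) (h1 : x ≠ 1) : x ∈ At z a :=
  ((c.mem_V a x).mp hx).resolve_left h1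

theorem mem_V_of (c : Ctx Ω z V k) {a : Ω} {x : G} (hx : x ∈ At z a) : x ∈ V a :=
  (c.mem_V a x).mpr (Or.inr hx)

theorem sq_V (c : Ctx Ω z V k) {a : Ω} {x : G} (hx : x ∈ V a) : x * x = 1 := by
  rcases (c.mem_V a x).mp hx with rfl | hx
  · simp
  · exact c.setup.mul_self hx.1

theorem comm_V (c : Ctx Ω z V k) {a : Ω} {x y : G} (hx : x ∈ V a) (hy : y ∈ V a) :
    Commute x y := by
  have h1 := c.sq_V (mul_mem hx hy)
  have h2 := c.sq_V hx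
  have h3 := c.sq_V hy
  have hx' : x⁻¹ = x := inv_eq_of_mul_eq_one_left h2
  have hy' : y⁻¹ = y := inv_eq_of_mul_eq_one_left h3
  have h4 : (x * y)⁻¹ = x * y := inv_eq_of_mul_eq_one_left h1
  rw [mul_inv_rev, hx', hy'] at h4
  exact h4.symm

theorem eq_of_fix (c : Ctx Ω z V k) {a b : Ω} {x : G} (hx : x ∈ V a) (h1 : x ≠ 1)
    (hb : x • b = b) : b = a :=
  (c.setup.uniq (c.mem_At hx h1).1 (c.mem_At hx h1).2 hb).symm

theorem eq_one_of_fix (c : Ctx Ω z V k) {a b : Ω} (hab : a ≠ b) {x : G} (hx : x ∈ V a)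
    (hb : x • b = b) : x = 1 := by
  by_contra h1
  exact hab (c.eq_of_fix hx h1 hb).symm

theorem conj_V (c : Ctx Ω z V k) {a : Ω} (g : G) {x : G} (hx : x ∈ V a) :
    g * x * g⁻¹ ∈ V (g • a) := by
  rcases (c.mem_V a x).mp hx with rfl | hx
  · simp [one_mem]
  · exact c.mem_V_of (conj_mem_At g hx)

theorem conj_V' (c : Ctx Ω z V k) {a b : Ω} {g : G} (hg : g • a = b) {x : G} (hx : x ∈ V a) :
    g * x * g⁻¹ ∈ V b := hg ▸ c.conj_V g hx

theorem exists_ne_one (c : Ctx Ω z V k) (a : Ω) : ∃ x ∈ V a, x ≠ 1 := by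
  obtain ⟨x, hx⟩ := c.setup.nonempty_At a
  refine ⟨x, c.mem_V_of hx, ?_⟩
  rintro rfl
  have := c.setup.orderOf_eq hx.1
  simp at this

/-- (F3) -/
theorem trans_V [Finite G] (c : Ctx Ω z V k) {a b : Ω} (hab : a ≠ b) {H : Subgroup G}
    (haH : V a ≤ H) {v : G} (hvb : v ∈ V b) (hv1 : v ≠ 1) (hvH : v ∈ H) {d e : G} (hd : d ∈ V a)
    (he : e ∈ V a) (hd1 : d ≠ 1) (he1 : e ≠ 1) : ∃ g ∈ H, g • a = a ∧ g * d * g⁻¹ = e := by
  obtain ⟨x, hxH, hx, hxd, -⟩ := c.setup.exists_swap_mem H hab (c.mem_At hd hd1)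
    (c.mem_At hvb hv1) (haH hd) hvH
  obtain ⟨x', hxH', hx', hxe, -⟩ := c.setup.exists_swap_mem H hab (c.mem_At he he1)
    (c.mem_At hvb hv1) (haH he) hvH
  refine ⟨x'⁻¹ * x, mul_mem (inv_mem hxH') hxH, ?_, ?_⟩
  · rw [mul_smul, hx.2, ← hx'.2, inv_smul_smul]
  · calc x'⁻¹ * x * d * (x'⁻¹ * x)⁻¹ = x'⁻¹ * (x * d * x⁻¹) * x' := by group
      _ = x'⁻¹ * (x' * e * x'⁻¹) * x' := by rw [hxd, hxe]
      _ = e := by group

/-- a 2-element fixing `b` commutes with an element `≠ 1` of `V_b` -/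
theorem exists_comm_V [Finite G] (c : Ctx Ω z V k) {b : Ω} {t : G} (ht : TwoElt t)
    (htb : t • b = b) : ∃ v ∈ V b, v ≠ 1 ∧ Commute t v := by
  obtain ⟨n, hn⟩ := ht
  have h1 : IsPGroup 2 (Subgroup.zpowers t) := by
    refine IsPGroup.of_card (n := n) ?_
    rw [Nat.card_zpowers, hn]
  have hle : Subgroup.zpowers t ≤ MulAction.stabilizer G b := by
    rw [Subgroup.zpowers_le]; exact htb
  obtain ⟨d, hd, hdT⟩ := c.setup.exists_commute_of_fix _ h1 (fun s hs => hle hs)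
  refine ⟨d, c.mem_V_of hd, ?_, (hdT t (Subgroup.mem_zpowers t)).symm⟩
  rintro rfl
  have := c.setup.orderOf_eq hd.1
  simp at this

end Ctx

/-! ### Consequences of `LocQ` -/

section locq

variable {H : Subgroup G} {a b : Ω} {Q : Subgroup (Equiv.Perm (pts Ω z H))}

theorem Ctx.mem_pts_of_le (c : Ctx Ω z V k) {H : Subgroup G} {a : Ω} (ha : V a ≤ H) :
    a ∈ pts Ω z H := by
  obtain ⟨x, hx, h1⟩ := c.exists_ne_one a
  exact ⟨x, ha hx, c.mem_At hx h1⟩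

theorem rho_eq_iff {H : Subgroup G} (g g' : H) :
    rho Ω z H g = rho Ω z H g' ↔ ∀ p ∈ pts Ω z H, (g : G) • p = (g' : G) • p := by
  constructor
  · intro h p hp
    exact congrArg Subtype.val (congrArg (fun f : Equiv.Perm _ => f (⟨p, hp⟩ : pts Ω z H)) h)
  · intro h
    ext p
    exact h p p.2

theorem Ctx.injV (c : Ctx Ω z V k) (hab : a ≠ b) (hb : b ∈ pts Ω z H) {x : H}
    (hx : (x : G) ∈ V a) (h1 : rho Ω z H x = 1) : x = 1 := by
  apply Subtype.ext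
  exact c.eq_one_of_fix hab hx ((rho_eq_one_iff x).mp h1 b hb)

theorem mem_E {Va : Subgroup G} {x : H} (hx : (x : G) ∈ Va) :
    rho Ω z H x ∈ (Va.subgroupOf H).map (rho Ω z H) := ⟨x, hx, rfl⟩

theorem exists_of_mem_E {Va : Subgroup G} {e : Equiv.Perm (pts Ω z H)}
    (he : e ∈ (Va.subgroupOf H).map (rho Ω z H)) : ∃ x : H, (x : G) ∈ Va ∧ rho Ω z H x = e := he

/-- an element of `H_ab` centralising `Q` acts trivially -/
theorem LocQ.eq_one_of_commute {Va : Subgroup G} (L : LocQ Ω z H a Va k Q)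
    (hb : b ∈ pts Ω z H) (hba : b ≠ a) {g : H} (hga : (g : G) • a = a) (hgb : (g : G) • b = b)
    (hg : ∀ x ∈ Q, Commute (rho Ω z H g) x) : rho Ω z H g = 1 := by
  rw [rho_eq_one_iff]
  intro p hp
  by_cases hpa : p = a
  · rw [hpa, hga]
  obtain ⟨x, hxQ, hx⟩ := L.trans b hb p hp hba hpa
  have h1 := hg _ hxQ
  have h2 : rho Ω z H (g * x) = rho Ω z H (x * g) := by rw [map_mul, map_mul]; exact h1
  have h3 := (rho_eq_iff _ _).mp h2 b hb
  have h4 : (g : G) • ((x : G) • b) = (x : G) • ((g : G) • b) := by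
    rw [← mul_smul, ← mul_smul]; exact h3
  rw [hx, hgb, hx] at h4
  exact h4

/-- elements of `H_a` normalise the image of `V_a` -/
theorem Ctx.conj_E (c : Ctx Ω z V k) {g : H} (hga : (g : G) • a = a)
    {e : Equiv.Perm (pts Ω z H)} (he : e ∈ ((V a).subgroupOf H).map (rho Ω z H)) :
    rho Ω z H g * e * (rho Ω z H g)⁻¹ ∈ ((V a).subgroupOf H).map (rho Ω z H) := by
  obtain ⟨x, hx, rfl⟩ := exists_of_mem_E he
  refine ⟨g * x * g⁻¹, ?_, by rw [map_mul, map_mul, map_inv]⟩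
  exact c.conj_V' hga hx

theorem Ctx.trans_E [Finite G] (c : Ctx Ω z V k) (hab : a ≠ b) {X : Subgroup G}
    (hXH : X ≤ H) (haX : V a ≤ X) {v : G} (hvb : v ∈ V b) (hv1 : v ≠ 1) (hvX : v ∈ X)
    {d e : Equiv.Perm (pts Ω z H)} (hd : d ∈ ((V a).subgroupOf H).map (rho Ω z H))
    (he : e ∈ ((V a).subgroupOf H).map (rho Ω z H)) (hd1 : d ≠ 1) (he1 : e ≠ 1) :
    ∃ g : H, (g : G) ∈ X ∧ (g : G) • a = a ∧ rho Ω z H g * d * (rho Ω z H g)⁻¹ = e := by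
  obtain ⟨d', hd', rfl⟩ := exists_of_mem_E hd
  obtain ⟨e', he', rfl⟩ := exists_of_mem_E he
  obtain ⟨g, hgX, hga, hg⟩ := c.trans_V hab haX hvb hv1 hvX hd' he'
    (fun hh => hd1 (by rw [show d' = 1 from Subtype.ext hh, map_one]))
    (fun hh => he1 (by rw [show e' = 1 from Subtype.ext hh, map_one]))
  refine ⟨⟨g, hXH hgX⟩, hgX, hga, ?_⟩
  rw [← map_inv, ← map_mul, ← map_mul]
  congr 1
  exact Subtype.ext hg

theorem LocY.ye {Va Vb : Subgroup G} {y : H} {W : Subgroup (Equiv.Perm (pts Ω z H))}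
    (Y : LocY Ω z H a b Va Vb k Q y W) :
    YE Q ((Va.subgroupOf H).map (rho Ω z H)) (rho Ω z H y) where
  norm := Y.norm_W _ Y.mem_W
  comm := Y.comm_W _ Y.mem_W
  odd := Y.odd_W _ Y.mem_W
  cent := Y.cent_W _ Y.mem_W Y.ne

/-- (T0) -/
theorem Ctx.T0 [Finite G] (c : Ctx Ω z V k) (hab : a ≠ b) (hbH : V b ≤ H)
    {y : H} {W : Subgroup (Equiv.Perm (pts Ω z H))} (L : LocQ Ω z H a (V a) k Q)
    (Y : LocY Ω z H a b (V a) (V b) k Q y W) {t : H} (ht : TwoElt (t : G))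
    (hta : (t : G) • a = a) (htb : (t : G) • b = b) (hty : Commute t y)
    (htV : ∀ v ∈ V a, Commute (t : G) v) : rho Ω z H t = 1 := by
  set E := ((V a).subgroupOf H).map (rho Ω z H) with hE
  set τ := rho Ω z H t with hτ
  have hbp := c.mem_pts_of_le hbH
  have hτE : ∀ e ∈ E, Commute τ e := by
    intro e he
    obtain ⟨x, hx, rfl⟩ := exists_of_mem_E he
    have h1 : Commute t x := Subtype.ext (htV _ hx)
    exact h1.map (rho Ω z H)
  have hτy : Commute τ (rho Ω z H y) := hty.map (rho Ω z H)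
  -- an element of `Q` outside `E`, fixed modulo `E`
  have hT2 : IsPGroup 2 ((Subgroup.zpowers t).map (rho Ω z H)) := by
    refine IsPGroup.map (isPGroup_of_twoElt ?_) _
    intro g hg
    obtain ⟨n, rfl⟩ := Subgroup.mem_zpowers_iff.mp hg
    obtain ⟨m, hm⟩ := TwoElt.coe.mp ht
    have h1 : IsPGroup 2 (Subgroup.zpowers t) := by
      refine IsPGroup.of_card (n := m) ?_
      rw [Nat.card_zpowers, hm]
    exact TwoElt.of_mem h1 (Subgroup.mem_zpowers_iff.mpr ⟨n, rfl⟩)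
  have hzpa : ∀ g ∈ Subgroup.zpowers t, (g : G) • a = a := by
    have hle : Subgroup.zpowers t ≤ (MulAction.stabilizer G a).subgroupOf H := by
      rw [Subgroup.zpowers_le]; exact hta
    exact fun g hg => hle hg
  obtain ⟨p, hpQ, hpE, hp⟩ := L.qe.exists_common hT2
    (by
      rintro _ ⟨g, hg, rfl⟩ x hx
      exact L.norm g (hzpa g hg) x hx)
    (by
      rintro _ ⟨g, hg, rfl⟩ e he
      obtain ⟨n, rfl⟩ := Subgroup.mem_zpowers_iff.mp hg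
      rw [map_zpow]
      exact (hτE e he).zpow_left n)
  have hpτ : p⁻¹ * (τ * p * τ⁻¹) ∈ E := hp τ ⟨t, Subgroup.mem_zpowers t, rfl⟩
  obtain ⟨Q₀, hQ₀⟩ := L.qe.exists_fixMod τ
  have h1 : E ≤ Q₀ := by
    intro e he
    refine (hQ₀ e).mpr ⟨L.qe.le he, ?_⟩
    rw [(hτE e he).eq, mul_inv_cancel_right, inv_mul_cancel]
    exact one_mem _
  have h2 : Q₀ ≤ Q := fun x hx => ((hQ₀ x).mp hx).1
  -- invariance of `Q₀`
  have hinv : ∀ g : H, (g : G) • a = a → Commute (rho Ω z H g) τ →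
      ∀ x ∈ Q₀, rho Ω z H g * x * (rho Ω z H g)⁻¹ ∈ Q₀ := by
    intro g hga hgt x hx
    obtain ⟨hx1, hx2⟩ := (hQ₀ x).mp hx
    refine (hQ₀ _).mpr ⟨L.norm g hga x hx1, ?_⟩
    have h3 : (rho Ω z H g * x * (rho Ω z H g)⁻¹)⁻¹ *
        (τ * (rho Ω z H g * x * (rho Ω z H g)⁻¹) * τ⁻¹) =
        rho Ω z H g * (x⁻¹ * (τ * x * τ⁻¹)) * (rho Ω z H g)⁻¹ := by
      have h4 : τ * rho Ω z H g = rho Ω z H g * τ := hgt.symm.eq
      have h5 : (rho Ω z H g)⁻¹ * τ⁻¹ = τ⁻¹ * (rho Ω z H g)⁻¹ := by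
        rw [← mul_inv_rev, ← mul_inv_rev, h4]
      calc (rho Ω z H g * x * (rho Ω z H g)⁻¹)⁻¹ *
            (τ * (rho Ω z H g * x * (rho Ω z H g)⁻¹) * τ⁻¹)
          = rho Ω z H g * x⁻¹ * (rho Ω z H g)⁻¹ *
            ((τ * rho Ω z H g) * x * ((rho Ω z H g)⁻¹ * τ⁻¹)) := by group
        _ = rho Ω z H g * x⁻¹ * (rho Ω z H g)⁻¹ *
            ((rho Ω z H g * τ) * x * (τ⁻¹ * (rho Ω z H g)⁻¹)) := by rw [h4, h5]
        _ = _ := by group
    rw [h3]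
    exact c.conj_E hga hx2
  obtain ⟨v, hv, hv1, hvt⟩ := c.exists_comm_V ht htb
  have hXle : V a ≤ H ⊓ Subgroup.centralizer {(t : G)} := by
    intro x hx
    exact Subgroup.mem_inf.mpr ⟨L.VH hx, mem_cen.mpr (htV x hx).symm⟩
  have hvX : v ∈ H ⊓ Subgroup.centralizer {(t : G)} :=
    Subgroup.mem_inf.mpr ⟨hbH hv, mem_cen.mpr hvt.symm⟩
  have hQeq : Q₀ = Q := by
    refine L.qe.eq_of_invariant Y.ye h1 h2 ?_ ?_ ((hQ₀ p).mpr ⟨hpQ, hpτ⟩) hpE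
    · intro d hd e he hd1 he1
      obtain ⟨g, hgX, hga, hg⟩ := c.trans_E hab inf_le_left hXle hv hv1 hvX hd he hd1 he1
      refine ⟨rho Ω z H g, hinv g hga ?_, hg⟩
      have h3 : Commute g t := Subtype.ext (mem_cen.mp (Subgroup.mem_inf.mp hgX).2)
      exact h3.map (rho Ω z H)
    · exact hinv y Y.fix_a hτy.symm
  have hcomm := L.qe.commute_of_trivial Y.ye hτE hτy (by
    intro x hx
    rw [← hQeq] at hx
    exact ((hQ₀ x).mp hx).2)
  exact L.eq_one_of_commute hbp (Ne.symm hab) hta htb hcomm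

/-- (T3) -/
theorem Ctx.T3 [Finite G] (c : Ctx Ω z V k) (hab : a ≠ b) (hbH : V b ≤ H)
    {y : H} {W : Subgroup (Equiv.Perm (pts Ω z H))} (L : LocQ Ω z H a (V a) k Q)
    (Y : LocY Ω z H a b (V a) (V b) k Q y W) {t : H} (ht : TwoElt (t : G))
    (hta : (t : G) • a = a) (htb : (t : G) • b = b)
    (htV : ∀ v ∈ V a, Commute (t : G) v)
    (ht2 : ∀ x ∈ Q, Commute (rho Ω z H t * rho Ω z H t) x)
    (htn : ∃ x ∈ Q, ¬ Commute (rho Ω z H t) x) :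
    ∀ x ∈ Q, Commute (rho Ω z H t) x → x ∈ ((V a).subgroupOf H).map (rho Ω z H) := by
  have hτE : ∀ e ∈ ((V a).subgroupOf H).map (rho Ω z H), Commute (rho Ω z H t) e := by
    intro e he
    obtain ⟨x, hx, rfl⟩ := exists_of_mem_E he
    have h1 : Commute t x := Subtype.ext (htV _ hx)
    exact h1.map (rho Ω z H)
  obtain ⟨v, hv, hv1, hvt⟩ := c.exists_comm_V ht htb
  have hXle : V a ≤ H ⊓ Subgroup.centralizer {(t : G)} := by
    intro x hx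
    exact Subgroup.mem_inf.mpr ⟨L.VH hx, mem_cen.mpr (htV x hx).symm⟩
  have hvX : v ∈ H ⊓ Subgroup.centralizer {(t : G)} :=
    Subgroup.mem_inf.mpr ⟨hbH hv, mem_cen.mpr hvt.symm⟩
  refine L.qe.cent_eq Y.ye (fun x hx => L.norm t hta x hx) hτE ht2 htn ?_ W Y.mem_W
    (fun w hw => Y.conj_W t hta htb w hw) Y.comm_W Y.cent_W Y.odd_W Y.norm_W
  intro d hd e he hd1 he1
  obtain ⟨g, hgX, hga, hg⟩ := c.trans_E hab inf_le_left hXle hv hv1 hvX hd he hd1 he1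
  refine ⟨rho Ω z H g, ?_, fun x hx => L.norm g hga x hx, fun x hx => c.conj_E hga hx, hg⟩
  have h3 : Commute g t := Subtype.ext (mem_cen.mp (Subgroup.mem_inf.mp hgX).2)
  exact h3.map (rho Ω z H)

/-- (T2) -/
theorem Ctx.T2 [Finite G] (c : Ctx Ω z V k) (hab : a ≠ b) (hbH : V b ≤ H)
    {y : H} {W : Subgroup (Equiv.Perm (pts Ω z H))} (L : LocQ Ω z H a (V a) k Q)
    (Y : LocY Ω z H a b (V a) (V b) k Q y W) {T : Subgroup H} (hT : IsPGroup 2 T)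
    (hTa : ∀ t ∈ T, (t : G) • a = a) (hTb : ∀ t ∈ T, (t : G) • b = b)
    (hTV : ∀ t ∈ T, ∀ v ∈ V a, Commute (t : G) v) {t t' : H} (ht : t ∈ T) (ht' : t' ∈ T)
    (ht1 : rho Ω z H t ≠ 1) (ht1' : rho Ω z H t' ≠ 1) : rho Ω z H (t * t') = 1 := by
  have hbp := c.mem_pts_of_le hbH
  have key : ∀ s ∈ T, rho Ω z H s ≠ 1 → ∃ x ∈ Q, ¬ Commute (rho Ω z H s) x := by
    intro s hs h1
    by_contra hcon
    push Not at hcon
    exact h1 (L.eq_one_of_commute hbp (Ne.symm hab) (hTa s hs) (hTb s hs) hcon)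
  have h1 := L.qe.commute_mul (T := T.map (rho Ω z H)) (hT.map _)
    (by
      rintro _ ⟨g, hg, rfl⟩ x hx
      exact L.norm g (hTa g hg) x hx)
    (by
      rintro _ ⟨g, hg, rfl⟩ e he
      obtain ⟨x, hx, rfl⟩ := exists_of_mem_E he
      have h1 : Commute g x := Subtype.ext (hTV g hg _ hx)
      exact h1.map (rho Ω z H))
    (by
      rintro _ ⟨g, hg, rfl⟩ h1 h2
      refine c.T3 hab hbH L Y (TwoElt.coe.mpr (TwoElt.of_mem hT hg)) (hTa g hg) (hTb g hg)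
        (hTV g hg) h1 h2)
    ⟨t, ht, rfl⟩ ⟨t', ht', rfl⟩ (key t ht ht1) (key t' ht' ht1')
  rw [← map_mul] at h1
  refine L.eq_one_of_commute hbp (Ne.symm hab) ?_ ?_ h1
  · exact hTa _ (mul_mem ht ht')
  · exact hTb _ (mul_mem ht ht')

end locq

end Cfsg.Agent.AschCrit.CommFive
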