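import Mathlib
import Cfsg.Agent.AschCrit.CommFive.QLevel

/-!
# Aschbacher's criterion, commutative case (C5): the abelian subgroup `X`
-/

set_option autoImplicit false

namespace Cfsg.Agent.AschCrit.CommFive.EndAlg

open Subgroup Cfsg.Agent.AschCrit.CommFive

variable {Γ : Type*} [Group Γ]

/-- `B ∪ B p`, `p` commuting with `B` and `p ^ 2 ∈ B` -/
def step (B : Subgroup Γ) (p : Γ) (hp : p * p ∈ B) (hc : ∀ b ∈ B, Commute p b) : Subgroup Γ where
  carrier := {x | x ∈ B ∨ x * p ∈ B}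
  one_mem' := Or.inl B.one_mem
  mul_mem' := by
    rintro x y (hx | hx) (hy | hy)
    · exact Or.inl (B.mul_mem hx hy)
    · right
      have : x * y * p = x * (y * p) := by group
      rw [this]; exact B.mul_mem hx hy
    · right
      have : x * y * p = (x * p) * y := by
        have h1 := (hc y hy).eq
        calc x * y * p = x * (y * p) := by group
          _ = x * (p * y) := by rw [h1]
          _ = (x * p) * y := by group
      rw [this]; exact B.mul_mem hx hy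
    · left
      have : x * y = (x * p) * (y * p) * (p * p)⁻¹ := by
        have h1 := (hc _ hy).eq
        calc x * y = (x * p) * p⁻¹ * (y * p) * p⁻¹ := by group
          _ = (x * p) * p⁻¹ * ((y * p) * p) * (p * p)⁻¹ := by group
          _ = (x * p) * p⁻¹ * (p * (y * p)) * (p * p)⁻¹ := by rw [h1]
          _ = _ := by group
      rw [this]; exact B.mul_mem (B.mul_mem hx hy) (B.inv_mem hp)
  inv_mem' := by
    rintro x (hx | hx)
    · exact Or.inl (B.inv_mem hx)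
    · right
      have h1 := (hc _ (B.inv_mem hx)).eq
      have : x⁻¹ * p = (x * p)⁻¹ * (p * p) := by
        calc x⁻¹ * p = p * (x * p)⁻¹ * p := by group
          _ = (x * p)⁻¹ * p * p := by rw [h1]
          _ = _ := by group
      rw [this]; exact B.mul_mem (B.inv_mem hx) hp

theorem mem_step {B : Subgroup Γ} {p : Γ} {hp : p * p ∈ B} {hc : ∀ b ∈ B, Commute p b} {x : Γ} :
    x ∈ step B p hp hc ↔ x ∈ B ∨ x * p ∈ B := Iff.rfl

theorem le_step {B : Subgroup Γ} {p : Γ} {hp : p * p ∈ B} {hc : ∀ b ∈ B, Commute p b} :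
    B ≤ step B p hp hc := fun _ hx => Or.inl hx

/-- an element commuting with `B` and `p` commutes with `step B p` -/
theorem commute_step {B : Subgroup Γ} {p : Γ} {hp : p * p ∈ B} {hc : ∀ b ∈ B, Commute p b} {g : Γ}
    (hg : ∀ b ∈ B, Commute g b) (hgp : Commute g p) : ∀ x ∈ step B p hp hc, Commute g x := by
  rintro x (hx | hx)
  · exact hg x hx
  · have h1 := hg _ hx
    have h2 : x = (x * p) * p⁻¹ := by group
    rw [h2]
    exact h1.mul_right hgp.inv_right

theorem comm_step {B : Subgroup Γ} {p : Γ} {hp : p * p ∈ B} {hc : ∀ b ∈ B, Commute p b}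
    (hB : ∀ x ∈ B, ∀ y ∈ B, Commute x y) :
    ∀ x ∈ step B p hp hc, ∀ y ∈ step B p hp hc, Commute x y := by
  intro x hx
  apply commute_step
  · intro b hb
    exact (commute_step (fun c hc' => hB b hb c hc') (hc b hb).symm x hx).symm
  · exact (commute_step hc (Commute.refl p) x hx).symm

theorem step_le {B P : Subgroup Γ} {p : Γ} {hp : p * p ∈ B} {hc : ∀ b ∈ B, Commute p b}
    (hB : B ≤ P) (hpP : p ∈ P) : step B p hp hc ≤ P := by
  rintro x (hx | hx)
  · exact hB hx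
  · have h2 : x = (x * p) * p⁻¹ := by group
    rw [h2]
    exact P.mul_mem (hB hx) (P.inv_mem hpP)

theorem card_step {B : Subgroup Γ} [Finite B] {p : Γ} {hp : p * p ∈ B}
    {hc : ∀ b ∈ B, Commute p b} (hpB : p ∉ B) : Nat.card (step B p hp hc) = 2 * Nat.card B := by
  have h1 : ((step B p hp hc : Subgroup Γ) : Set Γ) =
      (B : Set Γ) ∪ (fun x => x * p⁻¹) '' (B : Set Γ) := by
    ext x
    simp only [SetLike.mem_coe, mem_step, Set.mem_union, Set.mem_image]
    refine or_congr Iff.rfl ?_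
    constructor
    · intro hx
      exact ⟨x * p, hx, by group⟩
    · rintro ⟨y, hy, rfl⟩
      simpa using hy
  have hfin : (B : Set Γ).Finite := Set.toFinite _
  have hinj : Function.Injective (fun x : Γ => x * p⁻¹) := mul_left_injective p⁻¹
  have h2 : Disjoint (B : Set Γ) ((fun x => x * p⁻¹) '' (B : Set Γ)) := by
    rw [Set.disjoint_left]
    rintro x hx ⟨y, hy, rfl⟩
    apply hpB
    have h3 : p = (y * p⁻¹)⁻¹ * y := by group
    rw [h3]
    exact B.mul_mem (B.inv_mem hx) hy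
  have h3 : Nat.card (step B p hp hc) = ((step B p hp hc : Subgroup Γ) : Set Γ).ncard :=
    Nat.card_coe_set_eq _
  have h4 : Nat.card B = (B : Set Γ).ncard := Nat.card_coe_set_eq _
  rw [h3, h1, Set.ncard_union_eq h2 hfin (hfin.image _), Set.ncard_image_of_injective _ hinj, ← h4]
  ring

/-- an abelian subgroup of `P` of order `4 q` -/
theorem exists_abelian {P V : Subgroup Γ} {k : ℕ} (hP : QE P V k) :
    ∃ B : Subgroup Γ, V ≤ B ∧ B ≤ P ∧ (∀ x ∈ B, ∀ y ∈ B, Commute x y) ∧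
      Nat.card B = 4 * 2 ^ k := by
  have hfP : Finite P := hP.fin
  have hfV : Finite V := Finite.of_injective _ (inclusion_injective hP.le)
  have hq4 : 4 ≤ 2 ^ k := by
    calc 4 = 2 ^ 2 := by norm_num
      _ ≤ 2 ^ k := Nat.pow_le_pow_right (by norm_num) hP.two_le
  obtain ⟨p₁, hp₁, hp₁V⟩ : ∃ p ∈ P, p ∉ V := by
    by_contra hcon
    push Not at hcon
    have h1 : Nat.card P ≤ Nat.card V := Nat.card_le_card_of_injective
      (inclusion (show P ≤ V from hcon)) (inclusion_injective _)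
    rw [hP.card_Q, hP.card_E] at h1
    have h2 : (2 ^ k) ^ 1 < (2 ^ k) ^ 3 := Nat.pow_lt_pow_right (by omega) (by norm_num)
    rw [pow_one] at h2
    omega
  set B₁ := step V p₁ (hP.sq p₁ hp₁) (fun v hv => (hP.central v hv p₁ hp₁).symm) with hB₁
  have hc₁ : Nat.card B₁ = 2 * 2 ^ k := by
    rw [hB₁, card_step hp₁V, hP.card_E]
  have hB₁P : B₁ ≤ P := step_le hP.le hp₁
  have hVc : ∀ x ∈ V, ∀ y ∈ V, Commute x y := fun x hx y hy => hP.central x hx y (hP.le hy)
  have hB₁c := comm_step (hp := hP.sq p₁ hp₁)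
    (hc := fun v hv => (hP.central v hv p₁ hp₁).symm) hVc
  -- the centralizer of `p₁`
  have hcC : (2 ^ k) ^ 2 ≤ Nat.card (P ⊓ centralizer {p₁} : Subgroup Γ) := by
    let F : P → V := fun x => ⟨(x : Γ)⁻¹ * p₁⁻¹ * x * p₁, hP.comm_mem x.2 hp₁⟩
    have h1 := card_le_mul_range (Q := P) (E := P ⊓ centralizer {p₁}) inf_le_left F (by
      intro g g' hgg
      refine mem_inf.mpr ⟨P.mul_mem g.2 (P.inv_mem g'.2), ?_⟩
      rw [mem_centralizer_singleton_iff]
      have h2 : (g : Γ)⁻¹ * p₁⁻¹ * g * p₁ = (g' : Γ)⁻¹ * p₁⁻¹ * g' * p₁ := congrArg Subtype.val hgg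
      have h3 : (g : Γ)⁻¹ * p₁⁻¹ * g = (g' : Γ)⁻¹ * p₁⁻¹ * g' := mul_right_cancel h2
      have h4 : (g : Γ)⁻¹ * p₁ * g = (g' : Γ)⁻¹ * p₁ * g' := by
        have := congrArg (·⁻¹) h3
        simp only [mul_inv_rev, inv_inv] at this
        rw [mul_assoc, mul_assoc]
        exact this
      calc (g : Γ) * (g' : Γ)⁻¹ * p₁ = g * ((g' : Γ)⁻¹ * p₁ * g') * (g' : Γ)⁻¹ := by group
        _ = g * ((g : Γ)⁻¹ * p₁ * g) * (g' : Γ)⁻¹ := by rw [h4]
        _ = p₁ * ((g : Γ) * (g' : Γ)⁻¹) := by group)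
    have h2 : Nat.card (Set.range F) ≤ Nat.card V :=
      Nat.card_le_card_of_injective (Subtype.val) Subtype.val_injective
    rw [hP.card_E] at h2
    rw [hP.card_Q] at h1
    have h3 : (2 ^ k) ^ 3 ≤ Nat.card (P ⊓ centralizer {p₁} : Subgroup Γ) * 2 ^ k :=
      h1.trans (Nat.mul_le_mul_left _ h2)
    rw [pow_succ] at h3
    exact Nat.le_of_mul_le_mul_right h3 (by omega)
  obtain ⟨p₂, hp₂, hp₂B⟩ : ∃ p ∈ P ⊓ centralizer {p₁}, p ∉ B₁ := by
    by_contra hcon
    push Not at hcon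
    have hfB : Finite B₁ := Finite.of_injective _ (inclusion_injective hB₁P)
    have h1 : Nat.card (P ⊓ centralizer {p₁} : Subgroup Γ) ≤ Nat.card B₁ :=
      Nat.card_le_card_of_injective
        (inclusion (show P ⊓ centralizer {p₁} ≤ B₁ from hcon)) (inclusion_injective _)
    rw [hc₁] at h1
    nlinarith
  have hp₂c : Commute p₂ p₁ := mem_centralizer_singleton_iff.mp hp₂.2
  have hp₂B' : ∀ b ∈ B₁, Commute p₂ b :=
    commute_step (fun v hv => (hP.central v hv p₂ hp₂.1).symm) hp₂c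
  have hfB : Finite B₁ := Finite.of_injective _ (inclusion_injective hB₁P)
  refine ⟨step B₁ p₂ (le_step (hP.sq p₂ hp₂.1)) hp₂B', le_step.trans le_step,
    step_le hB₁P hp₂.1, comm_step hB₁c, ?_⟩
  rw [card_step hp₂B, hc₁]
  ring

/-- squaring `A → V` is onto -/
theorem exists_sqrt {A V : Subgroup Γ} [Finite A] {k : ℕ} (hAc : ∀ x ∈ A, ∀ y ∈ A, Commute x y)
    (hVA : V ≤ A) (hV : Nat.card V = 2 ^ k) (hA : Nat.card A = (2 ^ k) ^ 2)
    (hsq : ∀ x ∈ A, x * x ∈ V) (hinv : ∀ x ∈ A, x * x = 1 → x ∈ V) {v : Γ} (hv : v ∈ V) :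
    ∃ a ∈ A, a * a = v := by
  have hfV : Finite V := Finite.of_injective _ (inclusion_injective hVA)
  have hq : 0 < 2 ^ k := by positivity
  let F : A → V := fun x => ⟨(x : Γ) * x, hsq x x.2⟩
  have h1 := card_le_mul_range (Q := A) (E := V) hVA F (by
    intro g g' hgg
    have h2 : (g : Γ) * g = (g' : Γ) * g' := congrArg Subtype.val hgg
    apply hinv _ (A.mul_mem g.2 (A.inv_mem g'.2))
    have h3 := (hAc _ g.2 _ (A.inv_mem g'.2)).eq
    calc (g : Γ) * (g' : Γ)⁻¹ * (g * (g' : Γ)⁻¹) = g * ((g' : Γ)⁻¹ * g) * (g' : Γ)⁻¹ := by group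
      _ = g * (g * (g' : Γ)⁻¹) * (g' : Γ)⁻¹ := by rw [h3]
      _ = (g * g) * ((g' : Γ) * g')⁻¹ := by group
      _ = 1 := by rw [h2, mul_inv_cancel])
  rw [hV, hA, pow_two] at h1
  have h2 : 2 ^ k ≤ Nat.card (Set.range F) := Nat.le_of_mul_le_mul_left h1 hq
  have h3 : Set.range F = Set.univ := by
    apply Set.eq_of_subset_of_ncard_le (Set.subset_univ _)
    · rw [Set.ncard_univ, hV, ← Nat.card_coe_set_eq]
      exact h2
  have h4 : (⟨v, hv⟩ : V) ∈ Set.range F := by rw [h3]; exact Set.mem_univ _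
  obtain ⟨a, ha⟩ := h4
  exact ⟨a, a.2, congrArg Subtype.val ha⟩

/-- the abelian subgroup `X` -/
theorem exists_X {A P V : Subgroup Γ} {k : ℕ} (hP : QE P V k)
    (hAc : ∀ x ∈ A, ∀ y ∈ A, Commute x y) (hVA : V ≤ A) (hA : Nat.card A = (2 ^ k) ^ 2)
    (hAsq : ∀ x ∈ A, x * x ∈ V) (hAinv : ∀ x ∈ A, x * x = 1 → x ∈ V)
    (hAP : ∀ x ∈ A, ∀ p ∈ P, Commute x p) (hAPV : ∀ x ∈ A, x ∈ P → x ∈ V) :
    ∃ X : Subgroup Γ, V ≤ X ∧ (∀ x ∈ X, ∃ a ∈ A, ∃ p ∈ P, x = a * p) ∧
      (∀ x ∈ X, ∀ y ∈ X, Commute x y) ∧ (∀ x ∈ X, x * x ∈ V) ∧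
      4 * (2 ^ k) ^ 2 ≤ Nat.card X ∧ 4 * 2 ^ k ≤ Nat.card {i : Γ // i ∈ X ∧ i * i = 1} := by
  classical
  have hq : 0 < 2 ^ k := by positivity
  have hfP : Finite P := hP.fin
  have hfA : Finite A := by
    apply Nat.finite_of_card_ne_zero
    rw [hA]; positivity
  have hfV : Finite V := Finite.of_injective _ (inclusion_injective hP.le)
  obtain ⟨B, hVB, hBP, hBc, hcB⟩ := exists_abelian hP
  have hfB : Finite B := Finite.of_injective _ (inclusion_injective hBP)
  have hcomm : ∀ (a : A) (b : B), Commute (A.subtype a) (B.subtype b) :=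
    fun a b => hAP a a.2 b (hBP b.2)
  let f : A × B →* Γ := MonoidHom.noncommCoprod A.subtype B.subtype hcomm
  have hf : ∀ x : A × B, f x = (x.1 : Γ) * x.2 := fun x => rfl
  have hfr : Finite f.range := Finite.of_surjective _ f.rangeRestrict_surjective
  have hX : ∀ x ∈ f.range, ∃ a ∈ A, ∃ b ∈ B, x = a * b := by
    rintro _ ⟨x, rfl⟩
    exact ⟨x.1, x.1.2, x.2, x.2.2, hf x⟩
  have hXc : ∀ x ∈ f.range, ∀ y ∈ f.range, Commute x y := by
    intro x hx y hy
    obtain ⟨a, ha, b, hb, rfl⟩ := hX x hx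
    obtain ⟨a', ha', b', hb', rfl⟩ := hX y hy
    have h1 : Commute a (a' * b') := (hAc a ha a' ha').mul_right (hAP a ha b' (hBP hb'))
    have h2 : Commute b (a' * b') := ((hAP a' ha' b (hBP hb)).symm).mul_right (hBc b hb b' hb')
    exact h1.mul_left h2
  refine ⟨f.range, ?_, ?_, hXc, ?_, ?_, ?_⟩
  · intro v hv
    exact ⟨(⟨v, hVA hv⟩, 1), by rw [hf]; simp⟩
  · intro x hx
    obtain ⟨a, ha, b, hb, rfl⟩ := hX x hx
    exact ⟨a, ha, b, hBP hb, rfl⟩
  · intro x hx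
    obtain ⟨a, ha, b, hb, rfl⟩ := hX x hx
    have h1 := (hAP a ha b (hBP hb)).eq
    have h2 : a * b * (a * b) = (a * a) * (b * b) := by
      calc a * b * (a * b) = a * (b * a) * b := by group
        _ = a * (a * b) * b := by rw [h1]
        _ = _ := by group
    rw [h2]
    exact V.mul_mem (hAsq a ha) (hP.sq b (hBP hb))
  · -- the order of `X`
    have h1 : Nat.card f.ker ≤ 2 ^ k := by
      rw [← hP.card_E]
      refine Nat.card_le_card_of_injective (fun x : f.ker => (⟨x.1.1, ?_⟩ : V)) ?_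
      · have h2 : (x.1.1 : Γ) * x.1.2 = 1 := (hf x.1).symm.trans x.2
        apply hAPV _ x.1.1.2
        rw [eq_inv_of_mul_eq_one_left h2]
        exact P.inv_mem (hBP x.1.2.2)
      · intro x y hxy
        have hx : (x.1.1 : Γ) * x.1.2 = 1 := (hf x.1).symm.trans x.2
        have hy : (y.1.1 : Γ) * y.1.2 = 1 := (hf y.1).symm.trans y.2
        have h3 : (x.1.1 : Γ) = y.1.1 := congrArg (fun z : V => (z : Γ)) hxy
        have h4 : (x.1.2 : Γ) = y.1.2 := by
          rw [eq_inv_of_mul_eq_one_right hx, eq_inv_of_mul_eq_one_right hy, h3]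
        exact Subtype.ext (Prod.ext (Subtype.ext h3) (Subtype.ext h4))
    have h2 : Nat.card f.ker * Nat.card f.range = Nat.card (A × B) := by
      have h3 := f.ker.card_mul_index
      rwa [index_ker] at h3
    rw [Nat.card_prod, hA, hcB] at h2
    have h3 : (2 ^ k) ^ 2 * (4 * 2 ^ k) ≤ 2 ^ k * Nat.card f.range := by
      rw [← h2]; exact Nat.mul_le_mul_right _ h1
    apply Nat.le_of_mul_le_mul_left _ hq
    calc 2 ^ k * (4 * (2 ^ k) ^ 2) = (2 ^ k) ^ 2 * (4 * 2 ^ k) := by ring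
      _ ≤ _ := h3
  · -- the involutions of `X`
    have hsq := fun (v : Γ) (hv : v ∈ V) => exists_sqrt hAc hVA hP.card_E hA hAsq hAinv hv
    choose s hs hs2 using hsq
    rw [← hcB]
    have hfI : Finite {i : Γ // i ∈ f.range ∧ i * i = 1} :=
      Finite.of_injective (fun i => (⟨i.1, i.2.1⟩ : f.range)) (fun i j hij =>
        Subtype.ext (congrArg (fun x : f.range => (x : Γ)) hij))
    have hbsq : ∀ b : B, (b : Γ) * b ∈ V := fun b => hP.sq b (hBP b.2)
    refine Nat.card_le_card_of_injective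
      (fun b : B => (⟨(s _ (hbsq b))⁻¹ * b, ?_, ?_⟩ : {i : Γ // i ∈ f.range ∧ i * i = 1})) ?_
    · exact ⟨((⟨s _ (hbsq b), hs _ _⟩ : A)⁻¹, b), rfl⟩
    · have h1 : Commute (s _ (hbsq b))⁻¹ (b : Γ) :=
        (hAP _ (hs _ (hbsq b)) b (hBP b.2)).inv_left
      have h2 : (s _ (hbsq b))⁻¹ * b * ((s _ (hbsq b))⁻¹ * b) =
          (s _ (hbsq b) * s _ (hbsq b))⁻¹ * (b * b) := by
        calc (s _ (hbsq b))⁻¹ * b * ((s _ (hbsq b))⁻¹ * b)
            = (s _ (hbsq b))⁻¹ * (b * (s _ (hbsq b))⁻¹) * b := by group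
          _ = (s _ (hbsq b))⁻¹ * ((s _ (hbsq b))⁻¹ * b) * b := by rw [h1.eq]
          _ = _ := by group
      rw [h2, hs2, inv_mul_cancel]
    · intro b b' hbb
      have h1 : (s _ (hbsq b))⁻¹ * (b : Γ) = (s _ (hbsq b'))⁻¹ * (b' : Γ) :=
        congrArg (fun x : {i : Γ // i ∈ f.range ∧ i * i = 1} => (x : Γ)) hbb
      -- `b * b'⁻¹ ∈ V`
      have h2 : (b : Γ) * (b' : Γ)⁻¹ = s _ (hbsq b) * (s _ (hbsq b'))⁻¹ := by
        calc (b : Γ) * (b' : Γ)⁻¹ = s _ (hbsq b) * ((s _ (hbsq b))⁻¹ * b) * (b' : Γ)⁻¹ := by group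
          _ = s _ (hbsq b) * ((s _ (hbsq b'))⁻¹ * b') * (b' : Γ)⁻¹ := by rw [h1]
          _ = _ := by group
      have h3 : (b : Γ) * (b' : Γ)⁻¹ ∈ V := by
        apply hAPV
        · rw [h2]; exact A.mul_mem (hs _ _) (A.inv_mem (hs _ _))
        · exact P.mul_mem (hBP b.2) (P.inv_mem (hBP b'.2))
      have h4 : (b : Γ) * b = b' * b' := by
        have h5 : (b : Γ) = ((b : Γ) * (b' : Γ)⁻¹) * b' := by group
        have h6 := (hP.central _ h3 b' (hBP b'.2)).eq
        have h7 := hP.el _ h3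
        calc (b : Γ) * b = (((b : Γ) * (b' : Γ)⁻¹) * b') * (((b : Γ) * (b' : Γ)⁻¹) * b') := by
              rw [← h5]
          _ = ((b : Γ) * (b' : Γ)⁻¹) * (b' * ((b : Γ) * (b' : Γ)⁻¹)) * b' := by group
          _ = ((b : Γ) * (b' : Γ)⁻¹) * (((b : Γ) * (b' : Γ)⁻¹) * b') * b' := by rw [h6]
          _ = (((b : Γ) * (b' : Γ)⁻¹) * ((b : Γ) * (b' : Γ)⁻¹)) * (b' * b') := by group
          _ = b' * b' := by rw [h7, one_mul]
      have h5 : s _ (hbsq b) = s _ (hbsq b') := by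
        congr 1
      rw [h5] at h1
      exact Subtype.ext (mul_left_cancel h1)

end Cfsg.Agent.AschCrit.CommFive.EndAlg
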