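import Cfsg.Agent.AschCrit.CommFive.EndX
import Cfsg.Agent.AschCrit.CommFive.EndAlg

/-!
# Aschbacher's criterion, commutative case (C5): the end

`Ctx.end_false` : there are no subgroups `A`, `P` of `G_a` with `V_a ≤ A`, `A` abelian of order `q²`
with involutions in `V_a`, `QE P V_a k`, `[A, P] = 1`, `A ∩ P = V_a`.
-/

set_option autoImplicit false

namespace Cfsg.Agent.AschCrit.CommFive

open Cfsg.Agent.TwoFusion.StronglyEmbeddedBasic Cfsg.Agent.AschCrit.Basic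

variable {G Ω : Type*} [Group G] [MulAction G Ω] {z : G} {V : Ω → Subgroup G} {k : ℕ}

theorem Ctx.end_false [Finite G] (c : Ctx Ω z V k) {a : Ω} {A P : Subgroup G}
    (_hA2 : IsPGroup 2 A) (hAc : ∀ x ∈ A, ∀ y ∈ A, Commute x y) (hAV : V a ≤ A)
    (hA : Nat.card A = (2 ^ k) ^ 2) (hAsq : ∀ x ∈ A, x * x ∈ V a)
    (hAinv : ∀ x ∈ A, x * x = 1 → x ∈ V a) (hAa : ∀ x ∈ A, x • a = a) (hP : QE P (V a) k)
    (hPa : ∀ x ∈ P, x • a = a) (hAP : ∀ x ∈ A, ∀ p ∈ P, Commute x p)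
    (hAPV : ∀ x ∈ A, x ∈ P → x ∈ V a) : False := by
  obtain ⟨X, hVX, hX, hXc, hXsq, hXcard, hI⟩ :=
    EndAlg.exists_X hP hAc hAV hA hAsq hAinv hAP hAPV
  refine c.false_of_abelian hVX (fun x hx => ?_) hXc hXsq hXcard hI
  obtain ⟨g, hg, p, hp, rfl⟩ := hX x hx
  rw [mul_smul, hPa p hp, hAa g hg]

end Cfsg.Agent.AschCrit.CommFive
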