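import Cfsg.Agent.AschCrit.CommFive.PU

/-!
# Aschbacher's criterion, commutative case (C5): large abelian 2-subgroups of a point stabiliser

`Ctx.false_of_abelian` : there is no abelian subgroup `X` of `G_a` with `V_a ≤ X`, `x² ∈ V_a` for all
`x` in `X`, of order at least `4 q²`, containing at least `4 q` elements with square 1.
-/

set_option autoImplicit false

namespace Cfsg.Agent.AschCrit.CommFive

open Cfsg.Agent.TwoFusion.StronglyEmbeddedBasic Cfsg.Agent.AschCrit.Basic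
open Cfsg.Agent.AschCrit.Basic.Setup Cfsg.Agent.AschCrit.Closed Cfsg.Agent.AschCrit.Descent
open Cfsg.Agent.AschCrit.NonIso

variable {G Ω : Type*} [Group G] [MulAction G Ω] {z : G} {V : Ω → Subgroup G} {k : ℕ}

/-- the elements of `P` centralise `V_a` -/
theorem Ctx.commute_of_locP (c : Ctx Ω z V k) {H : Subgroup G} {a b : Ω} (hab : a ≠ b)
    (hb : b ∈ pts Ω z H) {Q : Subgroup (Equiv.Perm (pts Ω z H))} (L : LocQ Ω z H a (V a) k Q)
    {P : Subgroup G} (hP : LocP Ω z H a Q P) {g v : G} (hg : g ∈ P) (hv : v ∈ V a) :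
    Commute g v := by
  obtain ⟨hgH, -, hga, -, hgQ⟩ := (hP.mem g).mp hg
  have hvH : v ∈ H := L.VH hv
  have h1 : g * v * g⁻¹ * v⁻¹ ∈ V a := mul_mem (c.conj_V' hga hv) (inv_mem hv)
  have h2 : Commute (rho Ω z H ⟨v, hvH⟩) (rho Ω z H ⟨g, hgH⟩) :=
    L.qe.central _ (mem_E (x := ⟨v, hvH⟩) hv) _ hgQ
  have h3 : rho Ω z H (⟨g, hgH⟩ * ⟨v, hvH⟩ * ⟨g, hgH⟩⁻¹ * ⟨v, hvH⟩⁻¹) = 1 := by
    rw [map_mul, map_mul, map_mul, map_inv, map_inv, ← h2.eq, mul_inv_cancel_right,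
      mul_inv_cancel]
  have h4 := c.injV hab hb (x := ⟨g, hgH⟩ * ⟨v, hvH⟩ * ⟨g, hgH⟩⁻¹ * ⟨v, hvH⟩⁻¹) h1 h3
  have h5 : g * v * g⁻¹ * v⁻¹ = 1 := congrArg Subtype.val h4
  show g * v = v * g
  exact mul_inv_eq_iff_eq_mul.mp (mul_inv_eq_one.mp h5)

/-- the bad involution `s` is the only non-trivial element of an abelian 2-group acting trivially on
the fixed points of `s`; the rest is `QE.card_le_or` -/
theorem Ctx.card_le_or [Finite G] (c : Ctx Ω z V k) {a : Ω} {X : Subgroup G} (hX2 : IsPGroup 2 X)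
    (hXa : ∀ x ∈ X, x • a = a) (hXV : ∀ x ∈ X, ∀ v ∈ V a, Commute x v)
    (hXc : ∀ x ∈ X, ∀ y ∈ X, Commute x y) (hVX : V a ≤ X) {s : G} (hs : Bad Ω s) (hsX : s ∈ X)
    (hXH : X ≤ Subgroup.centralizer ({s} : Set G)) :
    ((∀ x ∈ X, x * x = 1 → x ∈ V a ∨ ∃ v ∈ V a, v * s = x) ∨
      Nat.card X ≤ 2 * (2 * 2 ^ k)) := by
  classical
  have : Fact (Nat.Prime 2) := ⟨Nat.prime_two⟩
  obtain ⟨b, Q, y, W, D⟩ := c.exists_UD hs (hXa s hsX)
  set H := Subgroup.centralizer ({s} : Set G) with hH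
  have hap : a ∈ pts Ω z H := (c.mem_pts_u hs).mpr D.fa
  have hbp : b ∈ pts Ω z H := (c.mem_pts_u hs).mpr D.fb
  obtain ⟨P, hP⟩ := D.L.exists_P c.setup c.mem_V D.ne hap hbp
  have hPH : ∀ g ∈ P, g ∈ H := fun g hg => ((hP.mem g).mp hg).1
  have hP2 : IsPGroup 2 P := isPGroup_of_twoElt (fun g hg => ((hP.mem g).mp hg).2.2.2.1)
  have hPa : ∀ g ∈ P, g • a = a := fun g hg => ((hP.mem g).mp hg).2.2.1
  have hnorm : ∀ g : G, g ∈ H → g • a = a → ∀ x ∈ P, g * x * g⁻¹ ∈ P := by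
    intro g hgH hga x hx
    obtain ⟨hxH, hxD, hxa, hx2, hxQ⟩ := (hP.mem x).mp hx
    refine (hP.mem _).mpr ⟨mul_mem (mul_mem hgH hxH) (inv_mem hgH), conj_mem_DCl hgH hxD, ?_,
      hx2.conj g, ?_⟩
    · have h1 : g⁻¹ • a = a := by rw [inv_smul_eq_iff, hga]
      rw [mul_smul, mul_smul, h1, hxa, hga]
    · have h1 := D.L.norm ⟨g, hgH⟩ hga _ hxQ
      rw [← map_inv, ← map_mul, ← map_mul] at h1
      exact h1
  -- the 2-group `X P`
  have hXn : X ≤ Subgroup.normalizer (P : Set G) := by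
    intro g hg
    rw [Subgroup.mem_normalizer_iff]
    intro x
    constructor
    · exact fun hx => hnorm g (hXH hg) (hXa g hg) x hx
    · intro hx
      have h1 := hnorm g⁻¹ (hXH (inv_mem hg)) (hXa g⁻¹ (inv_mem hg)) _ hx
      have h2 : g⁻¹ * (g * x * g⁻¹) * g⁻¹⁻¹ = x := by group
      rwa [h2] at h1
  have hS2 : IsPGroup 2 (X ⊔ P : Subgroup G) := hX2.to_sup_of_normal_right' hP2 hXn
  set S := X ⊔ P with hS
  have hXS : X ≤ S := le_sup_left
  have hPS : P ≤ S := le_sup_right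
  have hSa : ∀ g ∈ S, g • a = a := by
    have h1 : S ≤ MulAction.stabilizer G a := sup_le (fun g hg => hXa g hg) (fun g hg => hPa g hg)
    exact fun g hg => h1 hg
  have hSV : ∀ g ∈ S, ∀ v ∈ V a, Commute g v := by
    have h1 : S ≤ Subgroup.centralizer (V a : Set G) := by
      refine sup_le (fun g hg => ?_) (fun g hg => ?_)
      · rw [Subgroup.mem_centralizer_iff]
        exact fun v hv => (hXV g hg v hv).eq.symm
      · rw [Subgroup.mem_centralizer_iff]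
        exact fun v hv => (c.commute_of_locP D.ne hbp D.L hP hg hv).eq.symm
    intro g hg v hv
    exact ((Subgroup.mem_centralizer_iff.mp (h1 hg)) v hv).symm
  -- `T`
  set T : Subgroup H := (S ⊓ MulAction.stabilizer G b).subgroupOf H with hT
  have hTm : ∀ t : H, t ∈ T ↔ (t : G) ∈ S ∧ (t : G) • b = b := by
    intro t
    constructor
    · rintro ⟨h1, h2⟩; exact ⟨h1, h2⟩
    · rintro ⟨h1, h2⟩; exact ⟨h1, h2⟩
  have hT2 : IsPGroup 2 T := by
    have h1 : IsPGroup 2 (S ⊓ MulAction.stabilizer G b : Subgroup G) := hS2.to_le inf_le_left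
    exact h1.comap_subtype
  have hTa : ∀ t ∈ T, (t : G) • a = a := fun t ht => hSa _ ((hTm t).mp ht).1
  have hTb : ∀ t ∈ T, (t : G) • b = b := fun t ht => ((hTm t).mp ht).2
  have hTV : ∀ t ∈ T, ∀ v ∈ V a, Commute (t : G) v := fun t ht => hSV _ ((hTm t).mp ht).1
  have hbH : V b ≤ H := c.V_le_u hs D.fb
  -- the homomorphism on `X`
  let f : X →* Equiv.Perm (pts Ω z H) := (rho Ω z H).comp (Subgroup.inclusion hXH)
  have hf : ∀ x : X, f x = rho Ω z H ⟨x, hXH x.2⟩ := fun x => rfl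
  have hE : ∀ t ∈ T.map (rho Ω z H), ∀ e ∈ ((V a).subgroupOf H).map (rho Ω z H), Commute t e := by
    rintro _ ⟨t, ht, rfl⟩ e he
    obtain ⟨x, hx, rfl⟩ := exists_of_mem_E he
    have h1 : Commute t x := Subtype.ext (hTV t ht _ hx)
    exact h1.map (rho Ω z H)
  have hfin : Finite f.range := Finite.of_surjective f.rangeRestrict f.rangeRestrict_surjective
  have hor := D.L.qe.card_le_or (X := f.range) (T := T.map (rho Ω z H))
    (by
      rintro _ ⟨x, rfl⟩ _ ⟨y, rfl⟩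
      have h1 : Commute x y := Subtype.ext (hXc x x.2 y y.2)
      exact h1.map f)
    (by
      rintro _ ⟨t, ht, rfl⟩ x hx
      exact D.L.norm t (hTa t ht) x hx)
    hE
    (by
      rintro _ ⟨x, rfl⟩
      have hxb : (x : G) • b ∈ pts Ω z H := (pts Ω z H).smul_mem ⟨x, hXH x.2⟩ hbp
      have hxa : (x : G) • b ≠ a := by
        intro hh
        exact D.ne (smul_left_cancel (x : G) ((hXa x x.2).trans hh.symm))
      obtain ⟨g, hgQ, hg⟩ := D.L.trans b hbp _ hxb (Ne.symm D.ne) hxa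
      obtain ⟨g', hg'P, hg'⟩ := hP.surj _ hgQ
      have h1 : (g' : G) • b = (x : G) • b := by
        rw [← hg]; exact (rho_eq_iff g' g).mp hg' b hbp
      refine ⟨rho Ω z H g', by rw [hg']; exact hgQ, rho Ω z H (g'⁻¹ * ⟨x, hXH x.2⟩),
        ⟨_, (hTm _).mpr ⟨mul_mem (inv_mem (hPS hg'P)) (hXS x.2), ?_⟩, rfl⟩, ?_⟩
      · show ((g' : G)⁻¹ * x) • b = b
        rw [mul_smul, ← h1, inv_smul_smul]
      · rw [hf, ← map_mul, mul_inv_cancel_left])
    (by
      rintro _ hxQ ⟨t, ht, rfl⟩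
      exact D.L.reg t hxQ b hbp (Ne.symm D.ne) (hTb t ht))
    (by
      rintro _ ⟨t, ht, rfl⟩ _ ⟨t', ht', rfl⟩ h1 h1'
      rw [← map_mul]
      exact c.T2 D.ne hbH D.L D.Y hT2 hTa hTb hTV ht ht' h1 h1')
    (by
      rintro _ ⟨t, ht, rfl⟩ h1
      have htt : rho Ω z H t * rho Ω z H t = 1 := by
        rw [← map_mul]; exact c.T2 D.ne hbH D.L D.Y hT2 hTa hTb hTV ht ht h1 h1
      refine c.T3 D.ne hbH D.L D.Y (TwoElt.coe.mpr (TwoElt.of_mem hT2 ht)) (hTa t ht) (hTb t ht)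
        (hTV t ht) (fun x _ => by rw [htt]; exact Commute.one_left x) ?_
      by_contra hcon
      push Not at hcon
      exact h1 (D.L.eq_one_of_commute hbp (Ne.symm D.ne) (hTa t ht) (hTb t ht) hcon))
  -- elements of `X` acting trivially
  have hF : ∀ x ∈ X, (∀ p : Ω, s • p = p → x • p = p) → x = 1 ∨ x = s := by
    intro x hx hxp
    by_cases hx1 : x = 1
    · exact Or.inl hx1
    right
    have h1 := D.T1 c (F := X ⊓ (rho Ω z H).ker.map H.subtype) (hX2.to_le inf_le_left)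
      (by
        rintro f ⟨-, ⟨t, ht, rfl⟩⟩ p hp
        exact (rho_eq_one_iff t).mp ht p ((c.mem_pts_u hs).mpr hp))
      x (Subgroup.mem_inf.mpr ⟨hx, ⟨⟨x, hXH hx⟩, (rho_eq_one_iff _).mpr
        (fun p hp => hxp p ((c.mem_pts_u hs).mp hp)), rfl⟩⟩)
      s (Subgroup.mem_inf.mpr ⟨hsX, ⟨⟨s, hXH hsX⟩, (rho_eq_one_iff _).mpr
        (fun p hp => (c.mem_pts_u hs).mp hp), rfl⟩⟩) hx1 hs.ne_one
    rw [mul_eq_one_iff_eq_inv, hs.inv_eq] at h1
    exact h1
  rcases hor with hor | hor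
  · left
    intro x hx hxx
    have h1 : f ⟨x, hx⟩ * f ⟨x, hx⟩ = 1 := by
      rw [← map_mul, show (⟨x, hx⟩ * ⟨x, hx⟩ : X) = 1 from Subtype.ext hxx, map_one]
    obtain ⟨v, hv, hvx⟩ := exists_of_mem_E (hor _ ⟨_, rfl⟩ h1)
    have h2 := (rho_eq_iff _ _).mp (hvx.trans (hf ⟨x, hx⟩))
    have h3 : ∀ p : Ω, s • p = p → ((v : G)⁻¹ * x) • p = p := by
      intro p hp
      have h4 : (v : G) • p = x • p := h2 p ((c.mem_pts_u hs).mpr hp)
      rw [mul_smul, ← h4, inv_smul_smul]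
    rcases hF _ (mul_mem (inv_mem (hVX hv)) hx) h3 with h4 | h4
    · left
      rw [← inv_mul_eq_one.mp h4]
      exact hv
    · exact Or.inr ⟨v, hv, (inv_mul_eq_iff_eq_mul.mp h4).symm⟩
  · right
    have h1 : Nat.card f.ker ≤ 2 := by
      have h2 : ((f.ker : Set X)) ⊆ {1, ⟨s, hsX⟩} := by
        intro x hx
        have h3 : rho Ω z H ⟨x, hXH x.2⟩ = 1 := hx
        rcases hF x x.2 (fun p hp => (rho_eq_one_iff _).mp h3 p ((c.mem_pts_u hs).mpr hp))
          with h4 | h4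
        · exact Or.inl (Subtype.ext h4)
        · exact Or.inr (Subtype.ext h4)
      have h3 := Set.ncard_le_ncard h2 (Set.toFinite _)
      have h4 : Nat.card f.ker = (f.ker : Set X).ncard := rfl
      rw [h4]
      refine h3.trans ((Set.ncard_insert_le _ _).trans ?_)
      rw [Set.ncard_singleton]
    rw [← Subgroup.card_mul_index f.ker, Subgroup.index_ker]
    exact Nat.mul_le_mul h1 hor

/-- no large abelian group `X` -/
theorem Ctx.false_of_abelian [Finite G] (c : Ctx Ω z V k) {a : Ω} {X : Subgroup G}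
    (hVX : V a ≤ X) (hXa : ∀ x ∈ X, x • a = a) (hXc : ∀ x ∈ X, ∀ y ∈ X, Commute x y)
    (hXsq : ∀ x ∈ X, x * x ∈ V a) (hX : 4 * (2 ^ k) ^ 2 ≤ Nat.card X)
    (hI : 4 * 2 ^ k ≤ Nat.card {i : G // i ∈ X ∧ i * i = 1}) : False := by
  classical
  have hX2 : IsPGroup 2 X := by
    intro x
    refine ⟨2, Subtype.ext ?_⟩
    have h1 := c.sq_V (hXsq x x.2)
    show (x : G) ^ 2 ^ 2 = 1
    rw [pow_two 2, pow_mul, pow_two, pow_two]
    exact h1
  have hVc : Nat.card (V a) = (V a : Set G).ncard := rfl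
  have hq := c.two_le_q
  have hIc : 4 * 2 ^ k ≤ ({i : G | i ∈ X ∧ i * i = 1} : Set G).ncard := hI
  -- `s ∈ I`, `s ∉ V_a`
  obtain ⟨s, ⟨hsX, hss⟩, hsV⟩ : ∃ s ∈ ({i : G | i ∈ X ∧ i * i = 1} : Set G), s ∉ V a := by
    by_contra hcon
    push Not at hcon
    have h1 : ({i : G | i ∈ X ∧ i * i = 1} : Set G) ⊆ (V a : Set G) := hcon
    have h2 := Set.ncard_le_ncard h1 (Set.toFinite _)
    rw [← hVc, c.card_V a] at h2
    omega
  have hs1 : s ≠ 1 := by
    rintro rfl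
    exact hsV (one_mem _)
  have hs : Bad Ω s := by
    rcases isConj_or_bad c.setup c.faithful (orderOf_eq_two_of_mul_self hss hs1) with h1 | h1
    · exact absurd (c.mem_V_of ⟨h1, hXa s hsX⟩) hsV
    · exact h1
  have hXH : X ≤ Subgroup.centralizer ({s} : Set G) := fun x hx =>
    mem_cen.mpr (hXc x hx s hsX)
  rcases c.card_le_or hX2 hXa (fun x hx v hv => hXc x hx v (hVX hv)) hXc hVX hs hsX hXH
    with h1 | h1
  · have h2 : ({i : G | i ∈ X ∧ i * i = 1} : Set G) ⊆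
        (V a : Set G) ∪ (fun v => v * s) '' (V a : Set G) := by
      rintro i ⟨hi, hii⟩
      rcases h1 i hi hii with h3 | ⟨v, hv, h3⟩
      · exact Or.inl h3
      · exact Or.inr ⟨v, hv, h3⟩
    have h3 := (Set.ncard_le_ncard h2 (Set.toFinite _)).trans (Set.ncard_union_le _ _)
    have h4 := Set.ncard_image_le (f := fun v => v * s) (Set.toFinite (V a : Set G))
    rw [← hVc, c.card_V a] at h3 h4
    omega
  · have h2 : 4 * (2 ^ k) ^ 2 ≤ 2 * (2 * 2 ^ k) := hX.trans h1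
    have h3 : (2 ^ k) ^ 2 = 2 ^ k * 2 ^ k := pow_two _
    have h4 : 4 * 2 ^ k ≤ 2 ^ k * 2 ^ k := Nat.mul_le_mul_right _ hq
    omega

end Cfsg.Agent.AschCrit.CommFive
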