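import Cfsg.Agent.AschCrit.CommFive.Bridge
import Cfsg.Agent.AschCrit.CommFive.Ctx
import Cfsg.Agent.AschCrit.CommCase

/-!
# Aschbacher's criterion, commutative case (C5): final form

`exists_ctx` : the context `Ctx` from `CommCase.CaseHyp`.
-/

set_option autoImplicit false

universe u

namespace Cfsg.Agent.AschCrit.CommFive

open Cfsg.Agent.TwoFusion.StronglyEmbeddedBasic Cfsg.Agent.AschCrit.Basic
open Cfsg.Agent.AschCrit.Basic.Setup Cfsg.Agent.AschCrit.Closed Cfsg.Agent.AschCrit.Descent
open Cfsg.Agent.AschCrit.NonIso Cfsg.Agent.AschCrit.CommTypes Cfsg.Agent.AschCrit.CommFrame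
open Cfsg.Agent.AschCrit.CommCase

/-- the context of (C5) -/
theorem exists_ctx {G Ω : Type u} [Group G] [Finite G] [MulAction G Ω] {z : G} {k : ℕ}
    (hC : CaseHyp G Ω z k 3) (hat : ∀ a : Ω, Nat.card (At z a) + 1 = 2 ^ k) :
    Ctx Ω z (fun a => vGrp hC.setup hC.faithful hC.comm a) k := by
  have hV : ∀ a x, x ∈ vGrp hC.setup hC.faithful hC.comm a ↔ x = 1 ∨ x ∈ At z a :=
    fun a x => mem_vGrp hC.setup hC.faithful hC.comm
  have hcV : ∀ a, Nat.card (vGrp hC.setup hC.faithful hC.comm a) = 2 ^ k := by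
    intro a
    rw [card_V hC.setup (hV a), hat a]
  refine
    { setup := hC.setup
      faithful := hC.faithful
      nonIso := hC.nonIso
      mem_V := hV
      two_le := hC.two_le
      card_V := hcV
      bad := ?_
      fix := hC.card_fix
      loc := ?_ }
  · intro u a hu hua x hx
    rcases (hV a x).mp hx with rfl | hx
    · exact Commute.one_right u
    · have h1 : AtC z u a ⊆ At z a := fun d hd => hd.1
      have hfin : (At z a).Finite := Set.toFinite _
      have h2 : (AtC z u a).ncard = (At z a).ncard := by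
        have h3 := hC.card_atC u hu a hua
        have h4 := hat a
        rw [Nat.card_coe_set_eq] at h3 h4
        omega
      have h3 := Set.eq_of_subset_of_ncard_le h1 h2.ge hfin
      have h4 : x ∈ AtC z u a := by rw [h3]; exact hx
      exact h4.2.symm
  · rintro H a hH haH ⟨b, hba, hbH⟩ hpts
    obtain ⟨Q, hQ, hY⟩ := exists_local hC.noBadBelow hC.bender hC.setup hV (Ne.symm hba) hH haH hbH
      hC.two_le (hcV a) hpts
    exact ⟨Q, hQ, fun c hca hcH => hY c (Ne.symm hca) hcH⟩

/-- **Case (C5)** from the falsity of the context -/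
theorem caseFive_of_false
    (hfalse : ∀ (G Ω : Type u) [Group G] [Finite G] [MulAction G Ω] (z : G) (V : Ω → Subgroup G)
      (k : ℕ), Ctx Ω z V k → ∀ u : G, Bad Ω u → False)
    (G Ω : Type u) [Group G] [Finite G] [MulAction G Ω] (z : G) (k : ℕ)
    (hC : CaseHyp G Ω z k 3) (hat : ∀ a : Ω, Nat.card (At z a) + 1 = 2 ^ k) : False := by
  obtain ⟨u, hu⟩ := hC.exists_bad
  exact hfalse G Ω z _ k (exists_ctx hC hat) u hu

end Cfsg.Agent.AschCrit.CommFive
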