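import Cfsg.Agent.AschCrit.CommFive.PU

/-!
# Aschbacher's criterion, commutative case (C5): the group `P̂ = P_u ⟨u⟩`

* `QE.exists_comm` : every element of `Q` is `g⁻¹ (y g y⁻¹) e`
* `UD.kappa` : a 2-element of `C(u)` fixing all fixed points of `u` is `1` or `u`
* `HatD` : the properties of `P̂`
* `UD.exists_hat` : existence of `P̂`
-/

set_option autoImplicit false

namespace Cfsg.Agent.AschCrit.CommFive

open Cfsg.Agent.TwoFusion.StronglyEmbeddedBasic Cfsg.Agent.AschCrit.Basic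
open Cfsg.Agent.AschCrit.Basic.Setup Cfsg.Agent.AschCrit.Closed Cfsg.Agent.AschCrit.Descent
open Cfsg.Agent.AschCrit.NonIso

section qlevel

variable {Γ : Type*} [Group Γ] {Q E : Subgroup Γ} {k : ℕ}

/-- every element of `Q` is of the form `g⁻¹ (y g y⁻¹) e` -/
theorem QE.exists_comm (h : QE Q E k) {y : Γ} (hy : YE Q E y) {x : Γ} (hx : x ∈ Q) :
    ∃ g ∈ Q, ∃ e ∈ E, x = g⁻¹ * (y * g * y⁻¹) * e := by
  have hfQ : Finite Q := h.fin
  set N := E.subgroupOf Q with hN
  let F : Q ⧸ N → Q ⧸ N := Quotient.map'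
    (fun x : Q => (⟨(x : Γ)⁻¹ * (y * x * y⁻¹), mul_mem (inv_mem x.2) (hy.norm x x.2)⟩ : Q)) (by
      rintro ⟨x, hx⟩ ⟨x', hx'⟩ hxy
      rw [QuotientGroup.leftRel_apply] at hxy ⊢
      have h1 : x⁻¹ * x' ∈ E := hxy
      show (x⁻¹ * (y * x * y⁻¹))⁻¹ * (x'⁻¹ * (y * x' * y⁻¹)) ∈ E
      obtain ⟨e, he, rfl⟩ : ∃ e ∈ E, x' = x * e := ⟨_, h1, by group⟩
      have h2 : y * e * y⁻¹ = e := by rw [(hy.comm e he).eq, mul_inv_cancel_right]
      have h3 : (x⁻¹ * (y * x * y⁻¹))⁻¹ * ((x * e)⁻¹ * (y * (x * e) * y⁻¹)) =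
          (x⁻¹ * (y * x * y⁻¹))⁻¹ * (e⁻¹ * (x⁻¹ * (y * x * y⁻¹))) * (y * e * y⁻¹) := by group
      have h4 := (h.central e⁻¹ (inv_mem he) _ (mul_mem (inv_mem hx) (hy.norm x hx))).eq
      rw [h3, h2, h4, inv_mul_cancel_left, inv_mul_cancel]
      exact one_mem E)
  have hFmk : ∀ x : Q, F (QuotientGroup.mk x) = QuotientGroup.mk
      (⟨(x : Γ)⁻¹ * (y * x * y⁻¹), mul_mem (inv_mem x.2) (hy.norm x x.2)⟩ : Q) := fun _ => rfl
  have hinj : Function.Injective F := by
    intro b b'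
    induction b using QuotientGroup.induction_on with
    | H g =>
      induction b' using QuotientGroup.induction_on with
      | H g' =>
        intro hgg
        rw [hFmk, hFmk, QuotientGroup.eq] at hgg
        have h1 : ((g : Γ)⁻¹ * (y * g * y⁻¹))⁻¹ * ((g' : Γ)⁻¹ * (y * g' * y⁻¹)) ∈ E := hgg
        rw [QuotientGroup.eq]
        show (g : Γ)⁻¹ * g' ∈ E
        -- `x = g' g⁻¹`
        have h2 : (g' : Γ) * (g : Γ)⁻¹ ∈ E := by
          apply YE.mem_of h hy (mul_mem g'.2 (inv_mem g.2))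
          set d := (g : Γ)⁻¹ * (y * g * y⁻¹) with hd
          set e := d⁻¹ * ((g' : Γ)⁻¹ * (y * g' * y⁻¹)) with he
          have h3 : y * (g' : Γ) * y⁻¹ = g' * (d * e) := by rw [he]; group
          have h4 : y * (g : Γ) * y⁻¹ = g * d := by rw [hd]; group
          have hdQ : d ∈ Q := mul_mem (inv_mem g.2) (hy.norm g g.2)
          have h5 := (h.central e h1 (d⁻¹ * (g : Γ)⁻¹)
            (mul_mem (inv_mem hdQ) (inv_mem g.2))).eq
          have h6 : y * ((g' : Γ) * (g : Γ)⁻¹) * y⁻¹ = (y * (g' : Γ) * y⁻¹) * (y * (g : Γ) * y⁻¹)⁻¹ := by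
            group
          rw [h6, h3, h4]
          have h7 : ((g' : Γ) * (g : Γ)⁻¹)⁻¹ * (g' * (d * e) * (g * d)⁻¹) =
              g * d * (e * (d⁻¹ * (g : Γ)⁻¹)) := by group
          rw [h7, h5]
          have h8 : (g : Γ) * d * (d⁻¹ * (g : Γ)⁻¹ * e) = e := by group
          rw [h8]; exact h1
        have h9 := (h.central _ h2 g g.2).eq
        have h10 : (g : Γ)⁻¹ * g' = (g : Γ)⁻¹ * (g' * (g : Γ)⁻¹ * g) := by group
        rw [h10, h9, inv_mul_cancel_left]
        exact h2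
  have hsurj := Finite.surjective_of_injective hinj
  obtain ⟨b, hb⟩ := hsurj (QuotientGroup.mk ⟨x, hx⟩)
  revert hb
  induction b using QuotientGroup.induction_on with
  | H g =>
    intro hb
    rw [hFmk, QuotientGroup.eq] at hb
    have h1 : ((g : Γ)⁻¹ * (y * g * y⁻¹))⁻¹ * x ∈ E := hb
    exact ⟨g, g.2, _, h1, by group⟩

/-- a 2-element of `Q W`, `W` an odd group normalising `Q`, is in `Q` -/
theorem mem_of_twoElt_mul {Q W : Subgroup Γ} (hQ : IsPGroup 2 Q)
    (hW : ∀ w ∈ W, Odd (orderOf w)) (hWQ : ∀ w ∈ W, ∀ x ∈ Q, w * x * w⁻¹ ∈ Q) {x w : Γ}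
    (hx : x ∈ Q) (hw : w ∈ W) (hxw : TwoElt (x * w)) : x * w ∈ Q := by
  have key : ∀ m : ℕ, (x * w) ^ m * (w ^ m)⁻¹ ∈ Q := by
    intro m
    induction m with
    | zero => simp [one_mem]
    | succ m ih =>
      have h1 : (x * w) ^ (m + 1) * (w ^ (m + 1))⁻¹ =
          ((x * w) ^ m * (w ^ m)⁻¹) * (w ^ m * x * (w ^ m)⁻¹) := by
        rw [pow_succ, pow_succ]; group
      rw [h1]
      exact mul_mem ih (hWQ _ (pow_mem hw m) x hx)
  obtain ⟨n, hn⟩ := hxw
  have h1 := key (2 ^ n)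
  rw [← hn, pow_orderOf_eq_one, one_mul, hn] at h1
  have h2 : w ^ 2 ^ n ∈ Q := by
    have := inv_mem h1
    rwa [inv_inv] at this
  have h3 : w ^ 2 ^ n = 1 := (TwoElt.of_mem hQ h2).eq_one (hW _ (pow_mem hw _))
  have h4 : orderOf w ∣ 2 ^ n := orderOf_dvd_of_pow_eq_one h3
  obtain ⟨j, -, hj⟩ := (Nat.dvd_prime_pow Nat.prime_two).mp h4
  have h5 : w = 1 := TwoElt.eq_one ⟨j, hj⟩ (hW w hw)
  rw [h5, mul_one]; exact hx

/-- the group generated by two commuting 2-elements -/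
theorem exists_two_group {g u : Γ} (hg : TwoElt g) (hu : TwoElt u) (hgu : Commute g u) :
    ∃ F : Subgroup Γ, IsPGroup 2 F ∧ g ∈ F ∧ u ∈ F ∧
      ∀ K : Subgroup Γ, g ∈ K → u ∈ K → F ≤ K := by
  refine ⟨Subgroup.closure {g, u}, isPGroup_of_twoElt ?_, Subgroup.subset_closure (by simp),
    Subgroup.subset_closure (by simp), ?_⟩
  · have h1 : ∀ x ∈ Subgroup.closure ({g, u} : Set Γ), Commute x g ∧ Commute x u := by
      intro x hx
      induction hx using Subgroup.closure_induction with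
      | mem x hx =>
        rcases hx with rfl | rfl
        · exact ⟨Commute.refl _, hgu⟩
        · exact ⟨hgu.symm, Commute.refl _⟩
      | one => exact ⟨Commute.one_left _, Commute.one_left _⟩
      | mul x y _ _ hx hy => exact ⟨hx.1.mul_left hy.1, hx.2.mul_left hy.2⟩
      | inv x _ hx => exact ⟨hx.1.inv_left, hx.2.inv_left⟩
    have h2 : ∀ x ∈ Subgroup.closure ({g, u} : Set Γ), ∀ x' ∈ Subgroup.closure ({g, u} : Set Γ),
        Commute x x' := by
      intro x hx x' hx'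
      induction hx' using Subgroup.closure_induction with
      | mem x' hx' =>
        rcases hx' with rfl | rfl
        · exact (h1 x hx).1
        · exact (h1 x hx).2
      | one => exact Commute.one_right _
      | mul x' y' _ _ hx' hy' => exact hx'.mul_right hy'
      | inv x' _ hx' => exact hx'.inv_right
    intro x hx
    induction hx using Subgroup.closure_induction with
    | mem x hx =>
      rcases hx with rfl | rfl
      · exact hg
      · exact hu
    | one => exact TwoElt.one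
    | mul x y hx' hy' hx hy => exact hx.mul hy (h2 x hx' y hy')
    | inv x _ hx => exact hx.inv
  · intro K h1 h2
    rw [Subgroup.closure_le]
    rintro x (rfl | rfl)
    · exact h1
    · exact h2

end qlevel

variable {G Ω : Type*} [Group G] [MulAction G Ω] {z : G} {V : Ω → Subgroup G} {k : ℕ}

theorem LocQ.fix_a {H : Subgroup G} {a : Ω} {Va : Subgroup G}
    {Q : Subgroup (Equiv.Perm (pts Ω z H))} (L : LocQ Ω z H a Va k Q) (ha : a ∈ pts Ω z H)
    {g : H} (hg : rho Ω z H g ∈ Q) : (g : G) • a = a := by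
  obtain ⟨g', -, hg', h1⟩ := L.lift _ hg
  exact ((rho_eq_iff g' g).mp h1 a ha).symm.trans hg'

theorem LocQ.isPGroup {H : Subgroup G} {a : Ω} {Va : Subgroup G}
    {Q : Subgroup (Equiv.Perm (pts Ω z H))} (L : LocQ Ω z H a Va k Q) : IsPGroup 2 Q := by
  have hfQ : Finite Q := L.qe.fin
  refine IsPGroup.of_card (n := k * 3) ?_
  rw [L.qe.card_Q, pow_mul]

/-- `P̂` : all 2-elements of `C(u)_a` inducing elements of `Q` -/
structure HatD (Ω : Type*) [MulAction G Ω] (z : G) (V : Ω → Subgroup G) (u : G) (a : Ω)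
    (Q : Subgroup (Equiv.Perm (pts Ω z (Subgroup.centralizer ({u} : Set G)))))
    (P : Subgroup G) : Prop where
  mem : ∀ g : G, g ∈ P ↔ ∃ hg : g ∈ Subgroup.centralizer ({u} : Set G), g • a = a ∧ TwoElt g ∧
    rho Ω z (Subgroup.centralizer ({u} : Set G)) ⟨g, hg⟩ ∈ Q
  surj : ∀ x ∈ Q, ∃ g : Subgroup.centralizer ({u} : Set G), (g : G) ∈ P ∧ rho Ω z _ g = x
  comm : ∀ g ∈ P, ∀ v ∈ V a, Commute g v
  ker : ∀ g : Subgroup.centralizer ({u} : Set G), (g : G) ∈ P → rho Ω z _ g = 1 →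
    (g : G) = 1 ∨ (g : G) = u
  two : IsPGroup 2 P
  u_mem : u ∈ P
  V_le : V a ≤ P

namespace UD

variable {u : G} {a b : Ω}
  {Q : Subgroup (Equiv.Perm (pts Ω z (Subgroup.centralizer ({u} : Set G))))}
  {y : Subgroup.centralizer ({u} : Set G)}
  {W : Subgroup (Equiv.Perm (pts Ω z (Subgroup.centralizer ({u} : Set G))))}

set_option quotPrecheck false in
local notation "Hu" => Subgroup.centralizer ({u} : Set G)

/-- a 2-element of `C(u)` fixing all fixed points of `u` is `1` or `u` -/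
theorem kappa [Finite G] (D : UD Ω z V k u a b Q y W) (c : Ctx Ω z V k) {g : G} (hg : TwoElt g)
    (hgu : Commute g u) (hfix : ∀ p : Ω, u • p = p → g • p = p) : g = 1 ∨ g = u := by
  obtain ⟨F, hF, hgF, huF, hle⟩ := exists_two_group hg (TwoElt.of_mul_self D.bad.mul_self) hgu
  by_cases h1 : g = 1
  · exact Or.inl h1
  right
  have h2 := D.T1 c hF (by
    intro f hf p hp
    have h3 : F ≤ MulAction.stabilizer G p := hle _ (hfix p hp) hp
    exact h3 hf) g hgF u huF h1 D.bad.ne_one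
  rw [← D.bad.inv_eq]
  exact eq_inv_of_mul_eq_one_left h2

theorem exists_hat [Finite G] (D : UD Ω z V k u a b Q y W) (c : Ctx Ω z V k) :
    ∃ P : Subgroup G, HatD Ω z V u a Q P := by
  have hap : a ∈ pts Ω z Hu := (c.mem_pts_u D.bad).mpr D.fa
  have hbp : b ∈ pts Ω z Hu := (c.mem_pts_u D.bad).mpr D.fb
  obtain ⟨Pu, hP⟩ := D.L.exists_P c.setup c.mem_V D.ne hap hbp
  have huu := D.bad.mul_self
  have hPH : ∀ g ∈ Pu, g ∈ Hu := fun g hg => ((hP.mem g).mp hg).1
  have hcu : ∀ g ∈ Pu, Commute u g := fun g hg => (mem_cen.mp (hPH g hg)).symm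
  have huH : u ∈ Hu := mem_cen.mpr (Commute.refl u)
  have hrhou : rho Ω z Hu ⟨u, huH⟩ = 1 :=
    (rho_eq_one_iff _).mpr (fun p hp => (c.mem_pts_u D.bad).mp hp)
  have hPV : ∀ g ∈ Pu, ∀ v ∈ V a, Commute g v := by
    intro g hg v hv
    obtain ⟨hgH, hgD, hga, hg2, hgQ⟩ := (hP.mem g).mp hg
    have hvH : v ∈ Hu := c.V_le_u D.bad D.fa hv
    have h1 := D.L.qe.central _ (mem_E (x := ⟨v, hvH⟩) hv) _ hgQ
    have h2 : rho Ω z Hu (⟨g, hgH⟩ * ⟨v, hvH⟩ * ⟨g, hgH⟩⁻¹ * ⟨v, hvH⟩⁻¹) = 1 := by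
      rw [map_mul, map_mul, map_mul, map_inv, map_inv, h1.eq.symm]; group
    have h3 : ((⟨g, hgH⟩ * ⟨v, hvH⟩ * ⟨g, hgH⟩⁻¹ * ⟨v, hvH⟩⁻¹ : Hu) : G) ∈ V a :=
      mul_mem (c.conj_V' hga hv) (inv_mem hv)
    have h4 := congrArg Subtype.val (c.injV D.ne hbp h3 h2)
    have h5 : g * v * g⁻¹ * v⁻¹ = 1 := h4
    show g * v = v * g
    rw [mul_inv_eq_one] at h5
    exact mul_inv_eq_iff_eq_mul.mp h5
  -- the group `P_u ∪ u P_u`
  let P : Subgroup G :=
    { carrier := {g | g ∈ Pu ∨ u * g ∈ Pu}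
      mul_mem' := by
        rintro g h (hg | hg) (hh | hh)
        · exact Or.inl (mul_mem hg hh)
        · right
          have h1 : u * (g * h) = g * (u * h) := by
            rw [← mul_assoc, (hcu g hg).eq, mul_assoc]
          rw [h1]; exact mul_mem hg hh
        · right
          rw [← mul_assoc]; exact mul_mem hg hh
        · left
          have h1 : g * h = (u * g) * (u * h) := by
            have h2 := (hcu _ hg).eq
            calc g * h = (u * u) * g * h := by rw [huu, one_mul]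
              _ = (u * (u * g)) * h := by group
              _ = ((u * g) * u) * h := by rw [h2]
              _ = _ := by group
          rw [h1]; exact mul_mem hg hh
      one_mem' := Or.inl (one_mem _)
      inv_mem' := by
        rintro g (hg | hg)
        · exact Or.inl (inv_mem hg)
        · right
          have h2 := (hcu _ hg).eq
          have h1 : u * g⁻¹ = (u * g)⁻¹ := by
            have h3 : g * u⁻¹ = u * g := by
              rw [D.bad.inv_eq]
              calc g * u = (u * u) * g * u := by rw [huu, one_mul]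
                _ = u * ((u * g) * u) := by group
                _ = u * (u * (u * g)) := by rw [h2]
                _ = (u * u) * (u * g) := by group
                _ = u * g := by rw [huu, one_mul]
            rw [← h3]; group
          rw [h1]; exact inv_mem hg }
  have hmemP : ∀ g, g ∈ P ↔ g ∈ Pu ∨ u * g ∈ Pu := fun g => Iff.rfl
  have hmem : ∀ g : G, g ∈ P ↔ ∃ hg : g ∈ Hu, g • a = a ∧ TwoElt g ∧
      rho Ω z Hu ⟨g, hg⟩ ∈ Q := by
    intro g
    rw [hmemP]
    constructor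
    · rintro (hg | hg)
      · obtain ⟨hgH, hgD, hga, hg2, hgQ⟩ := (hP.mem g).mp hg
        exact ⟨hgH, hga, hg2, hgQ⟩
      · obtain ⟨hgH, hgD, hga, hg2, hgQ⟩ := (hP.mem _).mp hg
        have h1 : g = u * (u * g) := by rw [← mul_assoc, huu, one_mul]
        have h2 : g ∈ Hu := by rw [h1]; exact mul_mem huH hgH
        refine ⟨h2, ?_, ?_, ?_⟩
        · rw [h1, mul_smul, hga, D.fa]
        · rw [h1]
          exact (TwoElt.of_mul_self huu).mul hg2 (hcu _ hg)
        · have h3 : rho Ω z Hu (⟨u, huH⟩ * ⟨g, h2⟩) ∈ Q := hgQ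
          rw [map_mul, hrhou, one_mul] at h3
          exact h3
    · rintro ⟨hgH, hga, hg2, hgQ⟩
      obtain ⟨p, hp, hpg⟩ := hP.surj _ hgQ
      obtain ⟨hpH, hpD, hpa, hp2, hpQ⟩ := (hP.mem _).mp hp
      have h1 : rho Ω z Hu (p⁻¹ * ⟨g, hgH⟩) = 1 := by rw [map_mul, map_inv, hpg, inv_mul_cancel]
      have h2 : ∀ q : Ω, u • q = q → ((p : G)⁻¹ * g) • q = q := fun q hq =>
        (rho_eq_one_iff _).mp h1 q ((c.mem_pts_u D.bad).mpr hq)
      have h3 : Commute ((p : G)⁻¹ * g) p := D.commute_of_fix c h2 hpD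
      have h4 : Commute (p : G) g := by
        have h5 : Commute g (p : G) := by
          have h6 : g = p * ((p : G)⁻¹ * g) := by group
          rw [h6]; exact (Commute.refl (p : G)).mul_left h3
        exact h5.symm
      have h5 : TwoElt ((p : G)⁻¹ * g) := hp2.inv.mul hg2 h4.inv_left
      have h6 : Commute ((p : G)⁻¹ * g) u :=
        (mem_cen.mp (mul_mem (inv_mem hpH) hgH))
      rcases D.kappa c h5 h6 h2 with h7 | h7
      · left
        rw [← inv_mul_eq_one.mp h7]; exact hp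
      · right
        have h8 : g = p * u := inv_mul_eq_iff_eq_mul.mp h7
        rw [h8, (mem_cen.mp hpH).eq, ← mul_assoc, huu, one_mul]
        exact hp
  refine ⟨P, hmem, ?_, ?_, ?_, ?_, ?_, ?_⟩
  · intro x hx
    obtain ⟨p, hp, hpx⟩ := hP.surj x hx
    exact ⟨p, Or.inl hp, hpx⟩
  · rintro g (hg | hg) v hv
    · exact hPV g hg v hv
    · have h1 : g = u * (u * g) := by rw [← mul_assoc, huu, one_mul]
      rw [h1]
      exact (c.bad u a D.bad D.fa v hv).mul_left (hPV _ hg v hv)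
  · intro g hg h1
    obtain ⟨-, -, hg2, -⟩ := (hmem _).mp hg
    exact D.kappa c hg2 (mem_cen.mp g.2)
      (fun p hp => (rho_eq_one_iff g).mp h1 p ((c.mem_pts_u D.bad).mpr hp))
  · exact isPGroup_of_twoElt (fun g hg => ((hmem g).mp hg).2.2.1)
  · right
    rw [huu]; exact one_mem _
  · intro v hv
    refine Or.inl ((hP.mem v).mpr ⟨c.V_le_u D.bad D.fa hv, c.V_le_DCl (c.V_le_u D.bad D.fa) hv,
      c.fix_V hv, TwoElt.of_mul_self (c.sq_V hv), ?_⟩)
    exact D.L.qe.le (mem_E (x := ⟨v, c.V_le_u D.bad D.fa hv⟩) hv)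

end UD

end Cfsg.Agent.AschCrit.CommFive
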