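import Cfsg.Agent.AschCrit.CommFive.Hat

/-!
# Aschbacher's criterion, commutative case (C5): the groups `A` and `P`

* `AD`, `UD.exists_A` : the abelian group `A ≤ P_U` of order `q²` inverted by `u`
* `UD.hat_conj` : `A` normalises `P̂`
* `UD.exists_AP` : the group `P = C_{P̂}(A)` of order `q³`
-/

set_option autoImplicit false

namespace Cfsg.Agent.AschCrit.CommFive

open Cfsg.Agent.TwoFusion.StronglyEmbeddedBasic Cfsg.Agent.AschCrit.Basic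
open Cfsg.Agent.AschCrit.Basic.Setup Cfsg.Agent.AschCrit.Closed Cfsg.Agent.AschCrit.Descent
open Cfsg.Agent.AschCrit.NonIso

variable {G Ω : Type*} [Group G] [MulAction G Ω] {z : G} {V : Ω → Subgroup G} {k : ℕ}

/-- the abelian group `A` inverted by `u` -/
structure AD (Ω : Type*) [MulAction G Ω] (V : Ω → Subgroup G) (k : ℕ) (u : G) (a : Ω) (y : G)
    (A : Subgroup G) : Prop where
  two : IsPGroup 2 A
  V_le : V a ≤ A
  card : Nat.card A = (2 ^ k) ^ 2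
  sq : ∀ x ∈ A, x * x ∈ V a
  inv : ∀ x ∈ A, x * x = 1 → x ∈ V a
  fa : ∀ x ∈ A, x • a = a
  cy : ∀ x ∈ A, Commute x y
  cV : ∀ x ∈ A, ∀ v ∈ V a, Commute x v
  cu : ∀ x ∈ A, Commute u x → x ∈ V a
  conj_u : ∀ x ∈ A, x * u * x⁻¹ = x * x * u
  comm : ∀ x ∈ A, ∀ x' ∈ A, Commute x x'
  norm : ∀ g : G, Commute g y → Commute g u → g • a = a → ∀ x ∈ A, g * x * g⁻¹ ∈ A

namespace UD

variable {u : G} {a b : Ω}
  {Q : Subgroup (Equiv.Perm (pts Ω z (Subgroup.centralizer ({u} : Set G))))}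
  {y : Subgroup.centralizer ({u} : Set G)}
  {W : Subgroup (Equiv.Perm (pts Ω z (Subgroup.centralizer ({u} : Set G))))}

set_option quotPrecheck false in
local notation "Hu" => Subgroup.centralizer ({u} : Set G)

theorem exists_A [Finite G] (D : UD Ω z V k u a b Q y W) (c : Ctx Ω z V k) :
    ∃ A : Subgroup G, AD Ω V k u a (y : G) A := by
  obtain ⟨PU, hPU⟩ := D.exists_PU c
  have huV : ∀ v ∈ V a, Commute u v := fun v hv => c.bad u a D.bad D.fa v hv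
  have huu := D.bad.mul_self
  obtain ⟨A, hA, hcard, hinv, -⟩ := hPU.qe.inv_struct (t := u)
    (fun x hx => hPU.norm u (commute_y y).symm D.fa x hx) huV
    (fun x _ => by rw [huu]; exact Commute.one_left x) hPU.cu
  have hAP : ∀ x ∈ A, x ∈ PU := fun x hx => ((hA x).mp hx).1
  refine ⟨A, ?_, ?_, hcard, fun x hx => hPU.qe.sq x (hAP x hx),
    fun x hx => hPU.qe.inv x (hAP x hx), fun x hx => hPU.fa x (hAP x hx),
    fun x hx => hPU.cy x (hAP x hx), ?_, fun x hx => hPU.cu x (hAP x hx), ?_, ?_, ?_⟩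
  · exact hPU.two.to_le hAP
  · intro v hv
    refine (hA v).mpr ⟨hPU.qe.le hv, ?_⟩
    rw [(huV v hv).eq, mul_inv_cancel_right, inv_mul_cancel]
    exact one_mem _
  · exact fun x hx v hv => (hPU.qe.central v hv x (hAP x hx)).symm
  · intro x hx
    have h1 := hinv x⁻¹ (inv_mem hx)
    rw [inv_inv] at h1
    have h2 : u * x⁻¹ = x * u := mul_inv_eq_iff_eq_mul.mp h1
    rw [mul_assoc x u, h2, mul_assoc]
  · intro x hx x' hx'
    have h1 := hinv _ (mul_mem hx hx')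
    have h2 : u * (x * x') * u⁻¹ = (u * x * u⁻¹) * (u * x' * u⁻¹) := by group
    rw [h2, hinv x hx, hinv x' hx'] at h1
    have h3 : (x' * x)⁻¹ = (x * x')⁻¹ := by rw [← h1]; group
    exact (inv_injective h3).symm
  · intro g hgy hgu hga x hx
    obtain ⟨h1, h2⟩ := (hA x).mp hx
    refine (hA _).mpr ⟨hPU.norm g hgy hga x h1, ?_⟩
    have h3 : (g * x * g⁻¹)⁻¹ * (u * (g * x * g⁻¹) * u⁻¹) =
        g * (x⁻¹ * (u * x * u⁻¹)) * g⁻¹ := by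
      have h4 : u * g = g * u := hgu.symm.eq
      have h5 : g⁻¹ * u⁻¹ = u⁻¹ * g⁻¹ := by rw [← mul_inv_rev, ← mul_inv_rev, h4]
      calc (g * x * g⁻¹)⁻¹ * (u * (g * x * g⁻¹) * u⁻¹)
          = g * x⁻¹ * g⁻¹ * ((u * g) * x * (g⁻¹ * u⁻¹)) := by group
        _ = g * x⁻¹ * g⁻¹ * ((g * u) * x * (u⁻¹ * g⁻¹)) := by rw [h4, h5]
        _ = _ := by group
    rw [h3]
    exact c.conj_V' hga h2

/-- elements of `C(u)_a` normalise `P̂` -/
theorem hat_norm (D : UD Ω z V k u a b Q y W) {P : Subgroup G} (hP : HatD Ω z V u a Q P) {g : G}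
    (hgu : Commute g u) (hga : g • a = a) {x : G} (hx : x ∈ P) : g * x * g⁻¹ ∈ P := by
  obtain ⟨hxH, hxa, hx2, hxQ⟩ := (hP.mem x).mp hx
  have hgH : g ∈ Hu := mem_cen.mpr hgu
  refine (hP.mem _).mpr ⟨mul_mem (mul_mem hgH hxH) (inv_mem hgH), ?_, hx2.conj g, ?_⟩
  · have h1 : g⁻¹ • a = a := by rw [inv_smul_eq_iff, hga]
    rw [mul_smul, mul_smul, h1, hxa, hga]
  · have h1 := D.L.norm ⟨g, hgH⟩ hga _ hxQ
    rw [← map_inv, ← map_mul, ← map_mul] at h1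
    exact h1

/-- commutators with `y` of 2-power order induce elements of `Q` -/
theorem comm_mem_Q (D : UD Ω z V k u a b Q y W) (c : Ctx Ω z V k)
    {g : Hu} (hga : (g : G) • a = a) (h2 : TwoElt ((g * y * g⁻¹ * y⁻¹ : Hu) : G)) :
    rho Ω z Hu (g * y * g⁻¹ * y⁻¹) ∈ Q := by
  have hap : a ∈ pts Ω z Hu := (c.mem_pts_u D.bad).mpr D.fa
  have hbp : b ∈ pts Ω z Hu := (c.mem_pts_u D.bad).mpr D.fb
  have hgb : (g : G) • b ∈ pts Ω z Hu := (pts Ω z Hu).smul_mem g hbp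
  have hgba : (g : G) • b ≠ a := fun hh => D.ne (smul_left_cancel (g : G) (hga.trans hh.symm))
  obtain ⟨x, hxQ, hxb⟩ := D.L.trans b hbp _ hgb (Ne.symm D.ne) hgba
  have hxa := D.L.fix_a hap hxQ
  set n : Hu := x⁻¹ * g with hn
  have hna : (n : G) • a = a := by
    show ((x : G)⁻¹ * g) • a = a
    rw [mul_smul, hga, inv_smul_eq_iff, hxa]
  have hnb : (n : G) • b = b := by
    show ((x : G)⁻¹ * g) • b = b
    rw [mul_smul, ← hxb, inv_smul_smul]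
  have hw := D.Y.conj_W n hna hnb _ D.Y.mem_W
  set w := rho Ω z Hu n * rho Ω z Hu y * (rho Ω z Hu n)⁻¹ with hwdef
  have h3 : rho Ω z Hu (g * y * g⁻¹ * y⁻¹) =
      (rho Ω z Hu x * (w * (rho Ω z Hu x)⁻¹ * w⁻¹)) * (w * (rho Ω z Hu y)⁻¹) := by
    have h4 : rho Ω z Hu g = rho Ω z Hu x * rho Ω z Hu n := by
      rw [← map_mul, hn, mul_inv_cancel_left]
    rw [map_mul, map_mul, map_mul, map_inv, map_inv, h4, hwdef]
    group
  rw [h3]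
  refine mem_of_twoElt_mul D.L.isPGroup D.Y.odd_W D.Y.norm_W
    (mul_mem hxQ (D.Y.norm_W _ hw _ (inv_mem hxQ))) (mul_mem hw (inv_mem D.Y.mem_W)) ?_
  rw [← h3]
  exact (TwoElt.coe.mp h2).map _

/-- decomposition of the elements of `P̂` -/
theorem hat_decomp (D : UD Ω z V k u a b Q y W) {P : Subgroup G}
    (hP : HatD Ω z V u a Q P) {g : G} (hg : g ∈ P) : ∃ h ∈ P, ∃ v ∈ V a,
      g = h⁻¹ * ((y : G) * h * (y : G)⁻¹) * v ∨ g = h⁻¹ * ((y : G) * h * (y : G)⁻¹) * v * u := by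
  obtain ⟨hgH, hga, hg2, hgQ⟩ := (hP.mem g).mp hg
  obtain ⟨x, hxQ, e, he, hxe⟩ := D.L.qe.exists_comm D.Y.ye hgQ
  obtain ⟨h, hh, hhx⟩ := hP.surj x hxQ
  obtain ⟨v, hv, hve⟩ := exists_of_mem_E he
  have hm : (h : G)⁻¹ * ((y : G) * h * (y : G)⁻¹) * v ∈ P :=
    mul_mem (mul_mem (inv_mem hh) (D.hat_norm hP (commute_y y) D.Y.fix_a hh)) (hP.V_le hv)
  have h1 : rho Ω z Hu ((h⁻¹ * (y * h * y⁻¹) * v)⁻¹ * ⟨g, hgH⟩) = 1 := by
    rw [map_mul, map_inv, hxe, inv_mul_eq_one]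
    simp only [map_mul, map_inv, hhx, hve]
  refine ⟨h, hh, v, hv, ?_⟩
  rcases hP.ker ((h⁻¹ * (y * h * y⁻¹) * v)⁻¹ * ⟨g, hgH⟩) (mul_mem (inv_mem hm) hg) h1 with h2 | h2
  · left
    exact (inv_mul_eq_one.mp h2).symm
  · right
    exact (inv_mul_eq_iff_eq_mul.mp h2)

/-- `A` normalises `P̂` -/
theorem hat_conj [Finite G] (D : UD Ω z V k u a b Q y W) (c : Ctx Ω z V k) {P A : Subgroup G}
    (hP : HatD Ω z V u a Q P) (hA : AD Ω V k u a (y : G) A) {x g : G} (hx : x ∈ A) (hg : g ∈ P) :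
    x * g * x⁻¹ ∈ P := by
  have huH : u ∈ Hu := mem_cen.mpr (Commute.refl u)
  have hrhou : rho Ω z Hu ⟨u, huH⟩ = 1 :=
    (rho_eq_one_iff _).mpr (fun p hp => (c.mem_pts_u D.bad).mp hp)
  have hxa := hA.fa x hx
  have hxa' : x⁻¹ • a = a := by rw [inv_smul_eq_iff, hxa]
  have hxy := (hA.cy x hx).eq
  -- conjugates are in `C(u)_a`
  have key : ∀ g ∈ P, Commute (x * g * x⁻¹) u ∧ (x * g * x⁻¹) • a = a ∧
      TwoElt (x * g * x⁻¹) := by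
    intro g hg
    obtain ⟨hgH, hga, hg2, hgQ⟩ := (hP.mem g).mp hg
    refine ⟨?_, ?_, hg2.conj x⟩
    · have h1 : Commute (x * g * x⁻¹) (x * u * x⁻¹) := by
        have h2 := (mem_cen.mp hgH).eq
        show x * g * x⁻¹ * (x * u * x⁻¹) = x * u * x⁻¹ * (x * g * x⁻¹)
        calc x * g * x⁻¹ * (x * u * x⁻¹) = x * (g * u) * x⁻¹ := by group
          _ = x * (u * g) * x⁻¹ := by rw [h2]
          _ = _ := by group
      have h2 : Commute (x * g * x⁻¹) (x * x) := by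
        have h3 := (hP.comm g hg _ (hA.sq x hx)).eq
        show x * g * x⁻¹ * (x * x) = x * x * (x * g * x⁻¹)
        calc x * g * x⁻¹ * (x * x) = x * (g * (x * x)) * x⁻¹ := by group
          _ = x * ((x * x) * g) * x⁻¹ := by rw [h3]
          _ = _ := by group
      rw [hA.conj_u x hx] at h1
      have h3 := h2.inv_right.mul_right h1
      rwa [inv_mul_cancel_left] at h3
    · rw [mul_smul, mul_smul, hxa', hga, hxa]
  -- the commutators with `y`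
  have hcom : ∀ h ∈ P, ∀ hm : x * (h⁻¹ * ((y : G) * h * (y : G)⁻¹)) * x⁻¹ ∈ Hu,
      rho Ω z Hu ⟨x * (h⁻¹ * ((y : G) * h * (y : G)⁻¹)) * x⁻¹, hm⟩ ∈ Q := by
    intro h hh hm
    obtain ⟨h1, h2, h3⟩ := key h⁻¹ (inv_mem hh)
    have h4 : x * (h⁻¹ * ((y : G) * h * (y : G)⁻¹)) * x⁻¹ =
        x * h⁻¹ * x⁻¹ * (y : G) * (x * h⁻¹ * x⁻¹)⁻¹ * (y : G)⁻¹ := by
      have h5 : (y : G)⁻¹ * x⁻¹ = x⁻¹ * (y : G)⁻¹ := by rw [← mul_inv_rev, ← mul_inv_rev, hxy]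
      calc x * (h⁻¹ * ((y : G) * h * (y : G)⁻¹)) * x⁻¹
          = x * h⁻¹ * (y : G) * h * ((y : G)⁻¹ * x⁻¹) := by group
        _ = x * h⁻¹ * (x⁻¹ * (x * (y : G))) * h * (x⁻¹ * (y : G)⁻¹) := by
            rw [h5, inv_mul_cancel_left]
        _ = x * h⁻¹ * (x⁻¹ * ((y : G) * x)) * h * (x⁻¹ * (y : G)⁻¹) := by rw [hxy]
        _ = _ := by group
    have h6 := D.comm_mem_Q c (g := ⟨x * h⁻¹ * x⁻¹, mem_cen.mpr h1⟩) h2 (by
      have h7 : TwoElt (x * (h⁻¹ * ((y : G) * h * (y : G)⁻¹)) * x⁻¹) :=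
        (TwoElt.of_mem hP.two (mul_mem (inv_mem hh)
          (D.hat_norm hP (commute_y y) D.Y.fix_a hh))).conj x
      rw [h4] at h7
      exact h7)
    have h8 : (⟨x * (h⁻¹ * ((y : G) * h * (y : G)⁻¹)) * x⁻¹, hm⟩ : Hu) =
        ⟨x * h⁻¹ * x⁻¹, mem_cen.mpr h1⟩ * y * (⟨x * h⁻¹ * x⁻¹, mem_cen.mpr h1⟩)⁻¹ * y⁻¹ :=
      Subtype.ext h4
    rw [h8]; exact h6
  obtain ⟨h1, h2, h3⟩ := key g hg
  refine (hP.mem _).mpr ⟨mem_cen.mpr h1, h2, h3, ?_⟩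
  obtain ⟨h, hh, v, hv, hgv⟩ := D.hat_decomp hP hg
  have hm : x * (h⁻¹ * ((y : G) * h * (y : G)⁻¹)) * x⁻¹ ∈ Hu := mem_cen.mpr
    (key _ (mul_mem (inv_mem hh) (D.hat_norm hP (commute_y y) D.Y.fix_a hh))).1
  have hvH : v ∈ Hu := c.V_le_u D.bad D.fa hv
  have hvQ : rho Ω z Hu ⟨v, hvH⟩ ∈ Q := D.L.qe.le (mem_E (x := ⟨v, hvH⟩) hv)
  have hxv := (hA.cV x hx v hv).eq
  rcases hgv with hgv | hgv
  · have h4 : (⟨x * g * x⁻¹, mem_cen.mpr h1⟩ : Hu) =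
        ⟨x * (h⁻¹ * ((y : G) * h * (y : G)⁻¹)) * x⁻¹, hm⟩ * ⟨v, hvH⟩ := by
      apply Subtype.ext
      show x * g * x⁻¹ = x * (h⁻¹ * ((y : G) * h * (y : G)⁻¹)) * x⁻¹ * v
      have h5 : x⁻¹ * v = v * x⁻¹ := ((hA.cV x hx v hv).inv_left).eq
      rw [hgv, mul_assoc (x * (h⁻¹ * ((y : G) * h * (y : G)⁻¹))) x⁻¹ v, h5]
      group
    rw [h4, map_mul]
    exact mul_mem (hcom h hh hm) hvQ
  · have hxxH : x * x ∈ Hu := c.V_le_u D.bad D.fa (hA.sq x hx)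
    have hxxQ : rho Ω z Hu ⟨x * x, hxxH⟩ ∈ Q := D.L.qe.le (mem_E (x := ⟨x * x, hxxH⟩) (hA.sq x hx))
    have h4 : (⟨x * g * x⁻¹, mem_cen.mpr h1⟩ : Hu) =
        ⟨x * (h⁻¹ * ((y : G) * h * (y : G)⁻¹)) * x⁻¹, hm⟩ * ⟨v, hvH⟩ * ⟨x * x, hxxH⟩ *
          ⟨u, huH⟩ := by
      apply Subtype.ext
      show x * g * x⁻¹ = x * (h⁻¹ * ((y : G) * h * (y : G)⁻¹)) * x⁻¹ * v * (x * x) * u
      have h5 : x⁻¹ * v = v * x⁻¹ := ((hA.cV x hx v hv).inv_left).eq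
      calc x * g * x⁻¹ = x * (h⁻¹ * ((y : G) * h * (y : G)⁻¹)) * (v * x⁻¹) * (x * u * x⁻¹) := by
            rw [hgv]; group
        _ = x * (h⁻¹ * ((y : G) * h * (y : G)⁻¹)) * (x⁻¹ * v) * (x * x * u) := by
            rw [h5, hA.conj_u x hx]
        _ = _ := by group
    rw [h4, map_mul, map_mul, map_mul, hrhou, mul_one]
    exact mul_mem (mul_mem (hcom h hh hm) hvQ) hxxQ

end UD

end Cfsg.Agent.AschCrit.CommFive
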