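import Cfsg.Agent.AschCrit.CommFive.HatA

/-!
# Aschbacher's criterion, commutative case (C5): the group `P`

`UD.exists_AP` : the abelian group `A` of order `q²` and the group `P` of order `q³` commuting with it.
-/

set_option autoImplicit false

namespace Cfsg.Agent.AschCrit.CommFive

open Cfsg.Agent.TwoFusion.StronglyEmbeddedBasic Cfsg.Agent.AschCrit.Basic
open Cfsg.Agent.AschCrit.Basic.Setup Cfsg.Agent.AschCrit.Closed Cfsg.Agent.AschCrit.Descent
open Cfsg.Agent.AschCrit.NonIso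

variable {G Ω : Type*} [Group G] [MulAction G Ω] {z : G} {V : Ω → Subgroup G} {k : ℕ}

/-- `N = V_a × ⟨u⟩` -/
structure ND (V : Ω → Subgroup G) (u : G) (a : Ω) (N : Subgroup G) : Prop where
  mem : ∀ n : G, n ∈ N ↔ n ∈ V a ∨ u * n ∈ V a

namespace UD

variable {u : G} {a b : Ω}
  {Q : Subgroup (Equiv.Perm (pts Ω z (Subgroup.centralizer ({u} : Set G))))}
  {y : Subgroup.centralizer ({u} : Set G)}
  {W : Subgroup (Equiv.Perm (pts Ω z (Subgroup.centralizer ({u} : Set G))))}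

set_option quotPrecheck false in
local notation "Hu" => Subgroup.centralizer ({u} : Set G)

theorem exists_N (D : UD Ω z V k u a b Q y W) (c : Ctx Ω z V k) : ∃ N, ND V u a N := by
  have huu := D.bad.mul_self
  have huV : ∀ v ∈ V a, Commute u v := fun v hv => c.bad u a D.bad D.fa v hv
  refine ⟨{ carrier := {n | n ∈ V a ∨ u * n ∈ V a}
            mul_mem' := ?_
            one_mem' := Or.inl (one_mem _)
            inv_mem' := ?_ }, ⟨fun n => Iff.rfl⟩⟩
  · rintro g h (hg | hg) (hh | hh)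
    · exact Or.inl (mul_mem hg hh)
    · right
      have h1 : u * (g * h) = g * (u * h) := by
        rw [← mul_assoc, (huV g hg).eq, mul_assoc]
      rw [h1]; exact mul_mem hg hh
    · right
      rw [← mul_assoc]; exact mul_mem hg hh
    · left
      have h1 : g * h = (u * g) * (u * h) := by
        have h2 := (huV _ hg).eq
        calc g * h = (u * u) * g * h := by rw [huu, one_mul]
          _ = (u * (u * g)) * h := by group
          _ = ((u * g) * u) * h := by rw [h2]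
          _ = _ := by group
      rw [h1]; exact mul_mem hg hh
  · rintro g (hg | hg)
    · exact Or.inl (inv_mem hg)
    · right
      have h2 := (huV _ hg).eq
      have h1 : u * g⁻¹ = (u * g)⁻¹ := by
        have h3 : g * u⁻¹ = u * g := by
          rw [D.bad.inv_eq]
          calc g * u = (u * u) * g * u := by rw [huu, one_mul]
            _ = u * ((u * g) * u) := by group
            _ = u * (u * (u * g)) := by rw [h2]
            _ = (u * u) * (u * g) := by group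
            _ = u * g := by rw [huu, one_mul]
        rw [← h3]; group
      rw [h1]; exact inv_mem hg

theorem N_cases (D : UD Ω z V k u a b Q y W) {N : Subgroup G} (hN : ND V u a N) {n : G}
    (hn : n ∈ N) : n ∈ V a ∨ ∃ v ∈ V a, n = u * v := by
  rcases (hN.mem n).mp hn with h | h
  · exact Or.inl h
  · exact Or.inr ⟨u * n, h, by rw [← mul_assoc, D.bad.mul_self, one_mul]⟩

theorem N_le (D : UD Ω z V k u a b Q y W) {N P : Subgroup G} (hN : ND V u a N)
    (hP : HatD Ω z V u a Q P) : N ≤ P := by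
  intro n hn
  rcases D.N_cases hN hn with h | ⟨v, hv, rfl⟩
  · exact hP.V_le h
  · exact mul_mem hP.u_mem (hP.V_le hv)

omit [MulAction G Ω] in
theorem V_le_N {N : Subgroup G} (hN : ND V u a N) : V a ≤ N := fun v hv =>
  (hN.mem v).mpr (Or.inl hv)

theorem u_mem_N (D : UD Ω z V k u a b Q y W) {N : Subgroup G} (hN : ND V u a N) : u ∈ N :=
  (hN.mem u).mpr (Or.inr (by rw [D.bad.mul_self]; exact one_mem _))

theorem N_comm (D : UD Ω z V k u a b Q y W) {N P : Subgroup G} (hN : ND V u a N)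
    (hP : HatD Ω z V u a Q P) {n g : G} (hn : n ∈ N) (hg : g ∈ P) : Commute n g := by
  obtain ⟨hgH, -⟩ := (hP.mem g).mp hg
  rcases D.N_cases hN hn with h | ⟨v, hv, rfl⟩
  · exact (hP.comm g hg n h).symm
  · exact (mem_cen.mp hgH).symm.mul_left (hP.comm g hg v hv).symm

theorem N_sq (D : UD Ω z V k u a b Q y W) (c : Ctx Ω z V k) {N : Subgroup G} (hN : ND V u a N)
    {n : G} (hn : n ∈ N) : n * n = 1 := by
  rcases D.N_cases hN hn with h | ⟨v, hv, rfl⟩
  · exact c.sq_V h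
  · rw [(c.bad u a D.bad D.fa v hv).symm.mul_mul_mul_comm, D.bad.mul_self, c.sq_V hv, one_mul]

theorem N_conj (D : UD Ω z V k u a b Q y W) (c : Ctx Ω z V k) {N : Subgroup G}
    (hN : ND V u a N) {g : G} (hgu : Commute g u) (hga : g • a = a) {n : G} (hn : n ∈ N) :
    g * n * g⁻¹ ∈ N := by
  rcases D.N_cases hN hn with h | ⟨v, hv, rfl⟩
  · exact (hN.mem _).mpr (Or.inl (c.conj_V' hga h))
  · have h1 : g * (u * v) * g⁻¹ = u * (g * v * g⁻¹) := by
      rw [← mul_assoc, hgu.eq]; group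
    rw [h1]
    exact mul_mem (D.u_mem_N hN) (V_le_N hN (c.conj_V' hga hv))

theorem N_conj_A (D : UD Ω z V k u a b Q y W) {N A : Subgroup G}
    (hN : ND V u a N) (hA : AD Ω V k u a (y : G) A) {x : G} (hx : x ∈ A) {n : G} (hn : n ∈ N) :
    x * n * x⁻¹ ∈ N := by
  have key : ∀ v ∈ V a, x * v * x⁻¹ = v := by
    intro v hv
    rw [(hA.cV x hx v hv).eq, mul_inv_cancel_right]
  rcases D.N_cases hN hn with h | ⟨v, hv, rfl⟩
  · rw [key n h]; exact hn
  · have h1 : x * (u * v) * x⁻¹ = (x * u * x⁻¹) * (x * v * x⁻¹) := by group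
    rw [h1, key v hv, hA.conj_u x hx]
    exact mul_mem (mul_mem (V_le_N hN (hA.sq x hx)) (D.u_mem_N hN)) (V_le_N hN hv)

/-- `[P̂, A] ≤ N` -/
theorem hat_comm [Finite G] (D : UD Ω z V k u a b Q y W) (c : Ctx Ω z V k) {P A N : Subgroup G}
    (hP : HatD Ω z V u a Q P) (hA : AD Ω V k u a (y : G) A) (hN : ND V u a N) :
    ∀ g ∈ P, ∀ x ∈ A, g⁻¹ * (x * g * x⁻¹) ∈ N := by
  have huH : u ∈ Hu := mem_cen.mpr (Commute.refl u)
  have hrhou : rho Ω z Hu ⟨u, huH⟩ = 1 :=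
    (rho_eq_one_iff _).mpr (fun p hp => (c.mem_pts_u D.bad).mp hp)
  have hPH : ∀ g ∈ P, g ∈ Hu := fun g hg => ((hP.mem g).mp hg).1
  have hPQ : ∀ g : Hu, (g : G) ∈ P → rho Ω z Hu g ∈ Q := fun g hg => ((hP.mem g).mp hg).2.2.2
  -- elements of `P̂` inducing elements of `E`
  have hlift : ∀ g : Hu, (g : G) ∈ P → rho Ω z Hu g ∈ ((V a).subgroupOf Hu).map (rho Ω z Hu) →
      (g : G) ∈ N := by
    intro g hg h1
    obtain ⟨v, hv, hvg⟩ := exists_of_mem_E h1
    have h2 : rho Ω z Hu (v⁻¹ * g) = 1 := by rw [map_mul, map_inv, hvg, inv_mul_cancel]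
    rcases hP.ker (v⁻¹ * g) (mul_mem (inv_mem (hP.V_le hv)) hg) h2 with h3 | h3
    · have h4 : (v : G) = g := inv_mul_eq_one.mp h3
      rw [← h4]; exact V_le_N hN hv
    · have h4 : (g : G) = v * u := inv_mul_eq_iff_eq_mul.mp h3
      rw [h4]; exact mul_mem (V_le_N hN hv) (D.u_mem_N hN)
  -- a common element
  have hne : N ≠ P := by
    intro heq
    have h1 : Q ≤ ((V a).subgroupOf Hu).map (rho Ω z Hu) := by
      intro x hx
      obtain ⟨g, hg, rfl⟩ := hP.surj x hx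
      rw [← heq] at hg
      rcases D.N_cases hN hg with h | ⟨v, hv, hgv⟩
      · exact mem_E h
      · have h2 : g = ⟨u, huH⟩ * ⟨v, c.V_le_u D.bad D.fa hv⟩ := Subtype.ext hgv
        rw [h2, map_mul, hrhou, one_mul]
        exact mem_E (x := ⟨v, c.V_le_u D.bad D.fa hv⟩) hv
    have hfQ : Finite Q := D.L.qe.fin
    have h2 : Nat.card Q ≤ Nat.card (((V a).subgroupOf Hu).map (rho Ω z Hu)) := by
      have : Finite (((V a).subgroupOf Hu).map (rho Ω z Hu)) :=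
        Finite.of_injective _ (Subgroup.inclusion_injective D.L.qe.le)
      exact Nat.card_le_card_of_injective _ (Subgroup.inclusion_injective h1)
    rw [D.L.qe.card_Q, D.L.qe.card_E] at h2
    have h3 := c.two_le_q
    have h4 : 2 ^ k < (2 ^ k) ^ 3 := by
      calc 2 ^ k = (2 ^ k) ^ 1 := (pow_one _).symm
        _ < (2 ^ k) ^ 3 := Nat.pow_lt_pow_right (by omega) (by norm_num)
    omega
  obtain ⟨p, hpP, hpN, hp⟩ := exists_common_gen (Q := P) (N := N) hA.two (D.N_le hN hP)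
    (fun t ht x hx => D.hat_conj c hP hA ht hx)
    (fun t ht x hx => D.N_conj_A hN hA ht hx) hP.two hne
  -- the subgroup `P₀`
  let P₀ : Subgroup G :=
    { carrier := {g | g ∈ P ∧ ∀ x ∈ A, g⁻¹ * (x * g * x⁻¹) ∈ N}
      mul_mem' := by
        rintro g h ⟨hg, hg'⟩ ⟨hh, hh'⟩
        refine ⟨mul_mem hg hh, fun x hx => ?_⟩
        have h1 := (D.N_comm hN hP (hg' x hx) (inv_mem hh)).eq
        have h2 : (g * h)⁻¹ * (x * (g * h) * x⁻¹) =
            (h⁻¹ * (g⁻¹ * (x * g * x⁻¹))) * (x * h * x⁻¹) := by group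
        rw [h2, ← h1, mul_assoc]
        exact mul_mem (hg' x hx) (hh' x hx)
      one_mem' := ⟨one_mem _, fun x _ => by simp [one_mem]⟩
      inv_mem' := by
        rintro g ⟨hg, hg'⟩
        refine ⟨inv_mem hg, fun x hx => ?_⟩
        have h1 := (D.N_comm hN hP (hg' x hx) hg).inv_left.eq
        have h2 : (g⁻¹)⁻¹ * (x * g⁻¹ * x⁻¹) = g * (g⁻¹ * (x * g * x⁻¹))⁻¹ * g⁻¹ := by group
        rw [h2, ← h1, mul_inv_cancel_right]
        exact inv_mem (hg' x hx) }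
  have hP₀ : ∀ g, g ∈ P₀ ↔ g ∈ P ∧ ∀ x ∈ A, g⁻¹ * (x * g * x⁻¹) ∈ N := fun g => Iff.rfl
  -- invariance
  have hinv : ∀ g : Hu, (g : G) • a = a → Commute (g : G) (y : G) →
      ∀ h ∈ P₀, (g : G) * h * (g : G)⁻¹ ∈ P₀ := by
    intro g hga hgy h hh
    obtain ⟨h1, h2⟩ := (hP₀ h).mp hh
    have hgu : Commute (g : G) u := mem_cen.mp g.2
    refine (hP₀ _).mpr ⟨D.hat_norm hP hgu hga h1, fun x hx => ?_⟩
    have hga' : (g : G)⁻¹ • a = a := by rw [inv_smul_eq_iff, hga]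
    have hx' : (g : G)⁻¹ * x * (g : G)⁻¹⁻¹ ∈ A := hA.norm _ hgy.inv_left hgu.inv_left hga' x hx
    rw [inv_inv] at hx'
    have h3 := D.N_conj c hN hgu hga (h2 _ hx')
    have h4 : (g : G) * (h⁻¹ * ((g : G)⁻¹ * x * g * h * ((g : G)⁻¹ * x * g)⁻¹)) * (g : G)⁻¹ =
        ((g : G) * h * (g : G)⁻¹)⁻¹ * (x * ((g : G) * h * (g : G)⁻¹) * x⁻¹) := by group
    rwa [h4] at h3
  set Q₀ := (P₀.subgroupOf Hu).map (rho Ω z Hu) with hQ₀
  have hQ₀m : ∀ g : Hu, (g : G) ∈ P₀ → rho Ω z Hu g ∈ Q₀ := fun g hg => ⟨g, hg, rfl⟩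
  have hQ₀inv : ∀ g : Hu, (g : G) • a = a → Commute (g : G) (y : G) →
      ∀ x ∈ Q₀, rho Ω z Hu g * x * (rho Ω z Hu g)⁻¹ ∈ Q₀ := by
    rintro g hga hgy _ ⟨h, hh, rfl⟩
    rw [← map_inv, ← map_mul, ← map_mul]
    exact hQ₀m _ (hinv g hga hgy h hh)
  have hQeq : Q₀ = Q := by
    obtain ⟨v, hv, hv1⟩ := c.exists_ne_one b
    refine D.L.qe.eq_of_invariant D.Y.ye ?_ ?_ ?_ ?_ (hQ₀m ⟨p, hPH p hpP⟩ ⟨hpP, hp⟩) ?_
    · rintro _ ⟨x, hx, rfl⟩
      have hx' : (x : G) ∈ V a := hx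
      refine hQ₀m x ⟨hP.V_le hx', fun x' hx'' => ?_⟩
      rw [(hA.cV x' hx'' _ hx').eq, mul_inv_cancel_right, inv_mul_cancel]
      exact one_mem _
    · rintro _ ⟨x, hx, rfl⟩
      exact hPQ x ((hP₀ _).mp hx).1
    · intro d hd e he hd1 he1
      have hXle : V a ≤ Hu ⊓ Subgroup.centralizer {(y : G)} := fun x hx =>
        Subgroup.mem_inf.mpr ⟨c.V_le_u D.bad D.fa hx, mem_cen.mpr (D.Y.comm_a x hx).symm⟩
      have hvX : v ∈ Hu ⊓ Subgroup.centralizer {(y : G)} :=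
        Subgroup.mem_inf.mpr ⟨c.V_le_u D.bad D.fb hv, mem_cen.mpr (D.Y.comm_b v hv).symm⟩
      obtain ⟨g, hgX, hga, hg⟩ := c.trans_E D.ne inf_le_left hXle hv hv1 hvX hd he hd1 he1
      exact ⟨rho Ω z Hu g, hQ₀inv g hga (mem_cen.mp (Subgroup.mem_inf.mp hgX).2), hg⟩
    · exact hQ₀inv y D.Y.fix_a (Commute.refl _)
    · intro hpE
      exact hpN (hlift ⟨p, hPH p hpP⟩ hpP hpE)
  have hall : ∀ g ∈ P, g ∈ P₀ := by
    intro g hg
    have h1 : rho Ω z Hu ⟨g, hPH g hg⟩ ∈ Q₀ := by rw [hQeq]; exact hPQ ⟨g, hPH g hg⟩ hg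
    obtain ⟨g₀, hg₀, h2⟩ := h1
    have hg₀' : (g₀ : G) ∈ P₀ := hg₀
    have h3 : rho Ω z Hu (g₀⁻¹ * ⟨g, hPH g hg⟩) = 1 := by
      rw [map_mul, map_inv, h2, inv_mul_cancel]
    rcases hP.ker (g₀⁻¹ * ⟨g, hPH g hg⟩) (mul_mem (inv_mem hg₀'.1) hg) h3 with h4 | h4
    · have h5 : (g₀ : G) = g := inv_mul_eq_one.mp h4
      rw [← h5]; exact hg₀'
    · have h5 : g = g₀ * u := inv_mul_eq_iff_eq_mul.mp h4
      have h6 : u ∈ P₀ := by
        refine (hP₀ u).mpr ⟨hP.u_mem, fun x hx => ?_⟩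
        exact mul_mem (inv_mem (D.u_mem_N hN)) (D.N_conj_A hN hA hx (D.u_mem_N hN))
      rw [h5]; exact mul_mem hg₀' h6
  exact fun g hg => ((hP₀ g).mp (hall g hg)).2

/-- the square of an element of `P̂` is in `V_a`, and `[P̂, A] ≤ V_a` -/
theorem hat_sq_comm [Finite G] (D : UD Ω z V k u a b Q y W) (c : Ctx Ω z V k)
    {P A : Subgroup G} (hP : HatD Ω z V u a Q P) (hA : AD Ω V k u a (y : G) A) :
    (∀ g ∈ P, g * g ∈ V a) ∧ ∀ g ∈ P, ∀ x ∈ A, g⁻¹ * (x * g * x⁻¹) ∈ V a := by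
  obtain ⟨N, hN⟩ := D.exists_N c
  have hc := D.hat_comm c hP hA hN
  have huu := D.bad.mul_self
  have hcanc : ∀ w v : G, w * v = v → w = 1 := fun w v h => mul_eq_right.mp h
  constructor
  · intro g hg
    obtain ⟨hgH, hga, hg2, hgQ⟩ := (hP.mem g).mp hg
    have h1 := D.L.qe.sq _ hgQ
    rw [← map_mul] at h1
    obtain ⟨v, hv, hvg⟩ := exists_of_mem_E h1
    have h2 : rho Ω z Hu (v⁻¹ * (⟨g, hgH⟩ * ⟨g, hgH⟩)) = 1 := by
      rw [map_mul, map_inv, hvg, inv_mul_cancel]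
    rcases hP.ker (v⁻¹ * (⟨g, hgH⟩ * ⟨g, hgH⟩))
      (mul_mem (inv_mem (hP.V_le hv)) (mul_mem hg hg)) h2 with h3 | h3
    · have h4 : (v : G) = g * g := inv_mul_eq_one.mp h3
      rw [← h4]; exact hv
    · exfalso
      have h4 : g * g = v * u := inv_mul_eq_iff_eq_mul.mp h3
      -- an element of `A` outside `V`
      obtain ⟨x, hx, hxV⟩ : ∃ x ∈ A, x ∉ V a := by
        by_contra hcon
        push Not at hcon
        have h5 : Nat.card A ≤ Nat.card (V a) :=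
          Nat.card_le_card_of_injective _ (Subgroup.inclusion_injective hcon)
        rw [hA.card, c.card_V] at h5
        have h6 := c.two_le_q
        have h7 : 2 ^ k < (2 ^ k) ^ 2 := by
          calc 2 ^ k = (2 ^ k) ^ 1 := (pow_one _).symm
            _ < (2 ^ k) ^ 2 := Nat.pow_lt_pow_right (by omega) (by norm_num)
        omega
      set n := g⁻¹ * (x * g * x⁻¹) with hn
      have hnN : n ∈ N := hc g hg x hx
      have h5 : x * g * x⁻¹ = g * n := by rw [hn]; group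
      have h6 : x * (g * g) * x⁻¹ = g * g := by
        calc x * (g * g) * x⁻¹ = (x * g * x⁻¹) * (x * g * x⁻¹) := by group
          _ = g * (n * g) * n := by rw [h5]; group
          _ = g * (g * n) * n := by rw [(D.N_comm hN hP hnN hg).eq]
          _ = g * g * (n * n) := by group
          _ = g * g := by rw [D.N_sq c hN hnN, mul_one]
      have h7 : x * (g * g) * x⁻¹ = (x * x) * (v * u) := by
        rw [h4]
        have h8 : x * (v * u) * x⁻¹ = (x * v) * (u * x⁻¹) := by group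
        have h9 : x * (v : G) = v * x := (hA.cV x hx v hv).eq
        have h10 : (x * x) * (v : G) = v * (x * x) := (hA.cV _ (mul_mem hx hx) v hv).eq
        calc x * (v * u) * x⁻¹ = (x * v) * (u * x⁻¹) := h8
          _ = v * (x * u * x⁻¹) := by rw [h9]; group
          _ = v * (x * x) * u := by rw [hA.conj_u x hx]; group
          _ = _ := by rw [← h10]; group
      rw [h6, h4] at h7
      exact hxV (hA.inv x hx (hcanc _ _ h7.symm))
  · intro g hg x hx
    set n := g⁻¹ * (x * g * x⁻¹) with hn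
    have hnN : n ∈ N := hc g hg x hx
    rcases D.N_cases hN hnN with h | ⟨v, hv, hnv⟩
    · exact h
    · exfalso
      have h5 : x * g * x⁻¹ = g * n := by rw [hn]; group
      have h6 : x * n * x⁻¹ = (x * x) * n := by
        rw [hnv]
        have h8 : x * (u * v) * x⁻¹ = (x * u * x⁻¹) * (x * v * x⁻¹) := by group
        rw [h8, hA.conj_u x hx, (hA.cV x hx v hv).eq, mul_inv_cancel_right]; group
      have h7 : (x * x) * g * (x * x)⁻¹ = g * (x * x) := by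
        have h9 : (x * x) * n = n * (x * x) :=
          (D.N_comm hN hP (V_le_N hN (hA.sq x hx)) (D.N_le hN hP hnN)).eq
        calc (x * x) * g * (x * x)⁻¹ = x * (x * g * x⁻¹) * x⁻¹ := by group
          _ = x * (g * n) * x⁻¹ := by rw [h5]
          _ = (x * g * x⁻¹) * (x * n * x⁻¹) := by group
          _ = g * (n * (x * x)) * n := by rw [h5, h6]; group
          _ = g * ((x * x) * n) * n := by rw [h9]
          _ = g * (x * x) * (n * n) := by group
          _ = g * (x * x) := by rw [D.N_sq c hN hnN, mul_one]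
      have h8 : (x * x) * g * (x * x)⁻¹ = g := by
        rw [(hP.comm g hg _ (hA.sq x hx)).symm.eq, mul_inv_cancel_right]
      rw [h8] at h7
      have h9 : x * x = 1 := mul_eq_left.mp h7.symm
      have hxV := hA.inv x hx h9
      have h10 : n = 1 := by
        rw [hn, ← (hP.comm g hg x hxV).eq, mul_inv_cancel_right, inv_mul_cancel]
      -- `u ∈ V`
      rw [h10] at hnv
      have h11 : u = v⁻¹ := eq_inv_of_mul_eq_one_left hnv.symm
      have h12 : u ∈ V a := by rw [h11]; exact inv_mem hv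
      exact D.bad.ne_one (c.eq_one_of_fix D.ne h12 D.fb)

/-- the groups `A` and `P` -/
theorem exists_AP [Finite G] (D : UD Ω z V k u a b Q y W) (c : Ctx Ω z V k) :
    ∃ A P : Subgroup G, AD Ω V k u a (y : G) A ∧ QE P (V a) k ∧ (∀ x ∈ P, x • a = a) ∧
      (∀ x ∈ A, ∀ p ∈ P, Commute x p) ∧ ∀ x ∈ A, x ∈ P → x ∈ V a := by
  obtain ⟨A, hA⟩ := D.exists_A c
  obtain ⟨P, hP⟩ := D.exists_hat c
  obtain ⟨hsq, hcomm⟩ := D.hat_sq_comm c hP hA
  have hPH : ∀ g ∈ P, g ∈ Hu := fun g hg => ((hP.mem g).mp hg).1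
  have hPQ : ∀ g : Hu, (g : G) ∈ P → rho Ω z Hu g ∈ Q := fun g hg => ((hP.mem g).mp hg).2.2.2
  let P' : Subgroup G :=
    { carrier := {g | g ∈ P ∧ ∀ x ∈ A, Commute x g}
      mul_mem' := fun {g h} hg hh => ⟨mul_mem hg.1 hh.1, fun x hx => (hg.2 x hx).mul_right (hh.2 x hx)⟩
      one_mem' := ⟨one_mem _, fun x _ => Commute.one_right x⟩
      inv_mem' := fun {g} hg => ⟨inv_mem hg.1, fun x hx => (hg.2 x hx).inv_right⟩ }
  have hP' : ∀ g, g ∈ P' ↔ g ∈ P ∧ ∀ x ∈ A, Commute x g := fun g => Iff.rfl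
  have hAPV : ∀ x ∈ A, x ∈ P' → x ∈ V a := fun x hx hxP =>
    hA.cu x hx (mem_cen.mp (hPH x hxP.1)).symm
  have hVP' : V a ≤ P' := fun v hv => ⟨hP.V_le hv, fun x hx => hA.cV x hx v hv⟩
  -- an element of `A` outside `V`
  obtain ⟨x₀, hx₀, hxV⟩ : ∃ x ∈ A, x ∉ V a := by
    by_contra hcon
    push Not at hcon
    have h5 : Nat.card A ≤ Nat.card (V a) :=
      Nat.card_le_card_of_injective _ (Subgroup.inclusion_injective hcon)
    rw [hA.card, c.card_V] at h5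
    have h6 := c.two_le_q
    have h7 : 2 ^ k < (2 ^ k) ^ 2 := by
      calc 2 ^ k = (2 ^ k) ^ 1 := (pow_one _).symm
        _ < (2 ^ k) ^ 2 := Nat.pow_lt_pow_right (by omega) (by norm_num)
    omega
  have huP' : u ∉ P' := fun h => hxV (hA.cu x₀ hx₀ (h.2 x₀ hx₀).symm)
  have hinj : ∀ g : Hu, (g : G) ∈ P' → rho Ω z Hu g = 1 → g = 1 := by
    intro g hg h1
    rcases hP.ker g hg.1 h1 with h2 | h2
    · exact Subtype.ext h2
    · exact absurd (h2 ▸ hg) huP'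
  have hinj2 : ∀ g g' : Hu, (g : G) ∈ P' → (g' : G) ∈ P' → rho Ω z Hu g = rho Ω z Hu g' →
      g = g' := by
    intro g g' hg hg' h1
    have h2 := hinj (g⁻¹ * g') (mul_mem (inv_mem hg) hg') (by
      rw [map_mul, map_inv, h1, inv_mul_cancel])
    exact inv_mul_eq_one.mp h2
  -- commutators with `y`
  have hcy : ∀ h ∈ P, h⁻¹ * ((y : G) * h * (y : G)⁻¹) ∈ P' := by
    intro h hh
    refine ⟨mul_mem (inv_mem hh) (D.hat_norm hP (commute_y y) D.Y.fix_a hh), fun x hx => ?_⟩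
    set n := h⁻¹ * (x * h * x⁻¹) with hn
    have hnV : n ∈ V a := hcomm h hh x hx
    have h1 : x * h * x⁻¹ = h * n := by rw [hn]; group
    have hxy := (hA.cy x hx).eq
    have h5 : (y : G)⁻¹ * x⁻¹ = x⁻¹ * (y : G)⁻¹ := by rw [← mul_inv_rev, ← mul_inv_rev, hxy]
    have h2 : x * (h⁻¹ * ((y : G) * h * (y : G)⁻¹)) * x⁻¹ =
        (x * h * x⁻¹)⁻¹ * ((y : G) * (x * h * x⁻¹) * (y : G)⁻¹) := by
      calc x * (h⁻¹ * ((y : G) * h * (y : G)⁻¹)) * x⁻¹
          = x * h⁻¹ * (y : G) * h * ((y : G)⁻¹ * x⁻¹) := by group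
        _ = x * h⁻¹ * (x⁻¹ * (x * (y : G))) * h * (x⁻¹ * (y : G)⁻¹) := by
            rw [h5, inv_mul_cancel_left]
        _ = x * h⁻¹ * (x⁻¹ * ((y : G) * x)) * h * (x⁻¹ * (y : G)⁻¹) := by rw [hxy]
        _ = _ := by group
    have h3 : (h * n)⁻¹ * ((y : G) * (h * n) * (y : G)⁻¹) =
        h⁻¹ * ((y : G) * h * (y : G)⁻¹) := by
      have h6 : (y : G) * n * (y : G)⁻¹ = n := by
        rw [(D.Y.comm_a n hnV).eq, mul_inv_cancel_right]
      have h7 := (hP.comm _ (mul_mem (inv_mem hh)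
        (D.hat_norm hP (commute_y y) D.Y.fix_a hh)) n hnV).eq
      calc (h * n)⁻¹ * ((y : G) * (h * n) * (y : G)⁻¹)
          = n⁻¹ * (h⁻¹ * ((y : G) * h * (y : G)⁻¹)) * ((y : G) * n * (y : G)⁻¹) := by group
        _ = n⁻¹ * ((h⁻¹ * ((y : G) * h * (y : G)⁻¹)) * n) := by rw [h6]; group
        _ = _ := by rw [h7, inv_mul_cancel_left]
    show x * (h⁻¹ * ((y : G) * h * (y : G)⁻¹)) = h⁻¹ * ((y : G) * h * (y : G)⁻¹) * x
    rw [h1, h3] at h2
    exact mul_inv_eq_iff_eq_mul.mp h2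
  have hsurj : ∀ q ∈ Q, ∃ g : Hu, (g : G) ∈ P' ∧ rho Ω z Hu g = q := by
    intro q hq
    obtain ⟨x, hxQ, e, he, hqe⟩ := D.L.qe.exists_comm D.Y.ye hq
    obtain ⟨h, hh, hhx⟩ := hP.surj x hxQ
    obtain ⟨v, hv, hve⟩ := exists_of_mem_E he
    refine ⟨h⁻¹ * (y * h * y⁻¹) * v, mul_mem (hcy h hh) (hVP' hv), ?_⟩
    rw [hqe]
    simp only [map_mul, map_inv, hhx, hve]
  have hlift : ∀ g (hg : g ∈ P'), rho Ω z Hu ⟨g, hPH g hg.1⟩ ∈
      ((V a).subgroupOf Hu).map (rho Ω z Hu) → g ∈ V a := by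
    intro g hg h1
    obtain ⟨v, hv, hvg⟩ := exists_of_mem_E h1
    have h2 := hinj2 v ⟨g, hPH g hg.1⟩ (hVP' hv) hg hvg
    have h3 : (v : G) = g := congrArg Subtype.val h2
    rw [← h3]; exact hv
  refine ⟨A, P', hA, ?_, fun x hx => ((hP.mem x).mp hx.1).2.1, fun x hx p hp => hp.2 x hx, hAPV⟩
  refine ⟨inferInstance, hVP', c.card_V a, ?_, c.two_le, ?_, fun e he => c.sq_V he, ?_, ?_⟩
  · rw [← D.L.qe.card_Q]
    refine Nat.card_congr (Equiv.ofBijective
      (fun g => (⟨rho Ω z Hu ⟨g, hPH g g.2.1⟩, hPQ ⟨g, hPH g g.2.1⟩ g.2.1⟩ : Q)) ⟨?_, ?_⟩)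
    · intro g g' h1
      have h2 := hinj2 ⟨g, hPH g g.2.1⟩ ⟨g', hPH g' g'.2.1⟩ g.2 g'.2 (congrArg Subtype.val h1)
      exact Subtype.ext (congrArg (fun w : Hu => (w : G)) h2)
    · rintro ⟨x, hx⟩
      obtain ⟨g, hg, hgx⟩ := hsurj x hx
      exact ⟨⟨g, hg⟩, Subtype.ext hgx⟩
  · exact fun e he x hx => (hP.comm x hx.1 e he).symm
  · exact fun x hx => hsq x hx.1
  · intro x hx hxx
    refine hlift x hx (D.L.qe.inv _ (hPQ ⟨x, hPH x hx.1⟩ hx.1) ?_)
    rw [← map_mul]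
    have h1 : (⟨x, hPH x hx.1⟩ * ⟨x, hPH x hx.1⟩ : Hu) = 1 := Subtype.ext hxx
    rw [h1, map_one]

end UD

end Cfsg.Agent.AschCrit.CommFive
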