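import Cfsg.Agent.AschCrit.CommFive.HatP
import Cfsg.Agent.AschCrit.CommFive.End

/-!
# Aschbacher's criterion, commutative case (C5): the end

`Ctx.false` : the context of (C5) has no bad involution.
-/

set_option autoImplicit false

namespace Cfsg.Agent.AschCrit.CommFive

open Cfsg.Agent.TwoFusion.StronglyEmbeddedBasic Cfsg.Agent.AschCrit.Basic
open Cfsg.Agent.AschCrit.Basic.Setup Cfsg.Agent.AschCrit.Closed Cfsg.Agent.AschCrit.Descent

variable {G Ω : Type*} [Group G] [MulAction G Ω] {z : G} {V : Ω → Subgroup G} {k : ℕ}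

/-- the context of (C5) has no bad involution -/
theorem Ctx.false [Finite G] (c : Ctx Ω z V k) {u : G} (hu : Bad Ω u) : False := by
  obtain ⟨-, a, -, -, hua, -⟩ := id hu
  obtain ⟨b, Q, y, W, D⟩ := c.exists_UD hu hua
  obtain ⟨A, P, hA, hP, hPa, hAP, hAPV⟩ := D.exists_AP c
  exact c.end_false hA.two hA.comm hA.V_le hA.card hA.sq hA.inv hA.fa hP hPa hAP hAPV

end Cfsg.Agent.AschCrit.CommFive
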