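import Cfsg.Agent.AschCrit.CommFive.UFix

/-!
# Aschbacher's criterion, commutative case (C5): the group `P_U`

`UD` : the local data of a bad involution `u`.

* `UD.card_pts_y` : `y` has `q³ + 1` fixed points
* `UD.eq_one` : a 2-element fixing all fixed points of `u` and of `y` is trivial
* `UD.T1` : a 2-group fixing all fixed points of `u` has order at most 2
* `UD.exists_PU` : the 2-group `P_U ≤ C(y)`
-/

set_option autoImplicit false

namespace Cfsg.Agent.AschCrit.CommFive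

open Cfsg.Agent.TwoFusion.StronglyEmbeddedBasic Cfsg.Agent.AschCrit.Basic
open Cfsg.Agent.AschCrit.Basic.Setup Cfsg.Agent.AschCrit.Closed Cfsg.Agent.AschCrit.Descent
open Cfsg.Agent.AschCrit.NonIso

variable {G Ω : Type*} [Group G] [MulAction G Ω] {z : G} {V : Ω → Subgroup G} {k : ℕ}

/-- the local data of a bad involution -/
structure UD (Ω : Type*) [MulAction G Ω] (z : G) (V : Ω → Subgroup G) (k : ℕ) (u : G) (a b : Ω)
    (Q : Subgroup (Equiv.Perm (pts Ω z (Subgroup.centralizer ({u} : Set G)))))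
    (y : Subgroup.centralizer ({u} : Set G))
    (W : Subgroup (Equiv.Perm (pts Ω z (Subgroup.centralizer ({u} : Set G))))) : Prop where
  bad : Bad Ω u
  ne : a ≠ b
  fa : u • a = a
  fb : u • b = b
  L : LocQ Ω z (Subgroup.centralizer ({u} : Set G)) a (V a) k Q
  Y : LocY Ω z (Subgroup.centralizer ({u} : Set G)) a b (V a) (V b) k Q y W

theorem Ctx.V_le_u (c : Ctx Ω z V k) {u : G} {a : Ω} (hu : Bad Ω u) (hua : u • a = a) :
    V a ≤ Subgroup.centralizer ({u} : Set G) := fun x hx => mem_cen.mpr (c.bad u a hu hua x hx).symm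

theorem Ctx.mem_pts_u (c : Ctx Ω z V k) {u : G} (hu : Bad Ω u) {p : Ω} :
    p ∈ pts Ω z (Subgroup.centralizer ({u} : Set G)) ↔ u • p = p := by
  constructor
  · rintro ⟨d, hd, hdp⟩
    exact c.setup.fix_of_commute hdp.1 (mem_cen.mp hd).symm hdp.2
  · intro hp
    exact c.mem_pts_of_le (c.V_le_u hu hp)

theorem Ctx.V_le_DCl (c : Ctx Ω z V k) {H : Subgroup G} {a : Ω} (ha : V a ≤ H) :
    V a ≤ DCl z H := by
  intro x hx
  by_cases h1 : x = 1
  · rw [h1]; exact one_mem _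
  · exact Subgroup.subset_closure ⟨(c.mem_At hx h1).1, ha hx⟩

theorem Ctx.centralizer_ne_top (c : Ctx Ω z V k) {u : G} {a e : Ω} (ha : u • a = a)
    (he : u • e ≠ e) : Subgroup.centralizer ({u} : Set G) ≠ ⊤ := by
  intro h1
  apply he
  obtain ⟨g, hg⟩ := c.setup.trans a e
  have h2 : Commute g u := mem_cen.mp (by rw [h1]; trivial)
  rw [← hg, ← mul_smul, ← h2.eq, mul_smul, ha]

theorem Ctx.exists_UD [Finite G] (c : Ctx Ω z V k) {u : G} {a : Ω} (hu : Bad Ω u)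
    (hua : u • a = a) : ∃ b Q y W, UD Ω z V k u a b Q y W := by
  obtain ⟨e, he⟩ : ∃ e : Ω, u • e ≠ e := by
    by_contra hcon
    push Not at hcon
    exact hu.ne_one (c.faithful u hcon)
  obtain ⟨b, hab, hub⟩ : ∃ b : Ω, a ≠ b ∧ u • b = b := by
    obtain ⟨-, p, q, hpq, hp, hq⟩ := id hu
    by_cases hap : a = p
    · exact ⟨q, by rw [hap]; exact hpq, hq⟩
    · exact ⟨p, hap, hp⟩
  have hcard : Nat.card (pts Ω z (Subgroup.centralizer ({u} : Set G))) = (2 ^ k) ^ 3 + 1 := by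
    rw [← c.fix u hu]
    exact Nat.card_congr (Equiv.subtypeEquivRight (fun p => c.mem_pts_u hu))
  obtain ⟨Q, L, hY⟩ := c.loc _ a (c.centralizer_ne_top hua he) (c.V_le_u hu hua)
    ⟨b, Ne.symm hab, c.V_le_u hu hub⟩ hcard
  obtain ⟨y, W, Y⟩ := hY b (Ne.symm hab) (c.V_le_u hu hub)
  exact ⟨b, Q, y, W, hu, hab, hua, hub, L, Y⟩

/-- the fixed points of `y` -/
theorem LocY.exists_V {H : Subgroup G} {a b : Ω} {Va Vb : Subgroup G}
    {Q : Subgroup (Equiv.Perm (pts Ω z H))} {y : H} {W : Subgroup (Equiv.Perm (pts Ω z H))}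
    (L : LocQ Ω z H a Va k Q) (Y : LocY Ω z H a b Va Vb k Q y W) (hb : b ∈ pts Ω z H)
    (hba : b ≠ a) {p : Ω} (hp : p ∈ pts Ω z H) (hyp : (y : G) • p = p) (hpa : p ≠ a) :
    ∃ v : H, (v : G) ∈ Va ∧ (v : G) • b = p := by
  obtain ⟨x, hxQ, hx⟩ := L.trans b hb p hp hba hpa
  have h1 : rho Ω z H (x⁻¹ * (y * x * y⁻¹)) ∈ Q := by
    rw [map_mul, map_inv]
    refine mul_mem (inv_mem hxQ) ?_
    rw [map_mul, map_mul, map_inv]
    exact Y.norm_W _ Y.mem_W _ hxQ
  have h2 : ((x⁻¹ * (y * x * y⁻¹) : H) : G) • b = b := by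
    show ((x : G)⁻¹ * ((y : G) * x * (y : G)⁻¹)) • b = b
    have h3 : (y : G)⁻¹ • b = b := by rw [inv_smul_eq_iff, Y.fix_b]
    rw [mul_smul, mul_smul, mul_smul, h3, hx, hyp, ← hx, inv_smul_smul]
  have h3 := L.reg _ h1 b hb hba h2
  have h4 : Commute (rho Ω z H y) (rho Ω z H x) := by
    rw [map_mul, map_mul, map_mul, map_inv, map_inv] at h3
    have h5 := inv_mul_eq_one.mp h3
    show rho Ω z H y * rho Ω z H x = rho Ω z H x * rho Ω z H y
    exact (mul_inv_eq_iff_eq_mul.mp h5.symm)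
  obtain ⟨v, hv, hvx⟩ := exists_of_mem_E (Y.cent_W _ Y.mem_W Y.ne _ hxQ h4)
  exact ⟨v, hv, by rw [← hx]; exact (rho_eq_iff v x).mp hvx b hb⟩

namespace UD

variable {u : G} {a b : Ω}
  {Q : Subgroup (Equiv.Perm (pts Ω z (Subgroup.centralizer ({u} : Set G))))}
  {y : Subgroup.centralizer ({u} : Set G)}
  {W : Subgroup (Equiv.Perm (pts Ω z (Subgroup.centralizer ({u} : Set G))))}

theorem rElt (D : UD Ω z V k u a b Q y W) : RElt k (y : G) := D.Y.order

theorem commute_y (y : Subgroup.centralizer ({u} : Set G)) : Commute (y : G) u := mem_cen.mp y.2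

theorem exists_moved [Finite G] (D : UD Ω z V k u a b Q y W) (c : Ctx Ω z V k) :
    ∃ e : Ω, (y : G) • e = e ∧ u • e ≠ e :=
  c.exists_moved D.bad D.fa D.rElt (commute_y y) D.Y.comm_a

theorem V_le_y [Finite G] (D : UD Ω z V k u a b Q y W) (c : Ctx Ω z V k) :
    V a ≤ Subgroup.centralizer ({(y : G)} : Set G) := c.V_le_y D.rElt D.Y.comm_a D.Y.fix_a

theorem Vb_le_y [Finite G] (D : UD Ω z V k u a b Q y W) (c : Ctx Ω z V k) :
    V b ≤ Subgroup.centralizer ({(y : G)} : Set G) := c.V_le_y D.rElt D.Y.comm_a D.Y.fix_b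

theorem card_pts_y [Finite G] (D : UD Ω z V k u a b Q y W) (c : Ctx Ω z V k) :
    Nat.card (pts Ω z (Subgroup.centralizer ({(y : G)} : Set G))) = (2 ^ k) ^ 3 + 1 := by
  classical
  obtain ⟨e, hye, hue⟩ := D.exists_moved c
  have hbp : b ∈ pts Ω z (Subgroup.centralizer ({u} : Set G)) := (c.mem_pts_u D.bad).mpr D.fb
  have hf : Nat.card {p : Ω // p ∈ pts Ω z (Subgroup.centralizer ({(y : G)} : Set G)) ∧
      u • p = p} = 2 ^ k + 1 := by
    rw [← c.card_V a, ← Finite.card_option]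
    symm
    refine Nat.card_congr (Equiv.ofBijective
      (fun o : Option (V a) => o.elim
        (⟨a, (c.mem_pts_y D.rElt).mpr D.Y.fix_a, D.fa⟩ :
          {p : Ω // p ∈ pts Ω z (Subgroup.centralizer ({(y : G)} : Set G)) ∧ u • p = p})
        (fun v => ⟨(v : G) • b, (c.mem_pts_y D.rElt).mpr (by
          rw [← mul_smul, (D.Y.comm_a v v.2).eq, mul_smul, D.Y.fix_b]), by
          rw [← mul_smul, (c.bad u a D.bad D.fa v v.2).eq, mul_smul, D.fb]⟩)) ⟨?_, ?_⟩)
    · rintro (_ | v) (_ | v') hvv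
      · rfl
      · exfalso
        have h1 : a = (v' : G) • b := congrArg Subtype.val hvv
        have h2 : (v' : G) • a = a := c.fix_V v'.2
        exact D.ne (smul_left_cancel (v' : G) (h2.trans h1))
      · exfalso
        have h1 : (v : G) • b = a := congrArg Subtype.val hvv
        have h2 : (v : G) • a = a := c.fix_V v.2
        exact D.ne (smul_left_cancel (v : G) (h2.trans h1.symm))
      · have h1 : (v : G) • b = (v' : G) • b := congrArg Subtype.val hvv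
        have h2 : ((v : G)⁻¹ * v') • b = b := by rw [mul_smul, ← h1, inv_smul_smul]
        have h3 := c.eq_one_of_fix D.ne (mul_mem (inv_mem v.2) v'.2) h2
        rw [Subtype.ext (inv_mul_eq_one.mp h3)]
    · rintro ⟨p, hp, hup⟩
      by_cases hpa : p = a
      · exact ⟨none, Subtype.ext hpa.symm⟩
      · obtain ⟨v, hv, hvb⟩ := LocY.exists_V D.L D.Y hbp (Ne.symm D.ne)
          ((c.mem_pts_u D.bad).mpr hup) ((c.mem_pts_y D.rElt).mp hp) hpa
        exact ⟨some ⟨v, hv⟩, Subtype.ext hvb⟩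
  have h1 := c.card_pts_eq D.ne (D.V_le_y c) (D.Vb_le_y c) D.bad
    (mem_cen.mpr (commute_y y).symm) D.fa D.fb ((c.mem_pts_y D.rElt).mpr hye) hue hf
  rw [h1]
  obtain ⟨q, hq⟩ : ∃ q, 2 ^ k = q + 1 := ⟨2 ^ k - 1, by have := c.two_le_q; omega⟩
  rw [hq, Nat.add_sub_cancel]
  ring

/-- a 2-element fixing all fixed points of `u` and of `y` is trivial -/
theorem eq_one [Finite G] (D : UD Ω z V k u a b Q y W) (c : Ctx Ω z V k) {g : G} (hg : TwoElt g)
    (hgu : ∀ p : Ω, u • p = p → g • p = p) (hgy : ∀ p : Ω, (y : G) • p = p → g • p = p) :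
    g = 1 := by
  have hfinΩ := c.setup.finite_points
  by_contra h1
  obtain ⟨m, hm⟩ := hg.exists_pow h1
  set e := g ^ m with he
  have hpow : ∀ p : Ω, g • p = p → e • p = p := by
    intro p hp
    have hle : Subgroup.zpowers g ≤ MulAction.stabilizer G p := by
      rw [Subgroup.zpowers_le]; exact hp
    exact hle (pow_mem (Subgroup.mem_zpowers g) m)
  have heu : ∀ p : Ω, u • p = p → e • p = p := fun p hp => hpow p (hgu p hp)
  have hey : ∀ p : Ω, (y : G) • p = p → e • p = p := fun p hp => hpow p (hgy p hp)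
  have hbad : Bad Ω e := ⟨hm, a, b, D.ne, heu a D.fa, heu b D.fb⟩
  let F : {p : Ω // u • p = p} → {p : Ω // e • p = p} := fun p => ⟨p, heu p p.2⟩
  have hF : Function.Injective F := fun p p' hpp => by
    have h1 : (p : Ω) = p' := congrArg (fun w : {p : Ω // e • p = p} => (w : Ω)) hpp
    exact Subtype.ext h1
  have hF' := hF.bijective_of_nat_card_le (by rw [c.fix u D.bad, c.fix e hbad])
  obtain ⟨p, hyp, hup⟩ := D.exists_moved c
  obtain ⟨x, hx⟩ := hF'.2 ⟨p, hey p hyp⟩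
  have h2 : (x : Ω) = p := congrArg Subtype.val hx
  exact hup (h2 ▸ x.2)

/-- the local data of `C(y)` -/
theorem exists_LU [Finite G] (D : UD Ω z V k u a b Q y W) (c : Ctx Ω z V k) :
    ∃ (QU : Subgroup (Equiv.Perm (pts Ω z (Subgroup.centralizer ({(y : G)} : Set G))))),
      LocQ Ω z (Subgroup.centralizer ({(y : G)} : Set G)) a (V a) k QU ∧
      ∃ y' W', LocY Ω z (Subgroup.centralizer ({(y : G)} : Set G)) a b (V a) (V b) k QU y' W' := by
  obtain ⟨e, he⟩ : ∃ e : Ω, (y : G) • e ≠ e := by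
    by_contra hcon
    push Not at hcon
    exact D.Y.ne ((rho_eq_one_iff y).mpr (fun p _ => hcon p))
  obtain ⟨QU, LU, hY⟩ := c.loc _ a (c.centralizer_ne_top D.Y.fix_a he) (D.V_le_y c)
    ⟨b, Ne.symm D.ne, D.Vb_le_y c⟩ (D.card_pts_y c)
  exact ⟨QU, LU, hY b (Ne.symm D.ne) (D.Vb_le_y c)⟩

theorem commute_of_fix (D : UD Ω z V k u a b Q y W) (c : Ctx Ω z V k) {f : G}
    (hf : ∀ p : Ω, u • p = p → f • p = p) {x : G}
    (hx : x ∈ DCl z (Subgroup.centralizer ({u} : Set G))) : Commute f x :=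
  ker_commute c.setup c.mem_V D.ne ((c.mem_pts_u D.bad).mpr D.fa) ((c.mem_pts_u D.bad).mpr D.fb)
    (fun p hp => hf p ((c.mem_pts_u D.bad).mp hp)) hx

/-- (T1) -/
theorem T1 [Finite G] (D : UD Ω z V k u a b Q y W) (c : Ctx Ω z V k) {F : Subgroup G}
    (hF : IsPGroup 2 F) (hFu : ∀ f ∈ F, ∀ p : Ω, u • p = p → f • p = p) :
    ∀ f ∈ F, ∀ f' ∈ F, f ≠ 1 → f' ≠ 1 → f * f' = 1 := by
  obtain ⟨QU, LU, y', W', YU⟩ := D.exists_LU c
  have hFy : ∀ f ∈ F, Commute f (y : G) := fun f hf => D.commute_of_fix c (hFu f hf) D.Y.mem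
  have hFV : ∀ f ∈ F, ∀ v ∈ V a, Commute f v := fun f hf v hv =>
    D.commute_of_fix c (hFu f hf) (c.V_le_DCl (c.V_le_u D.bad D.fa) hv)
  have hne : ∀ f (hf : f ∈ F), f ≠ 1 →
      rho Ω z (Subgroup.centralizer ({(y : G)} : Set G)) ⟨f, mem_cen.mpr (hFy f hf)⟩ ≠ 1 := by
    intro f hf h1 h2
    apply h1
    refine D.eq_one c (TwoElt.of_mem hF hf) (hFu f hf) (fun p hp => ?_)
    exact (rho_eq_one_iff _).mp h2 p ((c.mem_pts_y D.rElt).mpr hp)
  intro f hf f' hf' h1 h1'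
  have hT : IsPGroup 2 (F.subgroupOf (Subgroup.centralizer ({(y : G)} : Set G))) :=
    hF.comap_subtype
  have h2 := c.T2 D.ne (D.Vb_le_y c) LU YU hT
    (fun t ht => hFu _ ht a D.fa) (fun t ht => hFu _ ht b D.fb) (fun t ht => hFV _ ht)
    (t := ⟨f, mem_cen.mpr (hFy f hf)⟩) (t' := ⟨f', mem_cen.mpr (hFy f' hf')⟩) hf hf'
    (hne f hf h1) (hne f' hf' h1')
  refine D.eq_one c (TwoElt.of_mem hF (mul_mem hf hf')) (hFu _ (mul_mem hf hf')) (fun p hp => ?_)
  exact (rho_eq_one_iff _).mp h2 p ((c.mem_pts_y D.rElt).mpr hp)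

end UD

/-- the 2-group `P_U` -/
structure PUD (Ω : Type*) [MulAction G Ω] (V : Ω → Subgroup G) (k : ℕ) (u : G) (a : Ω) (y : G)
    (PU : Subgroup G) : Prop where
  qe : QE PU (V a) k
  cy : ∀ g ∈ PU, Commute g y
  fa : ∀ g ∈ PU, g • a = a
  two : IsPGroup 2 PU
  norm : ∀ g : G, Commute g y → g • a = a → ∀ x ∈ PU, g * x * g⁻¹ ∈ PU
  cu : ∀ x ∈ PU, Commute u x → x ∈ V a

namespace UD

variable {u : G} {a b : Ω}
  {Q : Subgroup (Equiv.Perm (pts Ω z (Subgroup.centralizer ({u} : Set G))))}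
  {y : Subgroup.centralizer ({u} : Set G)}
  {W : Subgroup (Equiv.Perm (pts Ω z (Subgroup.centralizer ({u} : Set G))))}

theorem exists_PU_aux [Finite G] (D : UD Ω z V k u a b Q y W) (c : Ctx Ω z V k)
    {H : Subgroup G} {QU : Subgroup (Equiv.Perm (pts Ω z H))} (LU : LocQ Ω z H a (V a) k QU)
    (hmem : ∀ g : G, g ∈ H ↔ Commute g (y : G))
    (hpts : ∀ p : Ω, p ∈ pts Ω z H ↔ (y : G) • p = p) :
    ∃ PU : Subgroup G, PUD Ω V k u a (y : G) PU := by
  have hap : a ∈ pts Ω z H := (hpts _).mpr D.Y.fix_a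
  have hbp : b ∈ pts Ω z H := (hpts _).mpr D.Y.fix_b
  obtain ⟨PU, hP⟩ := LU.exists_P c.setup c.mem_V D.ne hap hbp
  have huy : Commute u (y : G) := (commute_y y).symm
  have hPH : ∀ g ∈ PU, g ∈ H := fun g hg => ((hP.mem g).mp hg).1
  have hP2 : IsPGroup 2 PU := isPGroup_of_twoElt (fun g hg => ((hP.mem g).mp hg).2.2.2.1)
  have hPa : ∀ g ∈ PU, g • a = a := fun g hg => ((hP.mem g).mp hg).2.2.1
  have hnorm : ∀ g : G, Commute g (y : G) → g • a = a → ∀ x ∈ PU, g * x * g⁻¹ ∈ PU := by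
    intro g hgy hga x hx
    obtain ⟨hxH, hxD, hxa, hx2, hxQ⟩ := (hP.mem x).mp hx
    have hgH : g ∈ H := (hmem g).mpr hgy
    refine (hP.mem _).mpr ⟨mul_mem (mul_mem hgH hxH) (inv_mem hgH), conj_mem_DCl hgH hxD, ?_,
      hx2.conj g, ?_⟩
    · have h1 : g⁻¹ • a = a := by rw [inv_smul_eq_iff, hga]
      rw [mul_smul, mul_smul, h1, hxa, hga]
    · have h1 := LU.norm ⟨g, hgH⟩ hga _ hxQ
      rw [← map_inv, ← map_mul, ← map_mul] at h1
      exact h1
  -- `P_U` acts faithfully on the fixed points of `y`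
  have hinj : ∀ g (hg : g ∈ PU), rho Ω z H ⟨g, hPH g hg⟩ = 1 → g = 1 := by
    set K : Subgroup G := PU ⊓ (rho Ω z H).ker.map H.subtype with hK
    have hKm : ∀ g, g ∈ K ↔ g ∈ PU ∧ ∀ p : Ω, (y : G) • p = p → g • p = p := by
      intro g
      constructor
      · rintro ⟨h1, ⟨t, ht, rfl⟩⟩
        refine ⟨h1, fun p hp => ?_⟩
        exact (rho_eq_one_iff t).mp ht p ((hpts _).mpr hp)
      · rintro ⟨h1, h2⟩
        refine Subgroup.mem_inf.mpr ⟨h1, ⟨⟨g, hPH g h1⟩, ?_, rfl⟩⟩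
        exact (rho_eq_one_iff _).mpr (fun p hp => h2 p ((hpts _).mp hp))
    have hKbot : K = ⊥ := by
      by_contra hne
      have hK2 : IsPGroup 2 K := hP2.to_le inf_le_left
      obtain ⟨p, hp, hp1, hpu⟩ := exists_common_gen (Q := K) (N := ⊥)
        (T := Subgroup.zpowers u) (isPGroup_zpowers D.bad.mul_self) bot_le
        (by
          have key : ∀ x ∈ K, u * x * u⁻¹ ∈ K := by
            intro x hx
            obtain ⟨h1, h2⟩ := (hKm x).mp hx
            refine (hKm _).mpr ⟨hnorm u huy D.fa x h1, fun p hp => ?_⟩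
            have h3 : (y : G) • (u⁻¹ • p) = u⁻¹ • p := by
              rw [← mul_smul, ← (huy.inv_left).eq, mul_smul, hp]
            rw [mul_smul, mul_smul, h2 _ h3, smul_inv_smul]
          intro t ht x hx
          obtain ⟨n, rfl⟩ := Subgroup.mem_zpowers_iff.mp ht
          rcases Int.even_or_odd' n with ⟨m, rfl | rfl⟩
          · have h1 : u ^ (2 * m) = 1 := by
              rw [zpow_mul, zpow_two, D.bad.mul_self, one_zpow]
            rw [h1]; simpa using hx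
          · have h1 : u ^ (2 * m + 1) = u := by
              rw [zpow_add, zpow_mul, zpow_two, D.bad.mul_self, one_zpow, one_mul, zpow_one]
            rw [h1]; exact key x hx)
        (by
          intro t _ x hx
          rw [Subgroup.mem_bot] at hx ⊢
          rw [hx]; simp) hK2 (Ne.symm hne)
      have hpu' : Commute p u := by
        have h1 := hpu u (Subgroup.mem_zpowers u)
        rw [Subgroup.mem_bot, inv_mul_eq_one] at h1
        show p * u = u * p
        exact eq_mul_inv_iff_mul_eq.mp h1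
      obtain ⟨hpP, hpf⟩ := (hKm p).mp hp
      obtain ⟨hpH, hpD, hpa, hp2, -⟩ := (hP.mem p).mp hpP
      have hpV : ∀ v ∈ V a, Commute p v := fun v hv =>
        ker_commute c.setup c.mem_V D.ne hap hbp
          (fun q hq => hpf q ((hpts _).mp hq)) (c.V_le_DCl LU.VH hv)
      have h3 : rho Ω z (Subgroup.centralizer ({u} : Set G)) ⟨p, mem_cen.mpr hpu'⟩ = 1 := by
        refine c.T0 D.ne (c.V_le_u D.bad D.fb) D.L D.Y (t := ⟨p, mem_cen.mpr hpu'⟩) hp2 hpa
          (hpf b D.Y.fix_b) ?_ hpV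
        exact Subtype.ext ((hmem p).mp hpH).eq
      apply hp1
      rw [Subgroup.mem_bot]
      refine D.eq_one c hp2 (fun q hq => ?_) hpf
      exact (rho_eq_one_iff _).mp h3 q ((c.mem_pts_u D.bad).mpr hq)
    intro g hg h1
    have h2 : g ∈ K := (hKm g).mpr ⟨hg, fun p hp =>
      (rho_eq_one_iff _).mp h1 p ((hpts _).mpr hp)⟩
    rw [hKbot, Subgroup.mem_bot] at h2
    exact h2
  have hinj2 : ∀ g (hg : g ∈ PU) g' (hg' : g' ∈ PU),
      rho Ω z H ⟨g, hPH g hg⟩ = rho Ω z H ⟨g', hPH g' hg'⟩ → g = g' := by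
    intro g hg g' hg' h1
    have h2 := hinj (g⁻¹ * g') (mul_mem (inv_mem hg) hg') (by
      have h3 : rho Ω z H (⟨g, hPH g hg⟩⁻¹ * ⟨g', hPH g' hg'⟩) = 1 := by
        rw [map_mul, map_inv, h1, inv_mul_cancel]
      exact h3)
    exact inv_mul_eq_one.mp h2
  have hVP : V a ≤ PU := by
    intro v hv
    refine (hP.mem v).mpr ⟨LU.VH hv, c.V_le_DCl LU.VH hv, c.fix_V hv,
      TwoElt.of_mul_self (c.sq_V hv), ?_⟩
    exact LU.qe.le (mem_E (x := ⟨v, LU.VH hv⟩) hv)
  have hlift : ∀ g (hg : g ∈ PU), rho Ω z H ⟨g, hPH g hg⟩ ∈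
      ((V a).subgroupOf H).map (rho Ω z H) → g ∈ V a := by
    intro g hg h1
    obtain ⟨v, hv, hvg⟩ := exists_of_mem_E h1
    have h2 := hinj2 v (hVP hv) g hg hvg
    rw [← h2]; exact hv
  refine ⟨PU, ?_, fun g hg => (hmem g).mp (hPH g hg), hPa, hP2, hnorm, ?_⟩
  · refine ⟨inferInstance, hVP, c.card_V a, ?_, c.two_le, ?_, fun e he => c.sq_V he, ?_, ?_⟩
    · rw [← LU.qe.card_Q]
      refine Nat.card_congr (Equiv.ofBijective
        (fun g => (⟨rho Ω z H ⟨g, hPH g g.2⟩, ((hP.mem g).mp g.2).2.2.2.2⟩ : QU)) ⟨?_, ?_⟩)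
      · intro g g' h1
        exact Subtype.ext (hinj2 g g.2 g' g'.2 (congrArg Subtype.val h1))
      · rintro ⟨x, hx⟩
        obtain ⟨g, hg, hgx⟩ := hP.surj x hx
        exact ⟨⟨g, hg⟩, Subtype.ext hgx⟩
    · intro e he x hx
      have h1 : Commute (rho Ω z H ⟨e, hPH e (hVP he)⟩) (rho Ω z H ⟨x, hPH x hx⟩) :=
        LU.qe.central _ (mem_E (x := ⟨e, hPH e (hVP he)⟩) he) _ ((hP.mem x).mp hx).2.2.2.2
      refine hinj2 (e * x) (mul_mem (hVP he) hx) (x * e) (mul_mem hx (hVP he)) ?_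
      have h2 := h1.eq
      rw [← map_mul, ← map_mul] at h2
      exact h2
    · intro x hx
      refine hlift (x * x) (mul_mem hx hx) ?_
      have h1 := LU.qe.sq _ ((hP.mem x).mp hx).2.2.2.2
      rw [← map_mul] at h1
      exact h1
    · intro x hx hxx
      refine hlift x hx (LU.qe.inv _ ((hP.mem x).mp hx).2.2.2.2 ?_)
      rw [← map_mul]
      have h1 : (⟨x, hPH x hx⟩ * ⟨x, hPH x hx⟩ : H) = 1 := Subtype.ext hxx
      have h2 : rho Ω z H (⟨x, hPH x hx⟩ * ⟨x, hPH x hx⟩) = 1 := by rw [h1, map_one]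
      exact h2
  · intro x hx hxu
    have hxb : (y : G) • (x • b) = x • b := by
      rw [← mul_smul, ((hmem x).mp (hPH x hx)).symm.eq, mul_smul, D.Y.fix_b]
    have hxa : x • b ≠ a := by
      intro hh
      exact D.ne (smul_left_cancel x ((hPa x hx).trans hh.symm))
    have hub : u • (x • b) = x • b := by
      rw [← mul_smul, hxu.eq, mul_smul, D.fb]
    obtain ⟨v, hv, hvb⟩ := LocY.exists_V D.L D.Y ((c.mem_pts_u D.bad).mpr D.fb) (Ne.symm D.ne)
      ((c.mem_pts_u D.bad).mpr hub) hxb hxa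
    have h1 : (v : G)⁻¹ * x ∈ PU := mul_mem (inv_mem (hVP hv)) hx
    have h2 : ((v : G)⁻¹ * x) • b = b := by rw [mul_smul, ← hvb, inv_smul_smul]
    have h3 := hinj _ h1 (LU.reg ⟨(v : G)⁻¹ * x, hPH _ h1⟩ ((hP.mem _).mp h1).2.2.2.2 b hbp
      (Ne.symm D.ne) h2)
    rw [inv_mul_eq_one] at h3
    rw [← h3]; exact hv

theorem exists_PU [Finite G] (D : UD Ω z V k u a b Q y W) (c : Ctx Ω z V k) :
    ∃ PU : Subgroup G, PUD Ω V k u a (y : G) PU := by
  obtain ⟨QU, LU, y', W', YU⟩ := D.exists_LU c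
  exact D.exists_PU_aux c LU (fun g => mem_cen) (fun p => c.mem_pts_y D.rElt)

end UD

end Cfsg.Agent.AschCrit.CommFive
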