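import Cfsg.Agent.AschCrit.CommFive.Ctx
import Cfsg.Agent.AschCrit.Count

/-!
# Aschbacher's criterion, commutative case (C5): the fixed points of `y`

`RElt k y` : the order of `y` is a power of a prime divisor of `2 ^ k + 1`.

* `Ctx.mem_pts_y`, `Ctx.V_le_y` : the `D`-points of `C(y)` are the fixed points of `y`
* `Ctx.exists_moved` : a fixed point of `y` moved by `u`
* `Ctx.card_pts_eq` : the number of `D`-points of a subgroup
* `Ctx.card_pts_y` : `y` has `q³ + 1` fixed points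
-/

set_option autoImplicit false

namespace Cfsg.Agent.AschCrit.CommFive

open Cfsg.Agent.TwoFusion.StronglyEmbeddedBasic Cfsg.Agent.AschCrit.Basic
open Cfsg.Agent.AschCrit.Basic.Setup Cfsg.Agent.AschCrit.Closed Cfsg.Agent.AschCrit.Descent
open Cfsg.Agent.AschCrit.NonIso

theorem exists_fix_of_iterate {α : Type*} [Finite α] {r n : ℕ} (hr : r.Prime) (f : α → α)
    (hf : ∀ x, f^[r ^ n] x = x) (hc : ¬ r ∣ Nat.card α) : ∃ x, f x = x := by
  classical
  have : Fact r.Prime := ⟨hr⟩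
  have : Fintype α := Fintype.ofFinite α
  have hp : (show Function.End α from f) ^ r ^ n = 1 := by
    funext x
    show (f^[r ^ n]) x = x
    exact hf x
  have h1 := Equiv.Perm.card_fixedPoints_modEq hp
  by_contra hcon
  push Not at hcon
  have h2 : Fintype.card (Function.fixedPoints (show Function.End α from f)) = 0 := by
    rw [Fintype.card_eq_zero_iff]
    exact ⟨fun x => hcon x.1 x.2⟩
  rw [h2] at h1
  apply hc
  rw [Nat.card_eq_fintype_card]
  exact (Nat.modEq_zero_iff_dvd).mp h1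

/-- the order is a power of a prime divisor of `q + 1` -/
def RElt {G : Type*} [Group G] (k : ℕ) (y : G) : Prop :=
  ∃ r j : ℕ, r.Prime ∧ r ∣ 2 ^ k + 1 ∧ orderOf y = r ^ j

theorem r_not_dvd_two {r k : ℕ} (hr : r.Prime) (hk : 2 ≤ k) (hd : r ∣ 2 ^ k + 1) : ¬ r ∣ 2 := by
  intro h2
  have h3 : r = 2 := (Nat.prime_dvd_prime_iff_eq hr Nat.prime_two).mp h2
  subst h3
  have h4 : 2 ∣ 2 ^ k := dvd_pow_self 2 (by omega)
  omega

theorem r_not_dvd_pow {r k m : ℕ} (hr : r.Prime) (hk : 2 ≤ k) (hd : r ∣ 2 ^ k + 1) :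
    ¬ r ∣ 2 ^ m := fun h => r_not_dvd_two hr hk hd (hr.dvd_of_dvd_pow h)

theorem r_not_dvd_sub {r k : ℕ} (hr : r.Prime) (hk : 2 ≤ k) (hd : r ∣ 2 ^ k + 1) :
    ¬ r ∣ 2 ^ k - 1 := by
  intro h
  apply r_not_dvd_two hr hk hd
  have h1 : 1 ≤ 2 ^ k := Nat.one_le_two_pow
  have h2 := Nat.dvd_sub hd h
  rwa [show 2 ^ k + 1 - (2 ^ k - 1) = 2 by omega] at h2

theorem conj_iterate {G : Type*} [Group G] {α : Type*} (F : α → G) (y : G) (f : α → α)
    (hf : ∀ x, F (f x) = y * F x * y⁻¹) (m : ℕ) (x : α) :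
    F (f^[m] x) = y ^ m * F x * (y ^ m)⁻¹ := by
  induction m with
  | zero => simp
  | succ m ih =>
    rw [Function.iterate_succ_apply', hf, ih, pow_succ']
    group

theorem smul_iterate {G Ω : Type*} [Group G] [MulAction G Ω] {α : Type*} (F : α → Ω) (y : G)
    (f : α → α) (hf : ∀ x, F (f x) = y • F x) (m : ℕ) (x : α) :
    F (f^[m] x) = y ^ m • F x := by
  induction m with
  | zero => simp
  | succ m ih => rw [Function.iterate_succ_apply', hf, ih, pow_succ', mul_smul]

variable {G Ω : Type*} [Group G] [MulAction G Ω] {z : G} {V : Ω → Subgroup G} {k : ℕ}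

namespace Ctx

theorem card_at [Finite G] (c : Ctx Ω z V k) (a : Ω) : Nat.card (At z a) = 2 ^ k - 1 := by
  classical
  have h1 : Nat.card (V a) = Nat.card (At z a) + 1 := by
    rw [← Finite.card_option]
    refine Nat.card_congr
      { toFun := fun x => if h : (x : G) = 1 then none else some ⟨x, c.mem_At x.2 h⟩
        invFun := fun o => o.elim ⟨1, one_mem _⟩ (fun x => ⟨x, c.mem_V_of x.2⟩)
        left_inv := ?_
        right_inv := ?_ }
    · rintro ⟨x, hx⟩
      by_cases h : x = 1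
      · subst h; simp
      · simp [h]
    · rintro (_ | ⟨x, hx⟩)
      · simp
      · have h1 : x ≠ 1 := by
          rintro rfl
          have := c.setup.orderOf_eq hx.1
          simp at this
        simp [h1]
  rw [c.card_V a] at h1
  omega

theorem mem_pts_y [Finite G] (c : Ctx Ω z V k) {y : G} (hy : RElt k y) {p : Ω} :
    p ∈ pts Ω z (Subgroup.centralizer ({y} : Set G)) ↔ y • p = p := by
  constructor
  · rintro ⟨d, hd, hdp⟩
    exact c.setup.fix_of_commute hdp.1 (mem_cen.mp hd).symm hdp.2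
  · intro hp
    obtain ⟨r, j, hr, hrd, hj⟩ := hy
    let f : At z p → At z p := fun x => ⟨y * x * y⁻¹, by
      have := conj_mem_At y x.2
      rwa [hp] at this⟩
    have hfin : Finite (At z p) := inferInstance
    obtain ⟨x, hx⟩ := exists_fix_of_iterate (n := j) hr f (by
      intro x
      apply Subtype.ext
      rw [conj_iterate (fun x : At z p => (x : G)) y f (fun x => rfl), ← hj, pow_orderOf_eq_one]
      simp) (by rw [c.card_at]; exact r_not_dvd_sub hr c.two_le hrd)
    refine ⟨x, mem_cen.mpr ?_, x.2⟩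
    have h1 : y * x * y⁻¹ = x := congrArg Subtype.val hx
    show (x : G) * y = y * x
    exact (mul_inv_eq_iff_eq_mul.mp h1).symm

/-- `V_p ≤ C(y)` for the fixed points `p` of `y` -/
theorem V_le_y [Finite G] (c : Ctx Ω z V k) {y : G} (hy : RElt k y) {a : Ω}
    (hyV : ∀ v ∈ V a, Commute y v) {p : Ω} (hp : y • p = p) :
    V p ≤ Subgroup.centralizer ({y} : Set G) := by
  have haH : V a ≤ Subgroup.centralizer ({y} : Set G) := fun x hx => mem_cen.mpr (hyV x hx).symm
  by_cases hpa : p = a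
  · rw [hpa]; exact haH
  obtain ⟨d, hdH, hd⟩ := (c.mem_pts_y hy).mpr hp
  obtain ⟨x, hx, hx1⟩ := c.exists_ne_one a
  obtain ⟨g, hgH, hg, -, -⟩ := c.setup.exists_swap_mem _ (Ne.symm hpa) (c.mem_At hx hx1) hd
    (haH hx) hdH
  intro v hv
  have hga : g⁻¹ • p = a := by rw [← hg.2, inv_smul_smul]
  have h1 : g⁻¹ * v * g⁻¹⁻¹ ∈ V a := c.conj_V' hga hv
  have h2 := mul_mem (mul_mem hgH (haH h1)) (inv_mem hgH)
  have h3 : g * (g⁻¹ * v * g⁻¹⁻¹) * g⁻¹ = v := by group
  rwa [h3] at h2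

/-- a fixed point of `y` moved by `u` -/
theorem exists_moved [Finite G] (c : Ctx Ω z V k) {u y : G} {a : Ω} (hu : Bad Ω u)
    (hua : u • a = a) (hy : RElt k y) (hyu : Commute y u) (hyV : ∀ v ∈ V a, Commute y v) :
    ∃ e : Ω, y • e = e ∧ u • e ≠ e := by
  obtain ⟨d, hd, hd1⟩ := c.exists_ne_one a
  have hdA := c.mem_At hd hd1
  have hdu : Commute d u := (c.bad u a hu hua d hd).symm
  have hbad : Bad Ω (u * d) := bad_mul c.setup c.faithful hu hdA.1 hdu
  have hya : y • a = a := c.setup.fix_of_commute hdA.1 (hyV d hd) hdA.2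
  have hyud : Commute y (u * d) := hyu.mul_right (hyV d hd)
  obtain ⟨r, j, hr, hrd, hj⟩ := hy
  let f : {p : Ω // (u * d) • p = p ∧ p ≠ a} → {p : Ω // (u * d) • p = p ∧ p ≠ a} :=
    fun p => ⟨y • (p : Ω), by
      rw [← mul_smul, ← hyud.eq, mul_smul, p.2.1], fun hh => p.2.2
        (smul_left_cancel y (hh.trans hya.symm))⟩
  have hfinΩ := c.setup.finite_points
  have hcard : Nat.card {p : Ω // (u * d) • p = p ∧ p ≠ a} = (2 ^ k) ^ 3 := by
    classical
    have h0 := c.fix _ hbad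
    have h1 : Nat.card {p : Ω // (u * d) • p = p} =
        Nat.card {p : Ω // (u * d) • p = p ∧ p ≠ a} + 1 := by
      rw [← Finite.card_option]
      refine Nat.card_congr
        { toFun := fun x => if h : (x : Ω) = a then none else some ⟨x, x.2, h⟩
          invFun := fun o => o.elim ⟨a, by rw [mul_smul, hdA.2, hua]⟩ (fun x => ⟨x, x.2.1⟩)
          left_inv := ?_
          right_inv := ?_ }
      · rintro ⟨x, hx⟩
        by_cases h : x = a
        · subst h; simp
        · simp [h]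
      · rintro (_ | ⟨x, hx, hx'⟩)
        · simp
        · simp [hx']
    omega
  obtain ⟨x, hx⟩ := exists_fix_of_iterate (n := j) hr f (by
    intro x
    apply Subtype.ext
    rw [smul_iterate (fun x : {p : Ω // (u * d) • p = p ∧ p ≠ a} => (x : Ω)) y f
      (fun x => rfl), ← hj, pow_orderOf_eq_one, one_smul]) (by
    rw [hcard, ← pow_mul]; exact r_not_dvd_pow hr c.two_le hrd)
  refine ⟨x, congrArg Subtype.val hx, ?_⟩
  intro hux
  have h2 : d • (x : Ω) = x := by
    have h3 : (d * u) • (x : Ω) = x := by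
      rw [hdu.eq]; exact x.2.1
    rwa [mul_smul, hux] at h3
  exact x.2.2 (c.setup.uniq hdA.1 h2 hdA.2)

/-- the number of `D`-points of a subgroup -/
theorem card_pts_eq [Finite G] (c : Ctx Ω z V k) {H : Subgroup G} {a b e : Ω} {u : G}
    (hab : a ≠ b) (haH : V a ≤ H) (hbH : V b ≤ H) (hu : Bad Ω u) (huH : u ∈ H)
    (hua : u • a = a) (hub : u • b = b) (heH : e ∈ pts Ω z H) (hue : u • e ≠ e) {f : ℕ}
    (hf : Nat.card {p : Ω // p ∈ pts Ω z H ∧ u • p = p} = f + 1) :
    Nat.card (pts Ω z H) = (f + 1) + (f + 1) * f * (2 ^ k - 1) := by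
  classical
  have hfinΩ := c.setup.finite_points
  obtain ⟨d, hd, hd1⟩ := c.exists_ne_one a
  obtain ⟨d', hd', hd1'⟩ := c.exists_ne_one b
  have hdA := c.mem_At hd hd1
  have hdB := c.mem_At hd' hd1'
  have hap : a ∈ pts Ω z H := c.mem_pts_of_le haH
  have hbp : b ∈ pts Ω z H := c.mem_pts_of_le hbH
  have hS := setup_pts c.setup hab hdA hdB (haH hd) (hbH hd')
  have hconj := isConj_subgroup_iff c.setup hab hdA hdB (haH hd) (hbH hd')
  set Y := (rho Ω z H).range with hY
  set π : H →* Y := (rho Ω z H).rangeRestrict with hπ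
  have hπs : Function.Surjective π := (rho Ω z H).rangeRestrict_surjective
  have hc : ∀ (g : H) (p : pts Ω z H), π g • p = g • p := fun g p => rfl
  set z' : H := ⟨d, haH hd⟩ with hz'
  have hSY : Setup Y (pts Ω z H) (π z') := setup_map hS π hπs hc
  have hfY : ∀ g : Y, (∀ p : pts Ω z H, g • p = p) → g = 1 := by
    intro g hg
    apply Subtype.ext
    ext p
    exact congrArg Subtype.val (hg p)
  have hinj : ∀ x x' : H, (x : G) ∈ V a → (x' : G) ∈ V a → π x = π x' → x = x' := by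
    intro x x' hx hx' h1
    have h2 : π (x⁻¹ * x') = 1 := by rw [map_mul, map_inv, h1, inv_mul_cancel]
    have h3 : rho Ω z H (x⁻¹ * x') = 1 := congrArg Subtype.val h2
    have h4 := c.injV hab hbp (x := x⁻¹ * x') (mul_mem (inv_mem hx) hx') h3
    exact (inv_mul_eq_one.mp h4)
  -- the elements of the class at `a`
  have hAt : ∀ g : Y, g ∈ At (π z') (⟨a, hap⟩ : pts Ω z H) ↔
      ∃ x : H, (x : G) ∈ At z a ∧ π x = g := by
    intro g
    constructor
    · rintro ⟨h1, h2⟩
      obtain ⟨t, rfl⟩ := isConj_iff.mp h1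
      obtain ⟨s, rfl⟩ := hπs t
      refine ⟨s * z' * s⁻¹, ⟨?_, ?_⟩, by simp⟩
      · exact (hconj _).mp (isConj_iff.mpr ⟨s, rfl⟩)
      · have h3 : π (s * z' * s⁻¹) • (⟨a, hap⟩ : pts Ω z H) = ⟨a, hap⟩ := by
          rw [map_mul, map_mul, map_inv]; exact h2
        rw [hc] at h3
        exact congrArg Subtype.val h3
    · rintro ⟨x, hx, rfl⟩
      refine ⟨π.map_isConj ((hconj x).mpr hx.1), ?_⟩
      rw [hc]
      exact Subtype.ext hx.2
  have hcardAt : Nat.card (At (π z') (⟨a, hap⟩ : pts Ω z H)) = 2 ^ k - 1 := by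
    rw [← c.card_at a]
    symm
    refine Nat.card_congr (Equiv.ofBijective
      (fun x => (⟨π ⟨x, haH (c.mem_V_of x.2)⟩, (hAt _).mpr ⟨⟨x, haH (c.mem_V_of x.2)⟩, x.2, rfl⟩⟩ :
        At (π z') (⟨a, hap⟩ : pts Ω z H))) ⟨?_, ?_⟩)
    · intro x x' hxx
      have h1 := hinj _ _ (c.mem_V_of x.2) (c.mem_V_of x'.2) (congrArg Subtype.val hxx)
      exact Subtype.ext (congrArg (fun w : H => (w : G)) h1)
    · rintro ⟨g, hg⟩
      obtain ⟨x, hx, rfl⟩ := (hAt g).mp hg
      exact ⟨⟨x, hx⟩, rfl⟩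
  -- `NonIso`
  have hnY : NonIso (π z') := by
    have h1 : 1 < Nat.card (At (π z') (⟨a, hap⟩ : pts Ω z H)) := by
      rw [hcardAt]; have := c.two_le_q; omega
    have hmem : (π z') ∈ At (π z') (⟨a, hap⟩ : pts Ω z H) := (hAt _).mpr ⟨z', hdA, rfl⟩
    have : Finite (At (π z') (⟨a, hap⟩ : pts Ω z H)) := inferInstance
    have hnt := Finite.one_lt_card_iff_nontrivial.mp h1
    obtain ⟨w, hw⟩ := exists_ne (⟨π z', hmem⟩ : At (π z') (⟨a, hap⟩ : pts Ω z H))
    obtain ⟨x, hx, hxw⟩ := (hAt _).mp w.2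
    refine ⟨w, w.2.1, ?_, fun hh => hw (Subtype.ext hh)⟩
    rw [← hxw]
    have h2 : Commute z' x := Subtype.ext (c.comm_V hd (c.mem_V_of hx))
    exact h2.map π
  set u' : H := ⟨u, huH⟩ with hu'
  have hne : π u' ≠ 1 := by
    intro h1
    apply hue
    have h2 : rho Ω z H u' = 1 := congrArg Subtype.val h1
    exact (rho_eq_one_iff u').mp h2 e heH
  have hbad : Bad (pts Ω z H) (π u') := by
    refine ⟨?_, ⟨a, hap⟩, ⟨b, hbp⟩, fun hh => hab (congrArg Subtype.val hh), ?_, ?_⟩
    · refine orderOf_eq_two_of_mul_self ?_ hne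
      rw [← map_mul]
      have : u' * u' = 1 := Subtype.ext hu.mul_self
      rw [this, map_one]
    · rw [hc]; exact Subtype.ext hua
    · rw [hc]; exact Subtype.ext hub
  have hcardAtC : Nat.card (AtC (π z') (π u') (⟨a, hap⟩ : pts Ω z H)) = 2 ^ k - 1 := by
    have h1 : AtC (π z') (π u') (⟨a, hap⟩ : pts Ω z H) = At (π z') (⟨a, hap⟩ : pts Ω z H) := by
      ext g
      constructor
      · exact fun hg => hg.1
      · intro hg
        refine ⟨hg, ?_⟩
        obtain ⟨x, hx, rfl⟩ := (hAt g).mp hg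
        have h2 : Commute x u' := Subtype.ext (c.bad u a hu hua x (c.mem_V_of hx)).symm
        exact h2.map π
    rw [h1, hcardAt]
  have hcount := Cfsg.Agent.AschCrit.Count.count hSY hbad.mul_self
    (fun y hy hyu => isConj_mul hSY hfY hnY hbad hy hyu) (a := ⟨a, hap⟩) (e := ⟨e, heH⟩)
    (by rw [hc]; exact Subtype.ext hua)
    (by rw [hc]; exact fun hh => hue (congrArg Subtype.val hh)) (⟨a, hap⟩ : pts Ω z H)
  have hcf : Nat.card {p : pts Ω z H // π u' • p = p} = f + 1 := by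
    rw [← hf]
    refine Nat.card_congr
      { toFun := fun p => ⟨p.1, p.1.2, congrArg Subtype.val p.2⟩
        invFun := fun p => ⟨⟨p.1, p.2.1⟩, Subtype.ext p.2.2⟩
        left_inv := fun p => rfl
        right_inv := fun p => rfl }
  rw [hcf, hcardAt, hcardAtC] at hcount
  have hle : f + 1 ≤ Nat.card (pts Ω z H) := by
    rw [← hcf]
    exact Nat.card_le_card_of_injective _ Subtype.val_injective
  obtain ⟨n, hn⟩ := Nat.exists_eq_add_of_le hle
  rw [hn] at hcount ⊢
  have hq : 0 < 2 ^ k - 1 := by have := c.two_le_q; omega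
  congr 1
  have h5 : n * (2 ^ k - 1) = ((f + 1) * f * (2 ^ k - 1)) * (2 ^ k - 1) := by
    have h6 : f + 1 + n - (f + 1) = n := by omega
    have h7 : f + 1 - 1 = f := by omega
    rw [h6, h7] at hcount
    rw [hcount]; ring
  exact Nat.eq_of_mul_eq_mul_right hq h5

end Ctx

end Cfsg.Agent.AschCrit.CommFive
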